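import Mathlib
import Groth.Agent.Lib.Helper21.PowerSeriesAdic

/-!
# Power series rings over a field as complete local rings (helper61)

* `maximalIdeal_eq_span_X`: the maximal ideal of `k[[t_1..t_n]]` is generated by the variables.
* `surjective_and_ker_le_sq`: a `k`-algebra map `k[[t_1..t_d]] → R` to a complete Noetherian local
  `k`-algebra with residue field `k` sending the variables to a basis of the cotangent space is
  surjective with kernel in `m²`.
-/

set_option autoImplicit false

namespace Groth.Agent.Lib.Helper61.PSLocal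

open MvPowerSeries IsLocalRing

universe u

theorem maximalIdeal_eq_span_X {k : Type*} [Field k] {n : ℕ} :
    maximalIdeal (MvPowerSeries (Fin n) k) = Ideal.span (Set.range X) := by
  apply le_antisymm
  · intro f hf
    have h0 : constantCoeff f = 0 := by
      by_contra h
      exact (mem_maximalIdeal _).1 hf
        (MvPowerSeries.isUnit_iff_constantCoeff.2 (isUnit_iff_ne_zero.2 h))
    rw [Groth.Agent.Lib.Helper21.PSAdic.eq_C_add_sum f, h0, map_zero, zero_add]
    exact Ideal.sum_mem _ (fun i _ => Ideal.mul_mem_right _ _ (Ideal.subset_span ⟨i, rfl⟩))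
  · rw [Ideal.span_le]
    rintro _ ⟨i, rfl⟩
    rw [SetLike.mem_coe, mem_maximalIdeal, mem_nonunits_iff,
      MvPowerSeries.isUnit_iff_constantCoeff]
    simp

theorem mem_maximalIdeal_iff {k : Type*} [Field k] {n : ℕ} (f : MvPowerSeries (Fin n) k) :
    f ∈ maximalIdeal (MvPowerSeries (Fin n) k) ↔ constantCoeff f = 0 := by
  rw [mem_maximalIdeal, mem_nonunits_iff, MvPowerSeries.isUnit_iff_constantCoeff,
    isUnit_iff_ne_zero, not_not]

/-- scalars from the field mapping into the maximal ideal vanish. -/
theorem eq_zero_of_algebraMap_mem {k : Type*} [Field k] {R : Type*} [CommRing R] [IsLocalRing R]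
    [Algebra k R] (c : k) (h : algebraMap k R c ∈ maximalIdeal R) : c = 0 := by
  by_contra hc
  exact (mem_maximalIdeal _).1 h ((isUnit_iff_ne_zero.2 hc).map (algebraMap k R))

section

variable (k : Type u) [Field k] (R : Type u) [CommRing R] [IsLocalRing R] [IsNoetherianRing R]
  [Algebra k R] (d : ℕ) (ψ : MvPowerSeries (Fin d) k →ₐ[k] R)
  (hψ : ∀ i : Fin d, ψ (MvPowerSeries.X i) ∈ IsLocalRing.maximalIdeal R)

include hψ in
theorem span_range_eq_maximalIdeal
    (hsp : Submodule.span (IsLocalRing.ResidueField R)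
      (Set.range (fun i : Fin d => (IsLocalRing.maximalIdeal R).toCotangent
        ⟨ψ (MvPowerSeries.X i), hψ i⟩)) = ⊤) :
    Ideal.span (Set.range (fun i : Fin d => ψ (MvPowerSeries.X i))) = maximalIdeal R := by
  have h1 : Set.range (fun i : Fin d => (IsLocalRing.maximalIdeal R).toCotangent
        ⟨ψ (MvPowerSeries.X i), hψ i⟩) = (maximalIdeal R).toCotangent ''
        (Set.range (fun i : Fin d => (⟨ψ (MvPowerSeries.X i), hψ i⟩ : maximalIdeal R))) := by
    rw [← Set.range_comp]
    rfl
  rw [h1, CotangentSpace.span_image_eq_top_iff] at hsp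
  have h2 := congrArg (Submodule.map (Submodule.subtype (maximalIdeal R))) hsp
  rw [Submodule.map_span, Submodule.map_top, Submodule.range_subtype, ← Set.range_comp] at h2
  exact h2

include hψ in
theorem map_maximalIdeal_eq
    (hsp : Submodule.span (IsLocalRing.ResidueField R)
      (Set.range (fun i : Fin d => (IsLocalRing.maximalIdeal R).toCotangent
        ⟨ψ (MvPowerSeries.X i), hψ i⟩)) = ⊤) :
    (maximalIdeal (MvPowerSeries (Fin d) k)).map (ψ : MvPowerSeries (Fin d) k →+* R) =
      maximalIdeal R := by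
  rw [maximalIdeal_eq_span_X, Ideal.map_span, ← Set.range_comp]
  exact span_range_eq_maximalIdeal k R d ψ hψ hsp

include hψ in
theorem surjective [IsAdicComplete (IsLocalRing.maximalIdeal R) R]
    (hR : Function.Surjective ((IsLocalRing.residue R).comp (algebraMap k R)))
    (hsp : Submodule.span (IsLocalRing.ResidueField R)
      (Set.range (fun i : Fin d => (IsLocalRing.maximalIdeal R).toCotangent
        ⟨ψ (MvPowerSeries.X i), hψ i⟩)) = ⊤) :
    Function.Surjective ψ := by
  have hmap := map_maximalIdeal_eq k R d ψ hψ hsp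
  have hHaus : IsHausdorff ((maximalIdeal (MvPowerSeries (Fin d) k)).map
      (ψ : MvPowerSeries (Fin d) k →+* R)) R := by
    rw [hmap]
    infer_instance
  have hprec : IsPrecomplete (maximalIdeal (MvPowerSeries (Fin d) k))
      (MvPowerSeries (Fin d) k) := by
    rw [maximalIdeal_eq_span_X]
    infer_instance
  apply surjective_of_mk_map_comp_surjective (I := maximalIdeal (MvPowerSeries (Fin d) k))
    (ψ : MvPowerSeries (Fin d) k →+* R)
  intro y
  obtain ⟨s, rfl⟩ := Ideal.Quotient.mk_surjective y
  obtain ⟨c, hc⟩ := hR (IsLocalRing.residue R s)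
  refine ⟨algebraMap k _ c, ?_⟩
  simp only [RingHom.comp_apply] at hc ⊢
  rw [Ideal.Quotient.eq, hmap]
  have h2 : (ψ : MvPowerSeries (Fin d) k →+* R) (algebraMap k _ c) = algebraMap k R c := by
    simp
  rw [h2]
  have h3 : IsLocalRing.residue R (algebraMap k R c - s) = 0 := by
    rw [map_sub, hc, sub_self]
  exact (IsLocalRing.residue_eq_zero_iff _).1 h3

omit [IsNoetherianRing R] in
include hψ in
theorem map_mem_maximalIdeal (f : MvPowerSeries (Fin d) k)
    (hf : f ∈ maximalIdeal (MvPowerSeries (Fin d) k)) : ψ f ∈ maximalIdeal R := by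
  rw [maximalIdeal_eq_span_X] at hf
  have : (Ideal.span (Set.range X)).map (ψ : MvPowerSeries (Fin d) k →+* R) ≤ maximalIdeal R := by
    rw [Ideal.map_span, Ideal.span_le]
    rintro _ ⟨_, ⟨i, rfl⟩, rfl⟩
    exact hψ i
  exact this (Ideal.mem_map_of_mem _ hf)

omit [IsNoetherianRing R] in
include hψ in
theorem ker_le_sq
    (hb : LinearIndependent (IsLocalRing.ResidueField R)
      (fun i : Fin d => (IsLocalRing.maximalIdeal R).toCotangent ⟨ψ (MvPowerSeries.X i), hψ i⟩)) :
    RingHom.ker ψ.toRingHom ≤ IsLocalRing.maximalIdeal (MvPowerSeries (Fin d) k) ^ 2 := by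
  intro f hf
  rw [RingHom.mem_ker] at hf
  have hf' : ψ f = 0 := hf
  -- f lies in the maximal ideal
  have hfm : f ∈ maximalIdeal (MvPowerSeries (Fin d) k) := by
    rw [mem_maximalIdeal, mem_nonunits_iff]
    intro hu
    have := hu.map ψ
    rw [hf'] at this
    exact not_isUnit_zero this
  have h0 : constantCoeff f = 0 := (mem_maximalIdeal_iff f).1 hfm
  set g : Fin d → MvPowerSeries (Fin d) k := fun i => Groth.Agent.Lib.Helper21.PSAdic.part i f
    with hg
  have e1 : f = ∑ i, X i * g i := by
    conv_lhs => rw [Groth.Agent.Lib.Helper21.PSAdic.eq_C_add_sum f, h0, map_zero, zero_add]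
  set c : Fin d → k := fun i => constantCoeff (g i) with hc
  set h : Fin d → MvPowerSeries (Fin d) k := fun i => g i - C (c i) with hh
  have hhm : ∀ i, h i ∈ maximalIdeal (MvPowerSeries (Fin d) k) := by
    intro i
    rw [mem_maximalIdeal_iff]
    simp [hh, hc]
  have e2 : f = ∑ i, X i * C (c i) + ∑ i, X i * h i := by
    rw [← Finset.sum_add_distrib]
    conv_lhs => rw [e1]
    refine Finset.sum_congr rfl (fun i _ => ?_)
    simp only [hh]
    ring
  have hXm : ∀ i, (X i : MvPowerSeries (Fin d) k) ∈ maximalIdeal (MvPowerSeries (Fin d) k) := by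
    intro i
    rw [mem_maximalIdeal_iff]
    simp
  have hsq : ∑ i, X i * h i ∈ maximalIdeal (MvPowerSeries (Fin d) k) ^ 2 := by
    rw [pow_two]
    exact Ideal.sum_mem _ (fun i _ => Ideal.mul_mem_mul (hXm i) (hhm i))
  -- apply ψ
  have e3 : ∑ i, algebraMap k R (c i) * ψ (X i) ∈ maximalIdeal R ^ 2 := by
    have : ∑ i, algebraMap k R (c i) * ψ (X i) = - ψ (∑ i, X i * h i) := by
      have e4 : ψ f = 0 := hf'
      rw [e2, map_add] at e4
      have e5' : ψ (∑ i, X i * C (c i)) = ∑ i, algebraMap k R (c i) * ψ (X i) := by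
        rw [map_sum]
        refine Finset.sum_congr rfl (fun i _ => ?_)
        have hC : (C (c i) : MvPowerSeries (Fin d) k) = algebraMap k _ (c i) := by
          simp [MvPowerSeries.algebraMap_apply]
        rw [map_mul, mul_comm, hC, AlgHom.commutes]
      rw [eq_neg_iff_add_eq_zero, ← e4, e5']
    rw [this]
    refine Ideal.neg_mem_iff _ |>.2 ?_
    rw [map_sum, pow_two]
    refine Ideal.sum_mem _ (fun i _ => ?_)
    rw [map_mul]
    exact Ideal.mul_mem_mul (hψ i) (map_mem_maximalIdeal k R d ψ hψ _ (hhm i))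
  have e5 : ∑ i, (residue R (algebraMap k R (c i))) •
      (IsLocalRing.maximalIdeal R).toCotangent ⟨ψ (MvPowerSeries.X i), hψ i⟩ = 0 := by
    have : ∀ i, (residue R (algebraMap k R (c i))) •
      (IsLocalRing.maximalIdeal R).toCotangent ⟨ψ (MvPowerSeries.X i), hψ i⟩ =
        (IsLocalRing.maximalIdeal R).toCotangent
          ((algebraMap k R (c i)) • ⟨ψ (MvPowerSeries.X i), hψ i⟩) := by
      intro i
      rw [map_smul]
      rfl
    simp_rw [this]
    rw [← map_sum, Ideal.toCotangent_eq_zero]
    convert e3 using 1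
    simp [Algebra.smul_def]
  have e6 := (Fintype.linearIndependent_iff.1 hb) _ e5
  have hc0 : ∀ i, c i = 0 := by
    intro i
    apply eq_zero_of_algebraMap_mem (R := R)
    exact (IsLocalRing.residue_eq_zero_iff _).1 (e6 i)
  rw [e2]
  simp only [hc0, map_zero, mul_zero, Finset.sum_const_zero, zero_add]
  exact hsq

end

end Groth.Agent.Lib.Helper61.PSLocal
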