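import Mathlib
import Groth.Prelude.Def_CAlg2
import Groth.Agent.Lib.Helper38.NormRedDom

/-!
# Geometrically unibranch local domains through an abstract normalization (helper61)

`exists_ringEquiv_normRed`: uniqueness of the normalization of a domain.
`isGeomUnibranch_of_normalization`: a local domain `B` with an integral fraction extension
`φ : B → D` into a local integrally closed domain whose residue field is purely inseparable
(`p^n`-th powers come from `B`) is geometrically unibranch.
`exists_pow_sub_mem_of_isGeomUnibranch`: the converse extraction for `CAlg2.normRed`.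
-/

set_option autoImplicit false
universe u

namespace Groth.Agent.Lib.Helper61.GU

open Groth.Agent.Lib.Helper38

/-- Uniqueness of the normalization: an integral fraction extension of a domain `B` into an
integrally closed domain is `CAlg2.normRed B`. -/
theorem exists_ringEquiv_normRed {B D : Type u} [CommRing B] [IsDomain B] [CommRing D] [IsDomain D]
    [IsIntegrallyClosed D] (φ : B →+* D) (hφ : IsFracExt φ) (hφi : φ.IsIntegral) :
    ∃ e : D ≃+* CAlg2.normRed B, ∀ b, e (φ b) = NormRedDom.iota B b := by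
  have hι := NormRedDom.iota_isFracExt B
  have hιi := NormRedDom.iota_isIntegral B
  have hND1 : ∀ c : B, c ≠ 0 → ∀ t : CAlg2.normRed B, t * NormRedDom.iota B c = 0 → t = 0 := by
    intro c hc t ht
    have : NormRedDom.iota B c ≠ 0 := fun h0 => hc (hι.inj (by rw [h0, map_zero]))
    exact (mul_eq_zero.mp ht).resolve_right this
  have hND2 : ∀ c : B, c ≠ 0 → ∀ t : D, t * φ c = 0 → t = 0 := by
    intro c hc t ht
    have : φ c ≠ 0 := fun h0 => hc (hφ.inj (by rw [h0, map_zero]))
    exact (mul_eq_zero.mp ht).resolve_right this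
  obtain ⟨χ₁, hχ₁⟩ := NormDesc.exists_ringHom hφ (NormRedDom.iota B) hND1 (by
    intro b a c hc hbc
    exact NormDesc.exists_mul_eq φ hφ.inj (NormRedDom.iota B) b (hφi b) a c hbc
      (fun h0 => hc (hι.inj (by rw [h0, map_zero]))))
  obtain ⟨χ₂, hχ₂⟩ := NormDesc.exists_ringHom hι φ hND2 (by
    intro b a c hc hbc
    exact NormDesc.exists_mul_eq (NormRedDom.iota B) hι.inj φ b (hιi b) a c hbc
      (fun h0 => hc (hφ.inj (by rw [h0, map_zero]))))
  have h21 : χ₂.comp χ₁ = RingHom.id D :=
    NormDesc.ringHom_ext hφ φ hND2 _ _ (by rw [RingHom.comp_assoc, hχ₁, hχ₂]) (by simp)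
  have h12 : χ₁.comp χ₂ = RingHom.id (CAlg2.normRed B) :=
    NormDesc.ringHom_ext hι (NormRedDom.iota B) hND1 _ _
      (by rw [RingHom.comp_assoc, hχ₂, hχ₁]) (by simp)
  refine ⟨RingEquiv.ofRingHom χ₁ χ₂ h12 h21, fun b => ?_⟩
  have := congrArg (fun f => f b) hχ₁
  simpa using this

/-- Criterion for geometric unibranchness through an abstract normalization. -/
theorem isGeomUnibranch_of_normalization {B D : Type u} [CommRing B] [IsLocalRing B] [IsDomain B]
    [CommRing D] [IsDomain D] [IsIntegrallyClosed D] [IsLocalRing D]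
    (φ : B →+* D) (hφ : IsFracExt φ) (hφi : φ.IsIntegral)
    (hres : ∀ x : D ⧸ IsLocalRing.maximalIdeal D, ∃ n : ℕ,
      x ^ (ringExpChar (D ⧸ IsLocalRing.maximalIdeal D)) ^ n ∈
        ((Ideal.Quotient.mk (IsLocalRing.maximalIdeal D)).comp φ).range) :
    CAlg2.IsGeomUnibranch B := by
  obtain ⟨e, he⟩ := exists_ringEquiv_normRed φ hφ hφi
  have hloc : IsLocalRing (CAlg2.normRed B) := e.isLocalRing
  refine ⟨⟨inferInstance, hloc⟩, ?_⟩
  intro m' hm'
  have hm'eq : m' = IsLocalRing.maximalIdeal (CAlg2.normRed B) := IsLocalRing.eq_maximalIdeal hm'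
  -- the induced map on residue fields
  have hle : IsLocalRing.maximalIdeal D ≤ m'.comap (e : D →+* CAlg2.normRed B) := by
    intro d hd
    rw [Ideal.mem_comap, hm'eq]
    by_contra hnot
    have hu : IsUnit ((e : D →+* CAlg2.normRed B) d) := by
      by_contra hnu
      exact hnot ((IsLocalRing.mem_maximalIdeal _).mpr hnu)
    have hu' : IsUnit d := by
      have := hu.map (e.symm : CAlg2.normRed B →+* D)
      simpa using this
    exact (IsLocalRing.mem_maximalIdeal _).mp hd hu'
  let ē : D ⧸ IsLocalRing.maximalIdeal D →+* CAlg2.normRed B ⧸ m' :=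
    Ideal.quotientMap m' (e : D →+* CAlg2.normRed B) hle
  have hēsurj : Function.Surjective ē :=
    Ideal.quotientMap_surjective e.surjective
  have hēinj : Function.Injective ē := by
    apply Ideal.quotientMap_injective'
    apply IsLocalRing.le_maximalIdeal
    rw [Ne, Ideal.comap_eq_top_iff]
    exact hm'.ne_top
  have hE1 : ExpChar (D ⧸ IsLocalRing.maximalIdeal D)
      (ringExpChar (D ⧸ IsLocalRing.maximalIdeal D)) := ringExpChar.expChar _
  have hE2 : ExpChar (CAlg2.normRed B ⧸ m') (ringExpChar (D ⧸ IsLocalRing.maximalIdeal D)) :=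
    expChar_of_injective_ringHom hēinj _
  have hpp : ringExpChar (CAlg2.normRed B ⧸ m') =
      ringExpChar (D ⧸ IsLocalRing.maximalIdeal D) := ringExpChar.eq _ _
  intro x
  obtain ⟨y, rfl⟩ := hēsurj x
  obtain ⟨n, b, hb⟩ := hres y
  refine ⟨n, b, ?_⟩
  have h1 : ē (y ^ ringExpChar (D ⧸ IsLocalRing.maximalIdeal D) ^ n) =
      ē y ^ ringExpChar (CAlg2.normRed B ⧸ m') ^ n := by rw [hpp, map_pow]
  rw [← h1, ← hb]
  change Ideal.Quotient.mk m' (NormRedDom.iota B b) = _
  rw [← he b]
  rfl

/-- Extraction: for a geometrically unibranch local domain `A`, every element of `normRed A` has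
a `p^n`-th power congruent to an element of `A` modulo the maximal ideal. -/
theorem exists_pow_sub_mem_of_isGeomUnibranch {A : Type u} [CommRing A] [IsLocalRing A]
    [IsDomain A] (hgu : CAlg2.IsGeomUnibranch A) :
    letI : IsLocalRing (CAlg2.normRed A) := hgu.1.2
    ∀ a' : CAlg2.normRed A, ∃ (n : ℕ) (a : A),
      a' ^ (ringExpChar (CAlg2.normRed A ⧸ IsLocalRing.maximalIdeal (CAlg2.normRed A))) ^ n -
        NormRedDom.iota A a ∈ IsLocalRing.maximalIdeal (CAlg2.normRed A) := by
  let _ : IsLocalRing (CAlg2.normRed A) := hgu.1.2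
  intro a'
  obtain ⟨n, a, ha⟩ := hgu.2 (IsLocalRing.maximalIdeal (CAlg2.normRed A))
    (Ideal.Quotient.mk _ a')
  refine ⟨n, a, ?_⟩
  rw [← Ideal.Quotient.eq, map_pow, ← ha]
  rfl

/-- Geometric unibranchness of local domains is invariant under ring isomorphisms. -/
theorem isGeomUnibranch_of_ringEquiv {B B' : Type u} [CommRing B] [IsLocalRing B] [IsDomain B]
    [CommRing B'] [IsLocalRing B'] [IsDomain B'] (e : B ≃+* B')
    (h : CAlg2.IsGeomUnibranch B) : CAlg2.IsGeomUnibranch B' := by
  have : IsLocalRing (CAlg2.normRed B) := h.1.2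
  have hι := NormRedDom.iota_isFracExt B
  have hιi := NormRedDom.iota_isIntegral B
  refine isGeomUnibranch_of_normalization ((NormRedDom.iota B).comp (e.symm : B' →+* B)) ?_ ?_ ?_
  · refine ⟨hι.inj.comp e.symm.injective, fun d => ?_⟩
    obtain ⟨a, c, hc, hac⟩ := hι.frac d
    refine ⟨e a, e c, fun h0 => hc ?_, ?_⟩
    · have := congrArg e.symm h0
      simpa using this
    · simpa using hac
  · exact RingHom.IsIntegral.trans _ _
      (RingHom.isIntegral_of_surjective _ e.symm.surjective) hιi
  · intro x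
    obtain ⟨n, b, hb⟩ := h.2 (IsLocalRing.maximalIdeal (CAlg2.normRed B)) x
    refine ⟨n, e b, ?_⟩
    rw [← hb]
    simp only [RingHom.comp_apply, RingEquiv.coe_toRingHom, RingEquiv.symm_apply_apply]
    rfl

end Groth.Agent.Lib.Helper61.GU
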