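import Mathlib
import Groth.Agent.Lib.Helper61.GU1

/-!
# Base change of a purely inseparable local normalization (helper61)

For `A → A'` with `A'` local, residue field of `A'` "purely inseparable" over `A`
(`p^n`-th powers of elements of `A'` are congruent to elements of `A`), and any `A`-algebra `B`:
every element of `B ⊗[A] A'` has a `p^n`-th power congruent to an element of `B` modulo
`𝔪' (B ⊗ A')`.  Consequently `B ⊗[A] A'` has at most one maximal ideal over a given maximal ideal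
of `B`, and purely inseparable residue field.
-/

set_option autoImplicit false
universe u

namespace Groth.Agent.Lib.Helper61.GU

open TensorProduct

section frob

/-- Additivity of `x ↦ x ^ p ^ n` in a commutative ring in which `p = 1` or `p` is a prime that
vanishes. -/
theorem add_pow_pow_of {Q : Type*} [CommRing Q] (p : ℕ) (hp : p = 1 ∨ (p.Prime ∧ (p : Q) = 0))
    (x y : Q) (n : ℕ) : (x + y) ^ p ^ n = x ^ p ^ n + y ^ p ^ n := by
  rcases hp with rfl | ⟨hpp, hp0⟩
  · simp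
  · rcases subsingleton_or_nontrivial Q with h | h
    · exact Subsingleton.elim _ _
    · have : CharP Q p := (CharP.charP_iff_prime_eq_zero hpp).mpr hp0
      have : Fact p.Prime := ⟨hpp⟩
      exact add_pow_char_pow x y p n

end frob

section tensor

variable {A B A' : Type*} [CommRing A] [CommRing B] [CommRing A'] [Algebra A B] [Algebra A A']

/-- The extension of an ideal of `A'` to `B ⊗[A] A'`. -/
noncomputable def extIdeal (m' : Ideal A') : Ideal (B ⊗[A] A') :=
  m'.map (Algebra.TensorProduct.includeRight : A' →ₐ[A] B ⊗[A] A').toRingHom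

theorem tmul_mem_extIdeal (m' : Ideal A') (b : B) {a' : A'} (ha' : a' ∈ m') :
    b ⊗ₜ[A] a' ∈ extIdeal (A := A) (B := B) m' := by
  have h1 : (1 : B) ⊗ₜ[A] a' ∈ extIdeal (A := A) (B := B) m' :=
    Ideal.mem_map_of_mem _ ha'
  have h2 : b ⊗ₜ[A] a' = (b ⊗ₜ[A] (1 : A')) * ((1 : B) ⊗ₜ[A] a') := by
    simp
  rw [h2]
  exact Ideal.mul_mem_left _ _ h1

/-- Key lemma: `p^n`-th powers in `B ⊗[A] A'` come from `B` modulo `𝔪'`. -/
theorem exists_pow_sub_mem (m' : Ideal A') (p : ℕ)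
    (hp : p = 1 ∨ (p.Prime ∧ (p : A') ∈ m'))
    (hA' : ∀ a' : A', ∃ (n : ℕ) (a : A), a' ^ p ^ n - algebraMap A A' a ∈ m')
    (d : B ⊗[A] A') :
    ∃ (n : ℕ) (b : B), d ^ p ^ n - algebraMap B (B ⊗[A] A') b ∈ extIdeal (A := A) (B := B) m' := by
  set J := extIdeal (A := A) (B := B) m' with hJ
  have hpQ : p = 1 ∨ (p.Prime ∧ (p : (B ⊗[A] A') ⧸ J) = 0) := by
    rcases hp with h | ⟨h1, h2⟩
    · exact Or.inl h
    · refine Or.inr ⟨h1, ?_⟩
      have h3 : ((p : ℕ) : B ⊗[A] A') ∈ J := by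
        have := tmul_mem_extIdeal (A := A) (B := B) m' (1 : B) h2
        have h4 : (1 : B) ⊗ₜ[A] ((p : ℕ) : A') = ((p : ℕ) : B ⊗[A] A') := by
          rw [← map_natCast (Algebra.TensorProduct.includeRight : A' →ₐ[A] B ⊗[A] A')]
          rfl
        rwa [h4] at this
      rw [← map_natCast (Ideal.Quotient.mk J)]
      exact Ideal.Quotient.eq_zero_iff_mem.mpr h3
  suffices h : ∃ (n : ℕ) (b : B), (Ideal.Quotient.mk J d) ^ p ^ n =
      Ideal.Quotient.mk J (algebraMap B (B ⊗[A] A') b) by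
    obtain ⟨n, b, h⟩ := h
    refine ⟨n, b, ?_⟩
    rw [← Ideal.Quotient.eq, map_pow]
    exact h
  induction d using TensorProduct.induction_on with
  | zero =>
    refine ⟨0, 0, ?_⟩
    simp
  | tmul b a' =>
    obtain ⟨n, a, ha⟩ := hA' a'
    refine ⟨n, a • b ^ p ^ n, ?_⟩
    rw [← map_pow, Ideal.Quotient.eq, Algebra.TensorProduct.tmul_pow]
    have h1 : algebraMap B (B ⊗[A] A') (a • b ^ p ^ n) = (b ^ p ^ n) ⊗ₜ[A] (algebraMap A A' a) := by
      rw [Algebra.TensorProduct.algebraMap_apply, Algebra.algebraMap_self, RingHom.id_apply,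
        TensorProduct.smul_tmul, Algebra.smul_def, mul_one]
    rw [h1, ← TensorProduct.tmul_sub]
    exact tmul_mem_extIdeal m' _ ha
  | add d₁ d₂ h₁ h₂ =>
    obtain ⟨n₁, b₁, h₁⟩ := h₁
    obtain ⟨n₂, b₂, h₂⟩ := h₂
    refine ⟨n₁ + n₂, b₁ ^ p ^ n₂ + b₂ ^ p ^ n₁, ?_⟩
    rw [map_add, add_pow_pow_of p hpQ]
    have e1 : (Ideal.Quotient.mk J d₁) ^ p ^ (n₁ + n₂) =
        ((Ideal.Quotient.mk J d₁) ^ p ^ n₁) ^ p ^ n₂ := by
      rw [← pow_mul, ← pow_add]
    have e2 : (Ideal.Quotient.mk J d₂) ^ p ^ (n₁ + n₂) =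
        ((Ideal.Quotient.mk J d₂) ^ p ^ n₂) ^ p ^ n₁ := by
      rw [← pow_mul, ← pow_add, add_comm]
    rw [e1, e2, h₁, h₂]
    simp only [map_add, map_pow]

end tensor

section local_

open IsLocalRing

variable {A B A' : Type*} [CommRing A] [CommRing B] [CommRing A'] [Algebra A B] [Algebra A A']
  [IsLocalRing A] [IsLocalRing B] [IsLocalRing A'] [IsLocalHom (algebraMap A B)]
  [Algebra.IsIntegral A A']

/-- Every maximal ideal of `B ⊗[A] A'` contains the extension of the maximal ideal of `A'`. -/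
theorem extIdeal_le_of_isMaximal (M : Ideal (B ⊗[A] A')) [hM : M.IsMaximal] :
    extIdeal (A := A) (B := B) (maximalIdeal A') ≤ M := by
  have h1 : (M.comap (algebraMap B (B ⊗[A] A'))).IsMaximal :=
    Ideal.isMaximal_comap_of_isIntegral_of_isMaximal (R := B) M
  have h2 : M.comap (algebraMap B (B ⊗[A] A')) = maximalIdeal B := eq_maximalIdeal h1
  have h3 : (maximalIdeal B).comap (algebraMap A B) = maximalIdeal A :=
    ((local_hom_TFAE (algebraMap A B)).out 0 4).mp ‹_›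
  let P' : Ideal A' :=
    M.comap (Algebra.TensorProduct.includeRight : A' →ₐ[A] B ⊗[A] A').toRingHom
  have hP' : P'.IsPrime := Ideal.comap_isPrime _ _
  have h4 : P'.comap (algebraMap A A') = maximalIdeal A := by
    rw [← h3, ← h2]
    ext a
    simp only [P', Ideal.mem_comap]
    have : (Algebra.TensorProduct.includeRight : A' →ₐ[A] B ⊗[A] A').toRingHom
        (algebraMap A A' a) = algebraMap B (B ⊗[A] A') (algebraMap A B a) := by
      change (1 : B) ⊗ₜ[A] (algebraMap A A' a) = (algebraMap A B a) ⊗ₜ[A] (1 : A')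
      rw [Algebra.algebraMap_eq_smul_one a, Algebra.algebraMap_eq_smul_one a,
        TensorProduct.smul_tmul]
    rw [this]
  have h5 : P'.IsMaximal :=
    Ideal.isMaximal_of_isIntegral_of_isMaximal_comap (R := A) P' (h4 ▸ inferInstance)
  have h6 : P' = maximalIdeal A' := eq_maximalIdeal h5
  rw [extIdeal, Ideal.map_le_iff_le_comap, ← h6]

/-- `B ⊗[A] A'` is a local ring. -/
theorem isLocalRing_tensor [Nontrivial (B ⊗[A] A')] (p : ℕ)
    (hp : p = 1 ∨ (p.Prime ∧ (p : A') ∈ maximalIdeal A'))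
    (hA' : ∀ a' : A', ∃ (n : ℕ) (a : A), a' ^ p ^ n - algebraMap A A' a ∈ maximalIdeal A') :
    IsLocalRing (B ⊗[A] A') := by
  obtain ⟨M, hM⟩ := Ideal.exists_maximal (B ⊗[A] A')
  apply IsLocalRing.of_unique_max_ideal
  refine ⟨M, hM, fun M₂ hM₂ => ?_⟩
  have key : ∀ M₁ M₂ : Ideal (B ⊗[A] A'), M₁.IsMaximal → M₂.IsMaximal → M₁ ≤ M₂ := by
    intro M₁ M₂ h₁ h₂ d hd
    obtain ⟨n, b, hb⟩ := exists_pow_sub_mem (B := B) (maximalIdeal A') p hp hA' d
    have hb1 : d ^ p ^ n - algebraMap B (B ⊗[A] A') b ∈ M₁ := extIdeal_le_of_isMaximal M₁ hb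
    have hb2 : d ^ p ^ n - algebraMap B (B ⊗[A] A') b ∈ M₂ := extIdeal_le_of_isMaximal M₂ hb
    have h3 : algebraMap B (B ⊗[A] A') b ∈ M₁ := by
      have := M₁.sub_mem (M₁.pow_mem_of_mem hd (p ^ n) (by
        rcases hp with rfl | ⟨h, -⟩
        · simp
        · exact pow_pos h.pos n)) hb1
      simpa using this
    have e1 : M₁.comap (algebraMap B (B ⊗[A] A')) = maximalIdeal B :=
      eq_maximalIdeal (Ideal.isMaximal_comap_of_isIntegral_of_isMaximal (R := B) M₁)
    have e2 : M₂.comap (algebraMap B (B ⊗[A] A')) = maximalIdeal B :=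
      eq_maximalIdeal (Ideal.isMaximal_comap_of_isIntegral_of_isMaximal (R := B) M₂)
    have h4 : algebraMap B (B ⊗[A] A') b ∈ M₂ := by
      have : b ∈ M₁.comap (algebraMap B (B ⊗[A] A')) := h3
      rw [e1, ← e2] at this
      exact this
    have h5 : d ^ p ^ n ∈ M₂ := by
      have := M₂.add_mem hb2 h4
      simpa using this
    exact h₂.isPrime.mem_of_pow_mem _ h5
  exact le_antisymm (key M₂ M hM₂ hM) (key M M₂ hM hM₂)

/-- Residue field of `B ⊗[A] A'`: `p^n`-th powers come from `B`. -/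
theorem exists_pow_sub_mem_maximalIdeal [IsLocalRing (B ⊗[A] A')] (p : ℕ)
    (hp : p = 1 ∨ (p.Prime ∧ (p : A') ∈ maximalIdeal A'))
    (hA' : ∀ a' : A', ∃ (n : ℕ) (a : A), a' ^ p ^ n - algebraMap A A' a ∈ maximalIdeal A')
    (d : B ⊗[A] A') :
    ∃ (n : ℕ) (b : B), d ^ p ^ n - algebraMap B (B ⊗[A] A') b ∈ maximalIdeal (B ⊗[A] A') := by
  obtain ⟨n, b, hb⟩ := exists_pow_sub_mem (B := B) (maximalIdeal A') p hp hA' d
  exact ⟨n, b, extIdeal_le_of_isMaximal (maximalIdeal (B ⊗[A] A')) hb⟩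

end local_

end Groth.Agent.Lib.Helper61.GU
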