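import Mathlib
import Groth.Agent.Lib.Helper61.GU2

/-!
# Ascent of geometric unibranchness along flat local maps with normal base change (helper61)
-/

set_option autoImplicit false
universe u

namespace Groth.Agent.Lib.Helper61.GU

open TensorProduct IsLocalRing Groth.Agent.Lib.Helper38

section abstract

variable {A B A' : Type u} [CommRing A] [CommRing B] [CommRing A'] [Algebra A B] [Algebra A A']

/-- Fractions: every element of `B ⊗[A] A'` times a nonzero element of `A` comes from `B`. -/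
theorem exists_mul_eq_algebraMap [IsDomain A]
    (hfrac : ∀ a' : A', ∃ a c : A, c ≠ 0 ∧ a' * algebraMap A A' c = algebraMap A A' a)
    (d : B ⊗[A] A') :
    ∃ (c : A) (b : B), c ≠ 0 ∧
      d * algebraMap B (B ⊗[A] A') (algebraMap A B c) = algebraMap B (B ⊗[A] A') b := by
  induction d using TensorProduct.induction_on with
  | zero => exact ⟨1, 0, one_ne_zero, by simp⟩
  | tmul b a' =>
    obtain ⟨a, c, hc, hac⟩ := hfrac a'
    refine ⟨c, a • b, hc, ?_⟩
    change (b ⊗ₜ[A] a') * ((algebraMap A B c) ⊗ₜ[A] (1 : A')) = (a • b) ⊗ₜ[A] (1 : A')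
    rw [Algebra.TensorProduct.tmul_mul_tmul, mul_one, Algebra.algebraMap_eq_smul_one c,
      mul_smul_comm, mul_one, TensorProduct.smul_tmul, TensorProduct.smul_tmul,
      Algebra.smul_def c a', mul_comm, hac, Algebra.smul_def, mul_one]
  | add d₁ d₂ h₁ h₂ =>
    obtain ⟨c₁, b₁, hc₁, h₁⟩ := h₁
    obtain ⟨c₂, b₂, hc₂, h₂⟩ := h₂
    refine ⟨c₁ * c₂, algebraMap A B c₂ * b₁ + algebraMap A B c₁ * b₂, mul_ne_zero hc₁ hc₂, ?_⟩
    simp only [map_mul, map_add]
    rw [← h₁, ← h₂]
    ring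

variable [IsLocalRing A] [IsLocalRing B] [IsLocalRing A'] [IsLocalHom (algebraMap A B)]
  [Algebra.IsIntegral A A'] [IsDomain A] [Module.Flat A B]

/-- Main abstract ascent theorem. -/
theorem isGeomUnibranch_of_flat_of_normal_tensor
    (hinj : Function.Injective (algebraMap A A'))
    (hfrac : ∀ a' : A', ∃ a c : A, c ≠ 0 ∧ a' * algebraMap A A' c = algebraMap A A' a)
    (hA' : ∀ a' : A', ∃ (n : ℕ) (a : A),
      a' ^ (ringExpChar (A' ⧸ maximalIdeal A')) ^ n - algebraMap A A' a ∈ maximalIdeal A')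
    (hN : ∀ (M : Ideal (B ⊗[A] A')) [M.IsPrime],
      IsDomain (Localization.AtPrime M) ∧ IsIntegrallyClosed (Localization.AtPrime M)) :
    IsDomain B ∧ CAlg2.IsGeomUnibranch B := by
  set p := ringExpChar (A' ⧸ maximalIdeal A') with hpdef
  have hφinj : Function.Injective (algebraMap B (B ⊗[A] A')) :=
    Algebra.TensorProduct.includeLeft_injective (S := B) hinj
  have hnt : Nontrivial (B ⊗[A] A') := hφinj.nontrivial
  have hE : ExpChar (A' ⧸ maximalIdeal A') p := ringExpChar.expChar _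
  have hpgen : ∀ q : ℕ, ExpChar (A' ⧸ maximalIdeal A') q →
      (q = 1 ∨ (q.Prime ∧ (q : A') ∈ maximalIdeal A')) := by
    intro q hq
    rcases hq with _ | ⟨hprime⟩
    · exact Or.inl rfl
    · refine Or.inr ⟨hprime, ?_⟩
      rw [← Ideal.Quotient.eq_zero_iff_mem, map_natCast]
      exact CharP.cast_eq_zero _ _
  have hp : p = 1 ∨ (p.Prime ∧ (p : A') ∈ maximalIdeal A') := hpgen p hE
  have hloc : IsLocalRing (B ⊗[A] A') := isLocalRing_tensor p hp hA'
  -- `D` is a normal domain
  have hunits : ∀ x ∈ (maximalIdeal (B ⊗[A] A')).primeCompl, IsUnit x := by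
    intro x hx
    by_contra hnu
    exact hx ((mem_maximalIdeal x).mpr hnu)
  let e : (B ⊗[A] A') ≃ₐ[B ⊗[A] A'] Localization.AtPrime (maximalIdeal (B ⊗[A] A')) :=
    IsLocalization.atUnits _ (maximalIdeal (B ⊗[A] A')).primeCompl hunits
  obtain ⟨hD1, hD2⟩ := hN (maximalIdeal (B ⊗[A] A'))
  have hDdom : IsDomain (B ⊗[A] A') := e.toRingEquiv.toMulEquiv.isDomain _
  have hDic : IsIntegrallyClosed (B ⊗[A] A') := IsIntegrallyClosed.of_equiv e.symm.toRingEquiv
  have hBdom : IsDomain B := hφinj.isDomain _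
  refine ⟨hBdom, ?_⟩
  -- `A → B` is injective
  have hff : Module.FaithfullyFlat A B := Module.FaithfullyFlat.of_flat_of_isLocalHom
  have hABinj : Function.Injective (algebraMap A B) := FaithfulSMul.algebraMap_injective A B
  have hφ : IsFracExt (algebraMap B (B ⊗[A] A')) := by
    refine ⟨hφinj, fun d => ?_⟩
    obtain ⟨c, b, hc, h⟩ := exists_mul_eq_algebraMap (B := B) hfrac d
    exact ⟨b, algebraMap A B c, fun h0 => hc (hABinj (by rw [h0, map_zero])), h⟩
  have hφi : (algebraMap B (B ⊗[A] A')).IsIntegral := algebraMap_isIntegral_iff.mpr inferInstance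
  apply isGeomUnibranch_of_normalization (algebraMap B (B ⊗[A] A')) hφ hφi
  -- the residue field condition
  have hle : maximalIdeal A' ≤ (maximalIdeal (B ⊗[A] A')).comap
      (Algebra.TensorProduct.includeRight : A' →ₐ[A] B ⊗[A] A').toRingHom := by
    rw [← Ideal.map_le_iff_le_comap]
    exact extIdeal_le_of_isMaximal (maximalIdeal (B ⊗[A] A'))
  let g : A' ⧸ maximalIdeal A' →+* (B ⊗[A] A') ⧸ maximalIdeal (B ⊗[A] A') :=
    Ideal.quotientMap _ (Algebra.TensorProduct.includeRight : A' →ₐ[A] B ⊗[A] A').toRingHom hle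
  have hginj : Function.Injective g := by
    apply Ideal.quotientMap_injective'
    apply IsLocalRing.le_maximalIdeal
    rw [Ne, Ideal.comap_eq_top_iff]
    exact (maximalIdeal.isMaximal _).ne_top
  have hE2 : ExpChar ((B ⊗[A] A') ⧸ maximalIdeal (B ⊗[A] A')) p :=
    expChar_of_injective_ringHom hginj p
  have hpp : ringExpChar ((B ⊗[A] A') ⧸ maximalIdeal (B ⊗[A] A')) = p := ringExpChar.eq _ _
  intro x
  obtain ⟨d, rfl⟩ := Ideal.Quotient.mk_surjective x
  obtain ⟨n, b, hb⟩ := exists_pow_sub_mem_maximalIdeal (B := B) p hp hA' d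
  refine ⟨n, b, ?_⟩
  rw [hpp, ← map_pow, RingHom.comp_apply]
  exact (Ideal.Quotient.eq.mpr hb).symm

end abstract

end Groth.Agent.Lib.Helper61.GU
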