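import Mathlib
import Groth.Prelude.Def_EGA4b
import Groth.Agent.Lib.Helper61.GU3
import Groth.Agent.Lib.Helper24.SmoothNormal

/-!
# Étale algebras over geometrically unibranch local domains (helper61)

`isGeomUnibranch_atPrime_of_etale`: for `R → S` étale, `q` over `p`, if `R_p` is a geometrically
unibranch domain then so is `S_q`  (EGA IV 18.8.? / 0_IV 23.2.?; Stacks 06DM).
-/

set_option autoImplicit false
set_option linter.style.haveILetI false
universe u

namespace Groth.Agent.Lib.Helper61.GU

open TensorProduct IsLocalRing Groth.Agent.Lib.Helper38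

/-- Normality of rings is invariant under ring isomorphisms. -/
theorem isNormalRing_of_ringEquiv {D D' : Type u} [CommRing D] [CommRing D'] (e : D ≃+* D')
    (h : EGA4.IsNormalRing D) : EGA4.IsNormalRing D' := by
  intro P' hP'
  have hP : (P'.comap (e : D →+* D')).IsPrime := Ideal.comap_isPrime _ _
  have H : (P'.comap (e : D →+* D')).primeCompl.map e.toMonoidHom = P'.primeCompl := by
    ext x
    simp only [Submonoid.mem_map, Ideal.mem_primeCompl_iff, Ideal.mem_comap]
    constructor
    · rintro ⟨y, hy, rfl⟩
      exact hy
    · intro hx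
      exact ⟨e.symm x, by simpa using hx, by simp⟩
  let e' : Localization.AtPrime (P'.comap (e : D →+* D')) ≃+* Localization.AtPrime P' :=
    IsLocalization.ringEquivOfRingEquiv _ _ e H
  exact Groth.Agent.Lib.Helper24.isDomain_and_isIntegrallyClosed_of_ringEquiv e'
    (h (P'.comap (e : D →+* D')))

section etale

variable (R S : Type u) [CommRing R] [CommRing S] [Algebra R S] [Algebra.Etale R S]
  (p : Ideal R) [p.IsPrime] (q : Ideal S) [q.IsPrime] [q.LiesOver p]

/-- Normality of `B ⊗[A] A'` for `A = R_p`, `B = S_q`, `A'` a normal domain over `A`. -/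
theorem isNormalRing_tensor_of_etale (A' : Type u) [CommRing A'] [IsDomain A']
    [IsIntegrallyClosed A'] [Algebra (Localization.AtPrime p) A'] :
    letI := Localization.AtPrime.algebraOfLiesOver p q
    EGA4.IsNormalRing (Localization.AtPrime q ⊗[Localization.AtPrime p] A') := by
  letI := Localization.AtPrime.algebraOfLiesOver p q
  letI : Algebra R A' := ((algebraMap (Localization.AtPrime p) A').comp
    (algebraMap R (Localization.AtPrime p))).toAlgebra
  haveI : IsScalarTower R (Localization.AtPrime p) A' := IsScalarTower.of_algebraMap_eq' rfl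
  -- `A' ⊗[R] S` is normal
  have h0 : EGA4.IsNormalRing (A' ⊗[R] S) :=
    Groth.Agent.Lib.Helper24.isNormalRing_of_etale A' (A' ⊗[R] S)
  -- `A' ⊗[R] S_q` is a localization of it
  letI : Algebra (A' ⊗[R] S) (A' ⊗[R] Localization.AtPrime q) :=
    (Algebra.TensorProduct.map (AlgHom.id A' A')
      (IsScalarTower.toAlgHom R S (Localization.AtPrime q))).toRingHom.toAlgebra
  haveI : IsScalarTower A' (A' ⊗[R] S) (A' ⊗[R] Localization.AtPrime q) :=
    IsScalarTower.of_algebraMap_eq fun a' => by
      change a' ⊗ₜ[R] (1 : Localization.AtPrime q) =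
        Algebra.TensorProduct.map (AlgHom.id A' A')
          (IsScalarTower.toAlgHom R S (Localization.AtPrime q)) (a' ⊗ₜ[R] (1 : S))
      simp
  have hloc : IsLocalization
      (q.primeCompl.map (Algebra.TensorProduct.includeRight (R := R) (A := A')))
      (A' ⊗[R] Localization.AtPrime q) := by
    apply IsLocalization.tensorProduct_tensorProduct_right R A' q.primeCompl
      (Localization.AtPrime q)
    ext s
    change Algebra.TensorProduct.map (AlgHom.id A' A')
      (IsScalarTower.toAlgHom R S (Localization.AtPrime q)) ((1 : A') ⊗ₜ[R] s) = _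
    simp
  have h1 : EGA4.IsNormalRing (A' ⊗[R] Localization.AtPrime q) :=
    haveI := hloc
    Groth.Agent.Lib.Helper24.isNormalRing_of_isLocalization
      (q.primeCompl.map (Algebra.TensorProduct.includeRight (R := R) (A := A'))) h0
  -- change of tensor base and commutation
  let e1 : A' ⊗[Localization.AtPrime p] Localization.AtPrime q ≃ₐ[Localization.AtPrime p]
      A' ⊗[R] Localization.AtPrime q :=
    IsLocalization.algebraTensorEquiv p.primeCompl (Localization.AtPrime p) A'
      (Localization.AtPrime q)
  let e2 : Localization.AtPrime q ⊗[Localization.AtPrime p] A' ≃ₐ[Localization.AtPrime p]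
      A' ⊗[Localization.AtPrime p] Localization.AtPrime q :=
    Algebra.TensorProduct.comm _ _ _
  exact isNormalRing_of_ringEquiv (e2.trans e1).symm.toRingEquiv h1

/-- **Étale algebras over a geometrically unibranch local domain.** -/
theorem isGeomUnibranch_atPrime_of_etale
    (hdom : IsDomain (Localization.AtPrime p))
    (hgu : CAlg2.IsGeomUnibranch (Localization.AtPrime p)) :
    IsDomain (Localization.AtPrime q) ∧ CAlg2.IsGeomUnibranch (Localization.AtPrime q) := by
  letI := Localization.AtPrime.algebraOfLiesOver p q
  haveI : IsLocalHom (algebraMap (Localization.AtPrime p) (Localization.AtPrime q)) :=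
    Localization.isLocalHom_localRingHom p q (algebraMap R S) Ideal.LiesOver.over
  letI : Algebra (Localization.AtPrime p) (CAlg2.normRed (Localization.AtPrime p)) :=
    (NormRedDom.iota (Localization.AtPrime p)).toAlgebra
  haveI : IsLocalRing (CAlg2.normRed (Localization.AtPrime p)) := hgu.1.2
  haveI : Algebra.IsIntegral (Localization.AtPrime p) (CAlg2.normRed (Localization.AtPrime p)) :=
    ⟨NormRedDom.iota_isIntegral (Localization.AtPrime p)⟩
  have hι := NormRedDom.iota_isFracExt (Localization.AtPrime p)
  refine isGeomUnibranch_of_flat_of_normal_tensor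
    (A := Localization.AtPrime p) (B := Localization.AtPrime q)
    (A' := CAlg2.normRed (Localization.AtPrime p)) hι.inj hι.frac
    (exists_pow_sub_mem_of_isGeomUnibranch hgu) ?_
  exact isNormalRing_tensor_of_etale R S p q (CAlg2.normRed (Localization.AtPrime p))

end etale

end Groth.Agent.Lib.Helper61.GU
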