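import Mathlib
import Groth.Agent.Lib.Helper61.GU4

/-!
# Étale over geometrically unibranch, non-reduced base (helper61)

`nilradical_isPrime_of_flat_of_normal_tensor`: abstract form. For a geometrically unibranch local
ring `A` (not necessarily reduced), a flat local homomorphism `A → B` with `B ⊗[A] normRed A` normal
has `B_red` a domain (the nilradical of `B` is prime).

`nilradical_isPrime_atPrime_of_etale`: for `R → S` étale, `q` over `p`, `R_p` geometrically
unibranch: the nilradical of `S_q` is prime.
-/

set_option autoImplicit false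
set_option linter.style.haveILetI false
universe u

namespace Groth.Agent.Lib.Helper61.GU

open TensorProduct IsLocalRing Groth.Agent.Lib.Helper38

section abstract

variable (A : Type u) [CommRing A]

/-- The canonical map `A → A_red → normRed A`. -/
noncomputable def iotaRed : A →+* CAlg2.normRed A :=
  (algebraMap (CAlg2.red A) (CAlg2.normRed A)).comp (Ideal.Quotient.mk (nilradical A))

variable {A}
variable {B : Type u} [CommRing B] [Algebra A B]

/-- Elements of the kernel of `B → (A ⧸ I) ⊗[A] B` lie in `I B`; for `I` the nilradical they are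
nilpotent. -/
theorem mem_nilradical_of_one_tmul_eq_zero (b : B)
    (hb : (1 : A ⧸ nilradical A) ⊗ₜ[A] b = 0) : b ∈ nilradical B := by
  have h1 : (Submodule.Quotient.mk b : B ⧸ (nilradical A • (⊤ : Submodule A B))) = 0 := by
    rw [← TensorProduct.quotTensorEquivQuotSMul_mk_one_tmul, hb, map_zero]
  rw [Submodule.Quotient.mk_eq_zero] at h1
  refine Submodule.smul_induction_on h1 ?_ ?_
  · intro a ha m _
    rw [Algebra.smul_def]
    refine Ideal.mul_mem_right _ _ ?_
    rw [mem_nilradical] at ha ⊢
    exact ha.map (algebraMap A B)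
  · intro x y hx hy
    exact Ideal.add_mem _ hx hy

/-- **Abstract ascent, non-reduced base.** `A` is a local ring with `A_red` a domain, `A'` plays
the role of the normalization of `A_red`. -/
theorem nilradical_isPrime_of_flat_of_normal_tensor [IsLocalRing A] [IsLocalRing B]
    [IsLocalHom (algebraMap A B)] [Module.Flat A B] [IsDomain (CAlg2.red A)]
    (A' : Type u) [CommRing A'] [Algebra (CAlg2.red A) A'] [Algebra A A']
    [IsScalarTower A (CAlg2.red A) A'] [IsLocalRing A'] [Algebra.IsIntegral (CAlg2.red A) A']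
    (hinj : Function.Injective (algebraMap (CAlg2.red A) A'))
    (hfrac : ∀ a' : A', ∃ a c : CAlg2.red A, c ≠ 0 ∧
      a' * algebraMap (CAlg2.red A) A' c = algebraMap (CAlg2.red A) A' a)
    (hA' : ∀ a' : A', ∃ (n : ℕ) (a : CAlg2.red A),
      a' ^ (ringExpChar (A' ⧸ maximalIdeal A')) ^ n - algebraMap (CAlg2.red A) A' a ∈
        maximalIdeal A')
    (hN : EGA4.IsNormalRing (B ⊗[A] A')) :
    (nilradical B).IsPrime := by
  haveI : IsLocalRing (CAlg2.red A) :=
    IsLocalRing.of_surjective' (Ideal.Quotient.mk (nilradical A)) Ideal.Quotient.mk_surjective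
  have hff : Module.FaithfullyFlat A B := Module.FaithfullyFlat.of_flat_of_isLocalHom
  haveI : Nontrivial (CAlg2.red A ⊗[A] B) := inferInstance
  have hsurj : Function.Surjective
      (Algebra.TensorProduct.includeRight : B →ₐ[A] CAlg2.red A ⊗[A] B) := by
    intro t
    induction t using TensorProduct.induction_on with
    | zero => exact ⟨0, map_zero _⟩
    | tmul a b =>
      obtain ⟨a, rfl⟩ := Ideal.Quotient.mk_surjective a
      refine ⟨a • b, ?_⟩
      change (1 : CAlg2.red A) ⊗ₜ[A] (a • b) = _
      rw [← TensorProduct.smul_tmul, Algebra.smul_def, mul_one]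
      rfl
    | add x y hx hy =>
      obtain ⟨x', rfl⟩ := hx
      obtain ⟨y', rfl⟩ := hy
      exact ⟨x' + y', map_add _ _ _⟩
  haveI : IsLocalRing (CAlg2.red A ⊗[A] B) :=
    IsLocalRing.of_surjective'
      (Algebra.TensorProduct.includeRight : B →ₐ[A] CAlg2.red A ⊗[A] B).toRingHom hsurj
  haveI : IsLocalHom (Algebra.TensorProduct.includeRight :
      B →ₐ[A] CAlg2.red A ⊗[A] B).toRingHom :=
    IsLocalHom.of_surjective _ hsurj
  haveI : IsLocalHom (algebraMap (CAlg2.red A) (CAlg2.red A ⊗[A] B)) := by
    constructor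
    intro a ha
    obtain ⟨a, rfl⟩ := Ideal.Quotient.mk_surjective a
    have h1 : algebraMap (CAlg2.red A) (CAlg2.red A ⊗[A] B) (Ideal.Quotient.mk _ a) =
        (Algebra.TensorProduct.includeRight : B →ₐ[A] CAlg2.red A ⊗[A] B).toRingHom
          (algebraMap A B a) := by
      change (Ideal.Quotient.mk _ a) ⊗ₜ[A] (1 : B) = (1 : CAlg2.red A) ⊗ₜ[A] (algebraMap A B a)
      rw [Algebra.algebraMap_eq_smul_one, ← TensorProduct.smul_tmul, Algebra.smul_def, mul_one]
      rfl
    rw [h1] at ha
    have h2 : IsUnit (algebraMap A B a) := isUnit_of_map_unit _ _ ha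
    have h3 : IsUnit a := isUnit_of_map_unit (algebraMap A B) a h2
    exact h3.map _
  let e1 := Algebra.TensorProduct.comm (CAlg2.red A) (CAlg2.red A ⊗[A] B) A'
  let e2 := Algebra.TensorProduct.cancelBaseChange A (CAlg2.red A) (CAlg2.red A) A' B
  let e3 := Algebra.TensorProduct.comm A A' B
  let e : (CAlg2.red A ⊗[A] B) ⊗[CAlg2.red A] A' ≃+* B ⊗[A] A' :=
    (e1.trans e2).toRingEquiv.trans e3.toRingEquiv
  have hN' : EGA4.IsNormalRing ((CAlg2.red A ⊗[A] B) ⊗[CAlg2.red A] A') :=
    isNormalRing_of_ringEquiv e.symm hN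
  obtain ⟨hBb, -⟩ := isGeomUnibranch_of_flat_of_normal_tensor (A := CAlg2.red A)
    (B := CAlg2.red A ⊗[A] B) (A' := A') hinj hfrac hA' hN'
  have hK : (RingHom.ker (Algebra.TensorProduct.includeRight :
      B →ₐ[A] CAlg2.red A ⊗[A] B).toRingHom).IsPrime := RingHom.ker_isPrime _
  have hKeq : nilradical B = RingHom.ker (Algebra.TensorProduct.includeRight :
      B →ₐ[A] CAlg2.red A ⊗[A] B).toRingHom := by
    apply le_antisymm
    · exact nilradical_le_prime _
    · intro b hb
      exact mem_nilradical_of_one_tmul_eq_zero b (RingHom.mem_ker.mp hb)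
  rw [hKeq]
  exact hK

end abstract

section etale

variable (R S : Type u) [CommRing R] [CommRing S] [Algebra R S] [Algebra.Etale R S]
  (p : Ideal R) [p.IsPrime] (q : Ideal S) [q.IsPrime] [q.LiesOver p]

/-- **Étale algebras over a local ring whose reduction is a geometrically unibranch domain**: the
local rings have irreducible spectrum. -/
theorem nilradical_isPrime_atPrime_of_etale
    (hdom : IsDomain (CAlg2.red (Localization.AtPrime p)))
    (hgu : CAlg2.IsGeomUnibranch (CAlg2.red (Localization.AtPrime p))) :
    (nilradical (Localization.AtPrime q)).IsPrime := by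
  letI := Localization.AtPrime.algebraOfLiesOver p q
  haveI : IsLocalHom (algebraMap (Localization.AtPrime p) (Localization.AtPrime q)) :=
    Localization.isLocalHom_localRingHom p q (algebraMap R S) Ideal.LiesOver.over
  haveI : IsLocalRing (CAlg2.red (Localization.AtPrime p)) :=
    IsLocalRing.of_surjective' (Ideal.Quotient.mk (nilradical (Localization.AtPrime p)))
      Ideal.Quotient.mk_surjective
  letI : Algebra (CAlg2.red (Localization.AtPrime p))
      (CAlg2.normRed (CAlg2.red (Localization.AtPrime p))) :=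
    (NormRedDom.iota (CAlg2.red (Localization.AtPrime p))).toAlgebra
  letI : Algebra (Localization.AtPrime p) (CAlg2.normRed (CAlg2.red (Localization.AtPrime p))) :=
    ((NormRedDom.iota (CAlg2.red (Localization.AtPrime p))).comp
      (Ideal.Quotient.mk (nilradical (Localization.AtPrime p)))).toAlgebra
  haveI : IsScalarTower (Localization.AtPrime p) (CAlg2.red (Localization.AtPrime p))
      (CAlg2.normRed (CAlg2.red (Localization.AtPrime p))) := IsScalarTower.of_algebraMap_eq' rfl
  haveI : IsLocalRing (CAlg2.normRed (CAlg2.red (Localization.AtPrime p))) := hgu.1.2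
  haveI : Algebra.IsIntegral (CAlg2.red (Localization.AtPrime p))
      (CAlg2.normRed (CAlg2.red (Localization.AtPrime p))) :=
    ⟨NormRedDom.iota_isIntegral (CAlg2.red (Localization.AtPrime p))⟩
  have hι := NormRedDom.iota_isFracExt (CAlg2.red (Localization.AtPrime p))
  refine nilradical_isPrime_of_flat_of_normal_tensor
    (CAlg2.normRed (CAlg2.red (Localization.AtPrime p))) hι.inj hι.frac
    (exists_pow_sub_mem_of_isGeomUnibranch hgu) ?_
  exact isNormalRing_tensor_of_etale R S p q (CAlg2.normRed (CAlg2.red (Localization.AtPrime p)))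

end etale

section red

/-- The reduction of a geometrically unibranch local ring is a geometrically unibranch local
domain. -/
theorem isGeomUnibranch_red {A : Type u} [CommRing A] [IsLocalRing A] [IsLocalRing (CAlg2.red A)]
    (hgu : CAlg2.IsGeomUnibranch A) :
    IsDomain (CAlg2.red A) ∧ CAlg2.IsGeomUnibranch (CAlg2.red A) := by
  haveI hdom : IsDomain (CAlg2.red A) := hgu.1.1
  haveI hloc : IsLocalRing (CAlg2.normRed A) := hgu.1.2
  haveI : IsIntegrallyClosed (CAlg2.normRed A) :=
    integralClosure.isIntegrallyClosedOfFiniteExtension (FractionRing (CAlg2.red A))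
  refine ⟨hdom, ?_⟩
  have hinj : Function.Injective (algebraMap (CAlg2.red A) (CAlg2.normRed A)) := by
    intro a b h
    have h' := congrArg Subtype.val h
    exact IsFractionRing.injective (CAlg2.red A) (FractionRing (CAlg2.red A)) h'
  have hfrac : ∀ a' : CAlg2.normRed A, ∃ a c : CAlg2.red A, c ≠ 0 ∧
      a' * algebraMap (CAlg2.red A) (CAlg2.normRed A) c =
        algebraMap (CAlg2.red A) (CAlg2.normRed A) a := by
    intro a'
    obtain ⟨⟨a, c⟩, h⟩ := IsLocalization.surj (nonZeroDivisors (CAlg2.red A))
      (a' : FractionRing (CAlg2.red A))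
    exact ⟨a, c, nonZeroDivisors.ne_zero c.2, Subtype.ext h⟩
  refine isGeomUnibranch_of_normalization (algebraMap (CAlg2.red A) (CAlg2.normRed A))
    ⟨hinj, hfrac⟩ (algebraMap_isIntegral_iff.mpr inferInstance) ?_
  intro x
  obtain ⟨n, a, ha⟩ := hgu.2 (maximalIdeal (CAlg2.normRed A)) x
  exact ⟨n, Ideal.Quotient.mk _ a, ha⟩

/-- Ring isomorphisms induce isomorphisms of reductions. -/
noncomputable def redEquiv {B B' : Type u} [CommRing B] [CommRing B'] (e : B ≃+* B') :
    CAlg2.red B ≃+* CAlg2.red B' :=
  Ideal.quotientEquiv (nilradical B) (nilradical B') e (by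
    ext x
    rw [Ideal.mem_map_iff_of_surjective (e : B →+* B') e.surjective]
    constructor
    · intro hx
      refine ⟨e.symm x, ?_, by simp⟩
      rw [mem_nilradical] at hx ⊢
      exact hx.map e.symm
    · rintro ⟨y, hy, rfl⟩
      rw [mem_nilradical] at hy ⊢
      exact hy.map e)

end red

end Groth.Agent.Lib.Helper61.GU
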