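import Mathlib
import Groth.Agent.Lib.Helper61.GU11

/-!
# Geometric unibranchness of non-reduced local rings (helper61)

* `exists_ringEquiv_of_isFracExt`: uniqueness of the normalization of a domain (abstract form).
* `isGeomUnibranch_of_normalization'`: criterion for a (possibly non-reduced) local ring `B`
  through a map `ψ : B → D` into a local integrally closed domain with nilpotent kernel.
* `isGeomUnibranch_of_surjective`: if `π : B → B̄` is surjective with nilpotent kernel and `B̄` is a
  geometrically unibranch local domain, then `B` is geometrically unibranch.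
* `isGeomUnibranch_of_ringEquiv'`: invariance under ring isomorphisms (no domain hypothesis).
-/

set_option autoImplicit false
set_option linter.style.haveILetI false
universe u

namespace Groth.Agent.Lib.Helper61.GU

open TensorProduct IsLocalRing Groth.Agent.Lib.Helper38

/-- Uniqueness of the normalization of a domain, abstract form. -/
theorem exists_ringEquiv_of_isFracExt {C D₁ D₂ : Type u} [CommRing C] [IsDomain C]
    [CommRing D₁] [IsDomain D₁] [IsIntegrallyClosed D₁]
    [CommRing D₂] [IsDomain D₂] [IsIntegrallyClosed D₂]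
    (φ₁ : C →+* D₁) (h₁ : IsFracExt φ₁) (hi₁ : φ₁.IsIntegral)
    (φ₂ : C →+* D₂) (h₂ : IsFracExt φ₂) (hi₂ : φ₂.IsIntegral) :
    ∃ e : D₁ ≃+* D₂, ∀ c, e (φ₁ c) = φ₂ c := by
  have hND2 : ∀ c : C, c ≠ 0 → ∀ t : D₂, t * φ₂ c = 0 → t = 0 := by
    intro c hc t ht
    have : φ₂ c ≠ 0 := fun h0 => hc (h₂.inj (by rw [h0, map_zero]))
    exact (mul_eq_zero.mp ht).resolve_right this
  have hND1 : ∀ c : C, c ≠ 0 → ∀ t : D₁, t * φ₁ c = 0 → t = 0 := by
    intro c hc t ht
    have : φ₁ c ≠ 0 := fun h0 => hc (h₁.inj (by rw [h0, map_zero]))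
    exact (mul_eq_zero.mp ht).resolve_right this
  obtain ⟨χ₁, hχ₁⟩ := NormDesc.exists_ringHom h₁ φ₂ hND2 (by
    intro b a c hc hbc
    exact NormDesc.exists_mul_eq φ₁ h₁.inj φ₂ b (hi₁ b) a c hbc
      (fun h0 => hc (h₂.inj (by rw [h0, map_zero]))))
  obtain ⟨χ₂, hχ₂⟩ := NormDesc.exists_ringHom h₂ φ₁ hND1 (by
    intro b a c hc hbc
    exact NormDesc.exists_mul_eq φ₂ h₂.inj φ₁ b (hi₂ b) a c hbc
      (fun h0 => hc (h₁.inj (by rw [h0, map_zero]))))
  have h21 : χ₂.comp χ₁ = RingHom.id D₁ :=
    NormDesc.ringHom_ext h₁ φ₁ hND1 _ _ (by rw [RingHom.comp_assoc, hχ₁, hχ₂]) (by simp)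
  have h12 : χ₁.comp χ₂ = RingHom.id D₂ :=
    NormDesc.ringHom_ext h₂ φ₂ hND2 _ _ (by rw [RingHom.comp_assoc, hχ₂, hχ₁]) (by simp)
  refine ⟨RingEquiv.ofRingHom χ₁ χ₂ h12 h21, fun b => ?_⟩
  have := congrArg (fun f => f b) hχ₁
  simpa using this

/-- The canonical map `red B → normRed B` is an integral fraction extension. -/
theorem algebraMap_red_normRed_isFracExt (B : Type u) [CommRing B] [IsDomain (CAlg2.red B)] :
    IsFracExt (algebraMap (CAlg2.red B) (CAlg2.normRed B)) where
  inj := by
    intro a b h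
    have h' := congrArg Subtype.val h
    exact IsFractionRing.injective (CAlg2.red B) (FractionRing (CAlg2.red B)) h'
  frac a' := by
    obtain ⟨⟨a, c⟩, h⟩ := IsLocalization.surj (nonZeroDivisors (CAlg2.red B))
      (a' : FractionRing (CAlg2.red B))
    exact ⟨a, c, nonZeroDivisors.ne_zero c.2, Subtype.ext h⟩

/-- Criterion for geometric unibranchness of a possibly non-reduced local ring through an abstract
normalization of its reduction. -/
theorem isGeomUnibranch_of_normalization' {B D : Type u} [CommRing B] [IsLocalRing B]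
    [CommRing D] [IsDomain D] [IsIntegrallyClosed D] [IsLocalRing D]
    (ψ : B →+* D) (hker : ∀ b, ψ b = 0 → IsNilpotent b) (hψi : ψ.IsIntegral)
    (hfrac : ∀ d : D, ∃ a c : B, ψ c ≠ 0 ∧ d * ψ c = ψ a)
    (hres : ∀ x : D ⧸ IsLocalRing.maximalIdeal D, ∃ n : ℕ,
      x ^ (ringExpChar (D ⧸ IsLocalRing.maximalIdeal D)) ^ n ∈
        ((Ideal.Quotient.mk (IsLocalRing.maximalIdeal D)).comp ψ).range) :
    CAlg2.IsGeomUnibranch B := by
  -- the induced map on the reduction
  let φ : CAlg2.red B →+* D := Ideal.Quotient.lift (nilradical B) ψ (fun b hb => by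
    obtain ⟨n, hn⟩ := (mem_nilradical.mp hb)
    have : ψ b ^ n = 0 := by rw [← map_pow, hn, map_zero]
    exact pow_eq_zero_iff (n := n) (by rintro rfl; simp at this) |>.mp this)
  have hφmk : ∀ b, φ (Ideal.Quotient.mk _ b) = ψ b := fun b => Ideal.Quotient.lift_mk _ _ _
  have hφinj : Function.Injective φ := by
    rw [injective_iff_map_eq_zero]
    intro c hc
    obtain ⟨b, rfl⟩ := Ideal.Quotient.mk_surjective c
    rw [hφmk] at hc
    exact Ideal.Quotient.eq_zero_iff_mem.mpr (mem_nilradical.mpr (hker b hc))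
  haveI hdom : IsDomain (CAlg2.red B) := hφinj.isDomain φ
  have hφ : IsFracExt φ := by
    refine ⟨hφinj, fun d => ?_⟩
    obtain ⟨a, c, hc, hac⟩ := hfrac d
    refine ⟨Ideal.Quotient.mk _ a, Ideal.Quotient.mk _ c, ?_, ?_⟩
    · intro h0
      apply hc
      rw [← hφmk, h0, map_zero]
    · rw [hφmk, hφmk, hac]
  have hφi : φ.IsIntegral := by
    intro d
    obtain ⟨p, hp, hpd⟩ := hψi d
    refine ⟨p.map (Ideal.Quotient.mk (nilradical B)), hp.map _, ?_⟩
    rw [Polynomial.eval₂_map]
    have : φ.comp (Ideal.Quotient.mk (nilradical B)) = ψ := by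
      ext b
      exact hφmk b
    rw [this]
    exact hpd
  haveI : IsIntegrallyClosed (CAlg2.normRed B) :=
    integralClosure.isIntegrallyClosedOfFiniteExtension (FractionRing (CAlg2.red B))
  obtain ⟨e, he⟩ := exists_ringEquiv_of_isFracExt φ hφ hφi
    (algebraMap (CAlg2.red B) (CAlg2.normRed B)) (algebraMap_red_normRed_isFracExt B)
    (algebraMap_isIntegral_iff.mpr inferInstance)
  have hloc : IsLocalRing (CAlg2.normRed B) := e.isLocalRing
  refine ⟨⟨hdom, hloc⟩, ?_⟩
  intro m' hm'
  have hm'eq : m' = IsLocalRing.maximalIdeal (CAlg2.normRed B) := IsLocalRing.eq_maximalIdeal hm'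
  have hle : IsLocalRing.maximalIdeal D ≤ m'.comap (e : D →+* CAlg2.normRed B) := by
    intro d hd
    rw [Ideal.mem_comap, hm'eq]
    by_contra hnot
    have hu : IsUnit ((e : D →+* CAlg2.normRed B) d) := by
      by_contra hnu
      exact hnot ((IsLocalRing.mem_maximalIdeal _).mpr hnu)
    have hu' : IsUnit d := by
      have := hu.map (e.symm : CAlg2.normRed B →+* D)
      simpa using this
    exact (IsLocalRing.mem_maximalIdeal _).mp hd hu'
  let ē : D ⧸ IsLocalRing.maximalIdeal D →+* CAlg2.normRed B ⧸ m' :=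
    Ideal.quotientMap m' (e : D →+* CAlg2.normRed B) hle
  have hēsurj : Function.Surjective ē :=
    Ideal.quotientMap_surjective e.surjective
  have hēinj : Function.Injective ē := by
    apply Ideal.quotientMap_injective'
    apply IsLocalRing.le_maximalIdeal
    rw [Ne, Ideal.comap_eq_top_iff]
    exact hm'.ne_top
  have hE1 : ExpChar (D ⧸ IsLocalRing.maximalIdeal D)
      (ringExpChar (D ⧸ IsLocalRing.maximalIdeal D)) := ringExpChar.expChar _
  have hE2 : ExpChar (CAlg2.normRed B ⧸ m') (ringExpChar (D ⧸ IsLocalRing.maximalIdeal D)) :=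
    expChar_of_injective_ringHom hēinj _
  have hpp : ringExpChar (CAlg2.normRed B ⧸ m') =
      ringExpChar (D ⧸ IsLocalRing.maximalIdeal D) := ringExpChar.eq _ _
  intro x
  obtain ⟨y, rfl⟩ := hēsurj x
  obtain ⟨n, b, hb⟩ := hres y
  refine ⟨n, b, ?_⟩
  have h1 : ē (y ^ ringExpChar (D ⧸ IsLocalRing.maximalIdeal D) ^ n) =
      ē y ^ ringExpChar (CAlg2.normRed B ⧸ m') ^ n := by rw [hpp, map_pow]
  rw [← h1, ← hb]
  change Ideal.Quotient.mk m' (algebraMap (CAlg2.red B) (CAlg2.normRed B)
    (Ideal.Quotient.mk _ b)) = _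
  rw [← he, hφmk]
  rfl

/-- If `π : B → B̄` is a surjective ring homomorphism of local rings with nilpotent kernel and `B̄`
is a geometrically unibranch domain, then `B` is geometrically unibranch. -/
theorem isGeomUnibranch_of_surjective {B Bb : Type u} [CommRing B] [IsLocalRing B] [CommRing Bb]
    [IsLocalRing Bb] [IsDomain Bb] (π : B →+* Bb) (hπ : Function.Surjective π)
    (hker : ∀ b, π b = 0 → IsNilpotent b) (hgu : CAlg2.IsGeomUnibranch Bb) :
    CAlg2.IsGeomUnibranch B := by
  haveI : IsLocalRing (CAlg2.normRed Bb) := hgu.1.2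
  have hι := NormRedDom.iota_isFracExt Bb
  refine isGeomUnibranch_of_normalization' ((NormRedDom.iota Bb).comp π) ?_ ?_ ?_ ?_
  · intro b hb
    exact hker b (hι.inj (by rw [map_zero]; exact hb))
  · exact RingHom.IsIntegral.trans _ _ (RingHom.isIntegral_of_surjective _ hπ)
      (NormRedDom.iota_isIntegral Bb)
  · intro d
    obtain ⟨a, c, hc, hac⟩ := hι.frac d
    obtain ⟨a, rfl⟩ := hπ a
    obtain ⟨c, rfl⟩ := hπ c
    refine ⟨a, c, fun h0 => hc (hι.inj (by rw [map_zero]; exact h0)), hac⟩
  · intro x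
    obtain ⟨n, b, hb⟩ := hgu.2 (maximalIdeal (CAlg2.normRed Bb)) x
    obtain ⟨b, rfl⟩ := hπ b
    exact ⟨n, b, hb⟩

/-- A local ring whose reduction is a geometrically unibranch domain is geometrically
unibranch. -/
theorem isGeomUnibranch_of_red {B : Type u} [CommRing B] [IsLocalRing B]
    [IsLocalRing (CAlg2.red B)] [IsDomain (CAlg2.red B)]
    (hgu : CAlg2.IsGeomUnibranch (CAlg2.red B)) : CAlg2.IsGeomUnibranch B :=
  isGeomUnibranch_of_surjective (Ideal.Quotient.mk (nilradical B)) Ideal.Quotient.mk_surjective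
    (fun b hb => mem_nilradical.mp (Ideal.Quotient.eq_zero_iff_mem.mp hb)) hgu

/-- Geometric unibranchness is invariant under ring isomorphisms (no domain hypothesis). -/
theorem isGeomUnibranch_of_ringEquiv' {B B' : Type u} [CommRing B] [IsLocalRing B]
    [CommRing B'] [IsLocalRing B'] (e : B ≃+* B')
    (h : CAlg2.IsGeomUnibranch B) : CAlg2.IsGeomUnibranch B' := by
  haveI : IsDomain (CAlg2.red B) := h.1.1
  haveI : IsLocalRing (CAlg2.red B) :=
    IsLocalRing.of_surjective' (Ideal.Quotient.mk (nilradical B)) Ideal.Quotient.mk_surjective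
  obtain ⟨-, h2⟩ := isGeomUnibranch_red h
  haveI : IsDomain (CAlg2.red B') := (redEquiv e).symm.toMulEquiv.isDomain _
  haveI : IsLocalRing (CAlg2.red B') :=
    IsLocalRing.of_surjective' (Ideal.Quotient.mk (nilradical B')) Ideal.Quotient.mk_surjective
  exact isGeomUnibranch_of_red (isGeomUnibranch_of_ringEquiv (redEquiv e) h2)

section abstract

variable {A B : Type u} [CommRing A] [CommRing B] [Algebra A B]

/-- **Abstract ascent, non-reduced base, full conclusion.** `A` is a local ring with `A_red` a domain, `A'` plays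
the role of the normalization of `A_red`. -/
theorem isGeomUnibranch_of_flat_of_normal_tensor' [IsLocalRing A] [IsLocalRing B]
    [IsLocalHom (algebraMap A B)] [Module.Flat A B] [IsDomain (CAlg2.red A)]
    (A' : Type u) [CommRing A'] [Algebra (CAlg2.red A) A'] [Algebra A A']
    [IsScalarTower A (CAlg2.red A) A'] [IsLocalRing A'] [Algebra.IsIntegral (CAlg2.red A) A']
    (hinj : Function.Injective (algebraMap (CAlg2.red A) A'))
    (hfrac : ∀ a' : A', ∃ a c : CAlg2.red A, c ≠ 0 ∧
      a' * algebraMap (CAlg2.red A) A' c = algebraMap (CAlg2.red A) A' a)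
    (hA' : ∀ a' : A', ∃ (n : ℕ) (a : CAlg2.red A),
      a' ^ (ringExpChar (A' ⧸ maximalIdeal A')) ^ n - algebraMap (CAlg2.red A) A' a ∈
        maximalIdeal A')
    (hN : EGA4.IsNormalRing (B ⊗[A] A')) :
    CAlg2.IsGeomUnibranch B := by
  haveI : IsLocalRing (CAlg2.red A) :=
    IsLocalRing.of_surjective' (Ideal.Quotient.mk (nilradical A)) Ideal.Quotient.mk_surjective
  have hff : Module.FaithfullyFlat A B := Module.FaithfullyFlat.of_flat_of_isLocalHom
  haveI : Nontrivial (CAlg2.red A ⊗[A] B) := inferInstance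
  have hsurj : Function.Surjective
      (Algebra.TensorProduct.includeRight : B →ₐ[A] CAlg2.red A ⊗[A] B) := by
    intro t
    induction t using TensorProduct.induction_on with
    | zero => exact ⟨0, map_zero _⟩
    | tmul a b =>
      obtain ⟨a, rfl⟩ := Ideal.Quotient.mk_surjective a
      refine ⟨a • b, ?_⟩
      change (1 : CAlg2.red A) ⊗ₜ[A] (a • b) = _
      rw [← TensorProduct.smul_tmul, Algebra.smul_def, mul_one]
      rfl
    | add x y hx hy =>
      obtain ⟨x', rfl⟩ := hx
      obtain ⟨y', rfl⟩ := hy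
      exact ⟨x' + y', map_add _ _ _⟩
  haveI : IsLocalRing (CAlg2.red A ⊗[A] B) :=
    IsLocalRing.of_surjective'
      (Algebra.TensorProduct.includeRight : B →ₐ[A] CAlg2.red A ⊗[A] B).toRingHom hsurj
  haveI : IsLocalHom (Algebra.TensorProduct.includeRight :
      B →ₐ[A] CAlg2.red A ⊗[A] B).toRingHom :=
    IsLocalHom.of_surjective _ hsurj
  haveI : IsLocalHom (algebraMap (CAlg2.red A) (CAlg2.red A ⊗[A] B)) := by
    constructor
    intro a ha
    obtain ⟨a, rfl⟩ := Ideal.Quotient.mk_surjective a
    have h1 : algebraMap (CAlg2.red A) (CAlg2.red A ⊗[A] B) (Ideal.Quotient.mk _ a) =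
        (Algebra.TensorProduct.includeRight : B →ₐ[A] CAlg2.red A ⊗[A] B).toRingHom
          (algebraMap A B a) := by
      change (Ideal.Quotient.mk _ a) ⊗ₜ[A] (1 : B) = (1 : CAlg2.red A) ⊗ₜ[A] (algebraMap A B a)
      rw [Algebra.algebraMap_eq_smul_one, ← TensorProduct.smul_tmul, Algebra.smul_def, mul_one]
      rfl
    rw [h1] at ha
    have h2 : IsUnit (algebraMap A B a) := isUnit_of_map_unit _ _ ha
    have h3 : IsUnit a := isUnit_of_map_unit (algebraMap A B) a h2
    exact h3.map _
  let e1 := Algebra.TensorProduct.comm (CAlg2.red A) (CAlg2.red A ⊗[A] B) A'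
  let e2 := Algebra.TensorProduct.cancelBaseChange A (CAlg2.red A) (CAlg2.red A) A' B
  let e3 := Algebra.TensorProduct.comm A A' B
  let e : (CAlg2.red A ⊗[A] B) ⊗[CAlg2.red A] A' ≃+* B ⊗[A] A' :=
    (e1.trans e2).toRingEquiv.trans e3.toRingEquiv
  have hN' : EGA4.IsNormalRing ((CAlg2.red A ⊗[A] B) ⊗[CAlg2.red A] A') :=
    isNormalRing_of_ringEquiv e.symm hN
  obtain ⟨hBb, hguBb⟩ := isGeomUnibranch_of_flat_of_normal_tensor (A := CAlg2.red A)
    (B := CAlg2.red A ⊗[A] B) (A' := A') hinj hfrac hA' hN'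
  exact isGeomUnibranch_of_surjective
    (Algebra.TensorProduct.includeRight : B →ₐ[A] CAlg2.red A ⊗[A] B).toRingHom hsurj
    (fun b hb => mem_nilradical.mp (mem_nilradical_of_one_tmul_eq_zero b hb)) hguBb

end abstract

section smooth

variable (R S : Type u) [CommRing R] [CommRing S] [Algebra R S] [Algebra.Smooth R S]
  (p : Ideal R) [p.IsPrime] (q : Ideal S) [q.IsPrime] [q.LiesOver p]

/-- **Smooth algebras over a local ring whose reduction is a geometrically unibranch domain**: the
local rings are geometrically unibranch. -/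
theorem isGeomUnibranch_atPrime_of_smooth_of_red
    (hdom : IsDomain (CAlg2.red (Localization.AtPrime p)))
    (hgu : CAlg2.IsGeomUnibranch (CAlg2.red (Localization.AtPrime p))) :
    CAlg2.IsGeomUnibranch (Localization.AtPrime q) := by
  letI := Localization.AtPrime.algebraOfLiesOver p q
  haveI : IsLocalHom (algebraMap (Localization.AtPrime p) (Localization.AtPrime q)) :=
    Localization.isLocalHom_localRingHom p q (algebraMap R S) Ideal.LiesOver.over
  haveI : IsLocalRing (CAlg2.red (Localization.AtPrime p)) :=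
    IsLocalRing.of_surjective' (Ideal.Quotient.mk (nilradical (Localization.AtPrime p)))
      Ideal.Quotient.mk_surjective
  letI : Algebra (CAlg2.red (Localization.AtPrime p))
      (CAlg2.normRed (CAlg2.red (Localization.AtPrime p))) :=
    (NormRedDom.iota (CAlg2.red (Localization.AtPrime p))).toAlgebra
  letI : Algebra (Localization.AtPrime p) (CAlg2.normRed (CAlg2.red (Localization.AtPrime p))) :=
    ((NormRedDom.iota (CAlg2.red (Localization.AtPrime p))).comp
      (Ideal.Quotient.mk (nilradical (Localization.AtPrime p)))).toAlgebra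
  haveI : IsScalarTower (Localization.AtPrime p) (CAlg2.red (Localization.AtPrime p))
      (CAlg2.normRed (CAlg2.red (Localization.AtPrime p))) := IsScalarTower.of_algebraMap_eq' rfl
  haveI : IsLocalRing (CAlg2.normRed (CAlg2.red (Localization.AtPrime p))) := hgu.1.2
  haveI : Algebra.IsIntegral (CAlg2.red (Localization.AtPrime p))
      (CAlg2.normRed (CAlg2.red (Localization.AtPrime p))) :=
    ⟨NormRedDom.iota_isIntegral (CAlg2.red (Localization.AtPrime p))⟩
  have hι := NormRedDom.iota_isFracExt (CAlg2.red (Localization.AtPrime p))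
  refine isGeomUnibranch_of_flat_of_normal_tensor'
    (CAlg2.normRed (CAlg2.red (Localization.AtPrime p))) hι.inj hι.frac
    (exists_pow_sub_mem_of_isGeomUnibranch hgu) ?_
  exact isNormalRing_tensor_of_smooth R S p q (CAlg2.normRed (CAlg2.red (Localization.AtPrime p)))

/-- **Smooth algebras over a geometrically unibranch local ring** (no reducedness
assumption). -/
theorem isGeomUnibranch_atPrime_of_smooth'
    (hgu : CAlg2.IsGeomUnibranch (Localization.AtPrime p)) :
    CAlg2.IsGeomUnibranch (Localization.AtPrime q) := by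
  haveI : IsDomain (CAlg2.red (Localization.AtPrime p)) := hgu.1.1
  haveI : IsLocalRing (CAlg2.red (Localization.AtPrime p)) :=
    IsLocalRing.of_surjective' (Ideal.Quotient.mk (nilradical (Localization.AtPrime p)))
      Ideal.Quotient.mk_surjective
  obtain ⟨h1, h2⟩ := isGeomUnibranch_red hgu
  exact isGeomUnibranch_atPrime_of_smooth_of_red R S p q h1 h2

end smooth

end Groth.Agent.Lib.Helper61.GU
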