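import Mathlib
import Groth.Agent.Lib.Helper61.GU13
import Groth.Agent.Lib.Helper24.SmoothNormalStalk

/-!
# Smooth morphisms preserve geometric unibranchness of local rings (helper61)

`isGeomUnibranch_stalk_of_smooth`: for `f : X ⟶ Y` smooth and `O_{Y, f x}` geometrically unibranch
(not necessarily reduced), `O_{X, x}` is geometrically unibranch.  `smooth_affineSpace`: affine
space is smooth over its base.
-/

set_option autoImplicit false
set_option linter.style.haveILetI false
universe u
open CategoryTheory CategoryTheory.Limits AlgebraicGeometry TopologicalSpace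

namespace Groth.Agent.Lib.Helper61.GU

/-- Smooth morphisms preserve geometric unibranchness of local rings. -/
theorem isGeomUnibranch_stalk_of_smooth {X Y : Scheme.{u}} (f : X ⟶ Y) [Smooth f] (x : X)
    (hY : CAlg2.IsGeomUnibranch (Y.presheaf.stalk (f.base x))) :
    CAlg2.IsGeomUnibranch (X.presheaf.stalk x) := by
  obtain ⟨_, ⟨U, hU, rfl⟩, hxU, -⟩ :=
    Y.isBasis_affineOpens.exists_subset_of_mem_open (Set.mem_univ (f x)) isOpen_univ
  obtain ⟨_, ⟨V, hV, rfl⟩, hxV, hVU⟩ :=
    X.isBasis_affineOpens.exists_subset_of_mem_open hxU (U.2.preimage f.continuous)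
  have hsm := f.smooth_appLE hU hV hVU
  algebraize [(f.appLE U V hVU).hom]
  let p := (hU.primeIdealOf ⟨f.base x, hVU hxV⟩).asIdeal
  let q := (hV.primeIdealOf ⟨x, hxV⟩).asIdeal
  have : q.LiesOver p :=
    ⟨congr($(IsAffineOpen.comap_primeIdealOf_appLE U hU V hV hVU hxV).1).symm⟩
  obtain ⟨e1⟩ := Groth.Agent.Lib.Helper24.stalk_ringEquiv_atPrime hU (f.base x) (hVU hxV)
  obtain ⟨e2⟩ := Groth.Agent.Lib.Helper24.stalk_ringEquiv_atPrime hV x hxV
  have h1 : CAlg2.IsGeomUnibranch (Localization.AtPrime p) := isGeomUnibranch_of_ringEquiv' e1 hY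
  have h2 : CAlg2.IsGeomUnibranch (Localization.AtPrime q) :=
    isGeomUnibranch_atPrime_of_smooth' Γ(Y, U) Γ(X, V) p q h1
  exact isGeomUnibranch_of_ringEquiv' e2.symm h2

open AffineSpace MvPolynomial in
set_option backward.isDefEq.respectTransparency.types false in
/-- Affine space is smooth over its base. -/
theorem smooth_affineSpace (n : Type u) [Finite n] (S : Scheme.{u}) : Smooth (𝔸(n; S) ↘ S) :=
  MorphismProperty.pullback_fst _ _ <| by
  have := isIso_of_isTerminal specULiftZIsTerminal.{u} terminalIsTerminal (terminal.from _)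
  rw [← terminal.comp_from (Spec.map (CommRingCat.ofHom C)),
    MorphismProperty.cancel_right_of_respectsIso (P := @Smooth),
    HasRingHomProperty.Spec_iff (P := @Smooth), RingHom.Smooth]
  have h : Algebra.Smooth (ULift ℤ) (MvPolynomial n (ULift.{u} ℤ)) := {}
  convert! h
  exact Algebra.algebra_ext _ _ fun _ ↦ rfl

end Groth.Agent.Lib.Helper61.GU
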