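import Mathlib

/-!
# Flat + formally unramified + finite type ⇒ formally étale (helper61)

No finite presentation hypothesis.  Main results:

* `exists_section_lift`: for `C` a flat, formally unramified `A`-algebra of finite type and `I` a
  square-zero ideal of `A`, every `A`-algebra map `C → A ⧸ I` lifts to `C → A`.
* `formallyEtale_of_flat_of_formallyUnramified`.
-/

set_option autoImplicit false
universe u v

namespace Groth.Agent.Lib.Helper61.FlatUnram

open Ideal

section sectionLift

variable {A : Type u} {C : Type v} [CommRing A] [CommRing C] [Algebra A C]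

/-- In an `A`-algebra of finite type with an `A`-algebra map `s : C → A ⧸ I`, the kernel of `s` is
generated by finitely many elements together with `I C`. -/
theorem exists_fg_ker_eq_sup [Algebra.FiniteType A C] (I : Ideal A) (s : C →ₐ[A] A ⧸ I) :
    ∃ J : Ideal C, J.FG ∧ RingHom.ker s = J ⊔ I.map (algebraMap A C) := by
  classical
  obtain ⟨T, hT⟩ := (Algebra.FiniteType.out : (⊤ : Subalgebra A C).FG)
  have hch : ∀ c : C, ∃ a : A, Ideal.Quotient.mk I a = s c := fun c =>
    Ideal.Quotient.mk_surjective (s c)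
  choose α hα using hch
  let J : Ideal C := Ideal.span ((fun t => t - algebraMap A C (α t)) '' (T : Set C))
  have hJN : J ≤ RingHom.ker s := by
    rw [Ideal.span_le]
    rintro _ ⟨t, -, rfl⟩
    show s (t - algebraMap A C (α t)) = 0
    rw [map_sub, AlgHom.commutes, Ideal.Quotient.algebraMap_eq, hα, sub_self]
  have hIN : I.map (algebraMap A C) ≤ RingHom.ker s := by
    rw [Ideal.map_le_iff_le_comap]
    intro i hi
    show s (algebraMap A C i) = 0
    rw [AlgHom.commutes, Ideal.Quotient.algebraMap_eq, Ideal.Quotient.eq_zero_iff_mem]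
    exact hi
  have hP : ∀ c : C, ∃ a : A, c - algebraMap A C a ∈ J := by
    intro c
    have hc : c ∈ Algebra.adjoin A (T : Set C) := by rw [hT]; trivial
    induction hc using Algebra.adjoin_induction with
    | mem t ht => exact ⟨α t, Ideal.subset_span ⟨t, ht, rfl⟩⟩
    | algebraMap a => exact ⟨a, by simp⟩
    | add x y _ _ hx hy =>
      obtain ⟨a, ha⟩ := hx
      obtain ⟨b, hb⟩ := hy
      refine ⟨a + b, ?_⟩
      have : x + y - algebraMap A C (a + b) = (x - algebraMap A C a) + (y - algebraMap A C b) := by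
        rw [map_add]; ring
      rw [this]; exact J.add_mem ha hb
    | mul x y _ _ hx hy =>
      obtain ⟨a, ha⟩ := hx
      obtain ⟨b, hb⟩ := hy
      refine ⟨a * b, ?_⟩
      have : x * y - algebraMap A C (a * b) =
          (x - algebraMap A C a) * y + algebraMap A C a * (y - algebraMap A C b) := by
        rw [map_mul]; ring
      rw [this]
      exact J.add_mem (J.mul_mem_right _ ha) (J.mul_mem_left _ hb)
  refine ⟨J, Submodule.fg_span (Set.Finite.image _ T.finite_toSet), le_antisymm ?_ (sup_le hJN hIN)⟩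
  intro n hn
  obtain ⟨a, ha⟩ := hP n
  have h1 : algebraMap A C a ∈ RingHom.ker s := by
    have : algebraMap A C a = n - (n - algebraMap A C a) := by ring
    rw [this]
    exact (RingHom.ker s).sub_mem hn (hJN ha)
  have h2 : a ∈ I := by
    have : s (algebraMap A C a) = 0 := h1
    rwa [AlgHom.commutes, Ideal.Quotient.algebraMap_eq, Ideal.Quotient.eq_zero_iff_mem] at this
  have : n = (n - algebraMap A C a) + algebraMap A C a := by ring
  rw [this]
  exact Submodule.add_mem_sup ha (Ideal.mem_map_of_mem _ h2)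

/-- For a formally unramified `A`-algebra `C` with an `A`-algebra map `s : C → A ⧸ I`, the kernel
`𝔑` of `s` satisfies `𝔑 ≤ 𝔑² ⊔ I C`. -/
theorem ker_le_sq_sup [Algebra.FormallyUnramified A C] (I : Ideal A) (s : C →ₐ[A] A ⧸ I) :
    RingHom.ker s ≤ (RingHom.ker s) ^ 2 ⊔ I.map (algebraMap A C) := by
  set N : Ideal C := RingHom.ker s with hN
  set L : Ideal C := N ^ 2 ⊔ I.map (algebraMap A C) with hL
  let π : C →ₐ[A] C ⧸ L := Ideal.Quotient.mkₐ A L
  have hI0 : ∀ i ∈ I, algebraMap A (C ⧸ L) i = 0 := by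
    intro i hi
    rw [IsScalarTower.algebraMap_apply A C (C ⧸ L), Ideal.Quotient.algebraMap_eq,
      Ideal.Quotient.eq_zero_iff_mem]
    exact le_sup_right (a := N ^ 2) (Ideal.mem_map_of_mem _ hi)
  let ψ : A ⧸ I →ₐ[A] C ⧸ L := Ideal.Quotient.liftₐ I (Algebra.ofId A (C ⧸ L)) hI0
  let θ : C →ₐ[A] C ⧸ L := ψ.comp s
  let Nbar : Ideal (C ⧸ L) := N.map (Ideal.Quotient.mk L)
  have hNbar : IsNilpotent Nbar := by
    refine ⟨2, ?_⟩
    rw [← Ideal.map_pow, Ideal.zero_eq_bot, Ideal.map_eq_bot_iff_le_ker, Ideal.mk_ker]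
    exact le_sup_left
  have heq : π = θ := by
    refine Algebra.FormallyUnramified.ext Nbar hNbar fun c => ?_
    obtain ⟨a, ha⟩ := Ideal.Quotient.mk_surjective (s c)
    rw [Ideal.Quotient.eq]
    have h1 : θ c = π (algebraMap A C a) := by
      show ψ (s c) = _
      rw [← ha]
      show ψ (algebraMap A (A ⧸ I) a) = _
      rw [AlgHom.commutes, AlgHom.commutes]
    rw [h1, ← map_sub]
    refine Ideal.mem_map_of_mem _ ?_
    show s (c - algebraMap A C a) = 0
    rw [map_sub, AlgHom.commutes, Ideal.Quotient.algebraMap_eq, ha, sub_self]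
  intro n hn
  have h1 : π n = θ n := by rw [heq]
  have h2 : θ n = 0 := by
    show ψ (s n) = 0
    rw [show s n = 0 from hn, map_zero]
  rw [h2] at h1
  exact Ideal.Quotient.eq_zero_iff_mem.mp h1


/-- The quotient by an ideal generated by an idempotent is flat (a direct summand). -/
theorem flat_quotient_span_idempotent [Module.Flat A C] (e : C) (he : IsIdempotentElem e) :
    Module.Flat A (C ⧸ Ideal.span {e}) := by
  let r : C →ₗ[A] C ⧸ Ideal.span {e} := (Ideal.Quotient.mkₐ A (Ideal.span {e})).toLinearMap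
  let m : C →ₗ[A] C := (LinearMap.mulLeft A (1 - e))
  have hm : (Ideal.span {e}).restrictScalars A ≤ LinearMap.ker m := by
    intro x hx
    obtain ⟨y, rfl⟩ := Ideal.mem_span_singleton'.mp hx
    show (1 - e) * (y * e) = 0
    have : (1 - e) * (y * e) = y * (e - e * e) := by ring
    rw [this, he.eq, sub_self, mul_zero]
  let i : C ⧸ Ideal.span {e} →ₗ[A] C :=
    Submodule.liftQ ((Ideal.span {e}).restrictScalars A) m hm
  refine Module.Flat.of_retract i r ?_
  refine LinearMap.ext fun x => ?_
  obtain ⟨c, rfl⟩ := Ideal.Quotient.mk_surjective x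
  show Ideal.Quotient.mk _ ((1 - e) * c) = Ideal.Quotient.mk _ c
  rw [Ideal.Quotient.eq]
  have : (1 - e) * c - c = -c * e := by ring
  rw [this]
  exact Ideal.mul_mem_left _ _ (Ideal.mem_span_singleton_self e)

/-- **Section lifting.** For `C` a flat, formally unramified `A`-algebra of finite type and `I` a
square-zero ideal of `A`, every `A`-algebra map `C → A ⧸ I` lifts to `C → A`. -/
theorem exists_section_lift [Module.Flat A C] [Algebra.FormallyUnramified A C]
    [Algebra.FiniteType A C] (I : Ideal A) (hI : I ^ 2 = ⊥) (s : C →ₐ[A] A ⧸ I) :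
    ∃ σ : C →ₐ[A] A, (Ideal.Quotient.mkₐ A I).comp σ = s := by
  classical
  set N : Ideal C := RingHom.ker s with hN
  set IC : Ideal C := I.map (algebraMap A C) with hIC
  obtain ⟨J, hJfg, hNJ⟩ : ∃ J : Ideal C, J.FG ∧ N = J ⊔ IC := exists_fg_ker_eq_sup I s
  have hNsq : N ≤ N ^ 2 ⊔ IC := ker_le_sq_sup I s
  have hICN : IC ≤ N := by rw [hNJ]; exact le_sup_right
  have hICsq : IC ^ 2 = ⊥ := by rw [hIC, ← Ideal.map_pow, hI, Ideal.map_bot]
  -- pass to `B = C ⧸ IC`
  let mkB : C →+* C ⧸ IC := Ideal.Quotient.mk IC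
  have hmkB : Function.Surjective mkB := Ideal.Quotient.mk_surjective
  have hkerB : RingHom.ker mkB = IC := Ideal.mk_ker
  let n : Ideal (C ⧸ IC) := N.map mkB
  have hICmap : IC.map mkB = ⊥ := by
    rw [Ideal.map_eq_bot_iff_le_ker, hkerB]
  have hnJ : n = J.map mkB := by
    show N.map mkB = _
    rw [hNJ, Ideal.map_sup, hICmap, sup_bot_eq]
  have hnfg : n.FG := hnJ ▸ hJfg.map mkB
  have hnid : IsIdempotentElem n := by
    show n * n = n
    refine le_antisymm Ideal.mul_le_right ?_
    calc n = N.map mkB := rfl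
      _ ≤ (N ^ 2 ⊔ IC).map mkB := Ideal.map_mono hNsq
      _ = n * n := by rw [Ideal.map_sup, hICmap, sup_bot_eq, Ideal.map_pow, pow_two]
  obtain ⟨ebar, hebar, hne⟩ := (Ideal.isIdempotentElem_iff_of_fg n hnfg).mp hnid
  obtain ⟨e, he, hee⟩ := exists_isIdempotentElem_eq_of_ker_isNilpotent mkB
    (fun x hx => ⟨2, by
      rw [hkerB] at hx
      have : x ^ 2 ∈ IC ^ 2 := Ideal.pow_mem_pow hx 2
      rwa [hICsq, Ideal.mem_bot] at this⟩)
    ebar (hmkB ebar) hebar
  -- `N = span {e} ⊔ IC`
  have hcm : ∀ K : Ideal C, (K.map mkB).comap mkB = K ⊔ IC := by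
    intro K
    rw [Ideal.comap_map_of_surjective mkB hmkB, ← RingHom.ker_eq_comap_bot, hkerB]
  have hspan : (Ideal.span {e}).map mkB = n := by
    rw [Ideal.map_span, Set.image_singleton, hee, hne]
  have hNe : N = Ideal.span {e} ⊔ IC := by
    have h1 : N = N ⊔ IC := (sup_eq_left.mpr hICN).symm
    rw [h1, ← hcm N, ← hcm (Ideal.span {e}), hspan]
  have heN : e ∈ N := by
    rw [hNe]; exact Ideal.mem_sup_left (Ideal.mem_span_singleton_self e)
  -- the quotient `C₁ = C ⧸ (e)`
  let E : Ideal C := Ideal.span {e}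
  have hflat : Module.Flat A (C ⧸ E) := flat_quotient_span_idempotent e he
  let φ : A →ₗ[A] C ⧸ E := Algebra.linearMap A (C ⧸ E)
  -- surjectivity
  have hrep : ∀ c : C, ∃ a : A, c - algebraMap A C a ∈ N := by
    intro c
    obtain ⟨a, ha⟩ := Ideal.Quotient.mk_surjective (s c)
    refine ⟨a, ?_⟩
    show s (c - algebraMap A C a) = 0
    rw [map_sub, AlgHom.commutes, Ideal.Quotient.algebraMap_eq, ha, sub_self]
  have hsup : (⊤ : Submodule A (C ⧸ E)) = LinearMap.range φ ⊔ I • ⊤ := by
    refine le_antisymm ?_ le_top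
    rintro x -
    obtain ⟨c, rfl⟩ := Ideal.Quotient.mk_surjective x
    obtain ⟨a, ha⟩ := hrep c
    rw [hNe] at ha
    obtain ⟨y, hy, z, hz, hyz⟩ := Submodule.mem_sup.mp ha
    have hc : Ideal.Quotient.mk E c = algebraMap A (C ⧸ E) a + Ideal.Quotient.mk E z := by
      have : c = algebraMap A C a + (y + z) := by rw [hyz]; ring
      conv_lhs => rw [this]
      rw [map_add, map_add, Ideal.Quotient.eq_zero_iff_mem.mpr hy, zero_add]
      rfl
    rw [hc]
    refine Submodule.add_mem_sup ⟨a, rfl⟩ ?_
    -- `mk z ∈ I • ⊤`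
    have hz' : z ∈ IC := hz
    rw [hIC] at hz'
    refine Submodule.span_induction (p := fun z _ => Ideal.Quotient.mk E z ∈ I • (⊤ : Submodule A (C ⧸ E)))
      ?_ ?_ ?_ ?_ hz'
    · rintro _ ⟨i, hi, rfl⟩
      have : Ideal.Quotient.mk E (algebraMap A C i) = i • (1 : C ⧸ E) := by
        rw [Algebra.smul_def, mul_one]; rfl
      rw [this]
      exact Submodule.smul_mem_smul hi Submodule.mem_top
    · simp
    · intro x y _ _ hx hy
      rw [map_add]; exact Submodule.add_mem _ hx hy
    · intro c x _ hx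
      rw [smul_eq_mul, map_mul]
      have : Ideal.Quotient.mk E c * Ideal.Quotient.mk E x ∈
          I • (⊤ : Submodule A (C ⧸ E)) := by
        refine Submodule.smul_induction_on hx ?_ ?_
        · intro i hi m _
          rw [mul_smul_comm]
          exact Submodule.smul_mem_smul hi Submodule.mem_top
        · intro x y hx hy
          rw [mul_add]; exact Submodule.add_mem _ hx hy
      exact this
  have hsurj : Function.Surjective φ := by
    rw [← LinearMap.range_eq_top]
    have h1 : I • (⊤ : Submodule A (C ⧸ E)) ≤ LinearMap.range φ := by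
      conv_lhs => rw [hsup, Submodule.smul_sup, ← mul_smul, ← pow_two, hI, Submodule.bot_smul,
        sup_bot_eq]
      exact Submodule.smul_le_right
    rw [eq_top_iff, hsup]
    exact sup_le le_rfl h1
  -- injectivity
  have hflatker := LinearMap.ker_inf_smul_top_eq_smul_of_flat I φ hsurj
  -- the induced map `C ⧸ E → A ⧸ I`
  let s₁ : C ⧸ E →ₐ[A] A ⧸ I := Ideal.Quotient.liftₐ E s (by
    intro x hx
    have : x ∈ N := by
      rw [hNe]; exact Ideal.mem_sup_left hx
    exact this)
  have hkerI : LinearMap.ker φ ≤ I := by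
    intro a ha
    have h0 : algebraMap A (C ⧸ E) a = 0 := ha
    have : s₁ (algebraMap A (C ⧸ E) a) = 0 := by rw [h0, map_zero]
    rwa [AlgHom.commutes, Ideal.Quotient.algebraMap_eq, Ideal.Quotient.eq_zero_iff_mem] at this
  have hinj : Function.Injective φ := by
    rw [← LinearMap.ker_eq_bot, eq_bot_iff]
    have h1 : LinearMap.ker φ ≤ LinearMap.ker φ ⊓ I • (⊤ : Submodule A A) := by
      refine le_inf le_rfl ?_
      rw [Ideal.smul_top_eq_map, Algebra.algebraMap_self, Ideal.map_id]
      exact hkerI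
    rw [hflatker] at h1
    refine h1.trans ?_
    calc I • LinearMap.ker φ ≤ I • I := Submodule.smul_mono le_rfl hkerI
      _ = I ^ 2 := by rw [smul_eq_mul, pow_two]
      _ = ⊥ := hI
  let eq : A ≃ₐ[A] C ⧸ E :=
    AlgEquiv.ofBijective (Algebra.ofId A (C ⧸ E)) ⟨hinj, hsurj⟩
  let σ : C →ₐ[A] A := (eq.symm : C ⧸ E →ₐ[A] A).comp (Ideal.Quotient.mkₐ A E)
  refine ⟨σ, AlgHom.ext fun c => ?_⟩
  have h1 : algebraMap A (C ⧸ E) (σ c) = Ideal.Quotient.mk E c := by
    show eq (eq.symm (Ideal.Quotient.mk E c)) = _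
    rw [AlgEquiv.apply_symm_apply]
  have h2 : c - algebraMap A C (σ c) ∈ E := by
    rw [← Ideal.Quotient.eq, ← h1]; rfl
  have h3 : s (c - algebraMap A C (σ c)) = 0 := by
    have : c - algebraMap A C (σ c) ∈ N := by
      rw [hNe]; exact Ideal.mem_sup_left h2
    exact this
  rw [map_sub, AlgHom.commutes, sub_eq_zero] at h3
  rw [h3]; rfl

end sectionLift


open TensorProduct in
/-- A flat, formally unramified algebra of finite type is formally étale
(no finite presentation needed). -/
theorem formallyEtale_of_flat_of_formallyUnramified {R : Type u} {C : Type v} [CommRing R]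
    [CommRing C] [Algebra R C] [Module.Flat R C] [Algebra.FormallyUnramified R C]
    [Algebra.FiniteType R C] : Algebra.FormallyEtale R C := by
  have hsm : Algebra.FormallySmooth R C := by
    refine .of_comp_surjective fun B _ _ I hI f => ?_
    let s : B ⊗[R] C →ₐ[B] B ⧸ I :=
      Algebra.TensorProduct.lift (Algebra.ofId B (B ⧸ I)) f (fun _ _ => Commute.all _ _)
    obtain ⟨σ, hσ⟩ := exists_section_lift I hI s
    refine ⟨(σ.restrictScalars R).comp Algebra.TensorProduct.includeRight, AlgHom.ext fun c => ?_⟩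
    have := AlgHom.congr_fun hσ ((1 : B) ⊗ₜ[R] c)
    simpa [s] using this
  exact .of_formallyUnramified_and_formallySmooth

end Groth.Agent.Lib.Helper61.FlatUnram
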