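import Mathlib
import Groth.Agent.Lib.Helper61.GU13

/-!
# Integral birational extensions of local rings and geometric unibranchness (helper61)

Ring-level core of EGA IV 6.15.5-type statements: for a local ring `A` and an integral `A`-algebra
`B` which is "birational" (bijection on minimal primes, trivial residue extensions there), `A` is
geometrically unibranch iff `B` is local, geometrically unibranch and radicial over `A`.
-/

set_option autoImplicit false
set_option linter.style.haveILetI false
universe u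

open IsLocalRing Groth.Agent.Lib.Helper38 Groth.Agent.Lib.Helper61.GU

namespace Groth.Agent.Lib.Helper61.RadBir

/-- Birationality of an algebra `A → B`, in terms of minimal primes. -/
structure IsBir (A B : Type u) [CommRing A] [CommRing B] [Algebra A B] : Prop where
  comap_min : ∀ Q ∈ minimalPrimes B, Q.comap (algebraMap A B) ∈ minimalPrimes A
  exists_over : ∀ P ∈ minimalPrimes A, ∃ Q : Ideal B, Q.IsPrime ∧ Q.comap (algebraMap A B) = P
  unique_over : ∀ P ∈ minimalPrimes A, ∀ Q Q' : Ideal B, Q.IsPrime → Q'.IsPrime →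
    Q.comap (algebraMap A B) = P → Q'.comap (algebraMap A B) = P → Q = Q'
  frac : ∀ P ∈ minimalPrimes A, ∀ Q : Ideal B, Q.IsPrime → Q.comap (algebraMap A B) = P →
    ∀ b : B, ∃ a r : A, r ∉ P ∧ algebraMap A B r * b - algebraMap A B a ∈ Q

section prelim

variable {A : Type u} [CommRing A]

theorem eq_nilradical_of_mem_minimalPrimes (h : (nilradical A).IsPrime) {P : Ideal A}
    (hP : P ∈ minimalPrimes A) : P = nilradical A :=
  le_antisymm (hP.2 ⟨h, bot_le⟩ (nilradical_le_prime P (H := hP.1.1)))
    (nilradical_le_prime P (H := hP.1.1))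

theorem nilradical_mem_minimalPrimes (h : (nilradical A).IsPrime) :
    nilradical A ∈ minimalPrimes A := by
  haveI := h
  obtain ⟨P, hP, hle⟩ := Ideal.exists_minimalPrimes_le (J := nilradical A) (I := ⊥) bot_le
  have hP' : P ∈ minimalPrimes A := hP
  rwa [← eq_nilradical_of_mem_minimalPrimes h hP']

theorem nilradical_eq_of_forall_minimalPrimes_eq {Q₀ : Ideal A} (hQ₀ : Q₀.IsPrime)
    (h : ∀ Q ∈ minimalPrimes A, Q = Q₀) : nilradical A = Q₀ := by
  apply le_antisymm (nilradical_le_prime Q₀)
  intro x hx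
  rw [nilradical_eq_sInf, Ideal.mem_sInf]
  intro J hJ
  haveI : J.IsPrime := hJ
  obtain ⟨P, hP, hle⟩ := Ideal.exists_minimalPrimes_le (J := J) (I := ⊥) bot_le
  have hP' : P ∈ minimalPrimes A := hP
  rw [h P hP'] at hle
  exact hle hx

/-- A ring admitting an integral map with nil kernel to a local ring is local. -/
theorem isLocalRing_of_isIntegral_of_ker_nil {B D : Type u} [CommRing B] [CommRing D]
    [IsLocalRing D] (ψ : B →+* D) (hker : ∀ b, ψ b = 0 → IsNilpotent b) (hψ : ψ.IsIntegral) :
    ∃ _ : IsLocalRing B, (maximalIdeal D).comap ψ = maximalIdeal B := by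
  have hmax : ((maximalIdeal D).comap ψ).IsMaximal :=
    Ideal.isMaximal_comap_of_isIntegral_of_isMaximal' ψ hψ _
  have huniq : ∀ n : Ideal B, n.IsMaximal → n = (maximalIdeal D).comap ψ := by
    intro n hn
    letI : Algebra B D := ψ.toAlgebra
    haveI : Algebra.IsIntegral B D := ⟨hψ⟩
    have hkn : RingHom.ker (algebraMap B D) ≤ n := by
      intro b hb
      have : IsNilpotent b := hker b hb
      exact nilradical_le_prime n (mem_nilradical.mpr this)
    obtain ⟨N, hN, hNn⟩ := Ideal.exists_ideal_over_maximal_of_isIntegral (S := D) n hkn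
    have hNeq : N = maximalIdeal D := IsLocalRing.eq_maximalIdeal hN
    rw [← hNn, hNeq]
    rfl
  have hloc : IsLocalRing B := IsLocalRing.of_unique_max_ideal ⟨_, hmax, fun n hn => huniq n hn⟩
  exact ⟨hloc, (IsLocalRing.eq_maximalIdeal hmax)⟩

/-- The residue field of the target of an integral map of local rings has the same exponential
characteristic. -/
theorem ringExpChar_quotient_eq {A D : Type u} [CommRing A] [IsLocalRing A] [CommRing D]
    [IsLocalRing D] (ψ : A →+* D) (hψ : ψ.IsIntegral) (e : ℕ) [ExpChar (ResidueField A) e] :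
    ringExpChar (D ⧸ maximalIdeal D) = e := by
  have hmax : ((maximalIdeal D).comap ψ).IsMaximal :=
    Ideal.isMaximal_comap_of_isIntegral_of_isMaximal' ψ hψ _
  have hle : maximalIdeal A ≤ (maximalIdeal D).comap ψ :=
    (IsLocalRing.eq_maximalIdeal hmax).ge
  let g : ResidueField A →+* D ⧸ maximalIdeal D := Ideal.quotientMap (maximalIdeal D) ψ hle
  have hg : Function.Injective g := RingHom.injective g
  haveI : ExpChar (D ⧸ maximalIdeal D) e := expChar_of_injective_ringHom hg e
  exact ringExpChar.eq _ e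

theorem comap_maximalIdeal_eq {A D : Type u} [CommRing A] [IsLocalRing A] [CommRing D]
    [IsLocalRing D] (ψ : A →+* D) (hψ : ψ.IsIntegral) :
    (maximalIdeal D).comap ψ = maximalIdeal A :=
  IsLocalRing.eq_maximalIdeal (Ideal.isMaximal_comap_of_isIntegral_of_isMaximal' ψ hψ _)

end prelim

section main

variable {A B : Type u} [CommRing A] [CommRing B] [Algebra A B]

theorem comap_nilradical_eq (hbir : IsBir A B) (hA : (nilradical A).IsPrime)
    (hB : (nilradical B).IsPrime) :
    (nilradical B).comap (algebraMap A B) = nilradical A :=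
  eq_nilradical_of_mem_minimalPrimes hA (hbir.comap_min _ (nilradical_mem_minimalPrimes hB))

/-- The canonical map `B → normRed B`. -/
noncomputable def toNormRed (B : Type u) [CommRing B] : B →+* CAlg2.normRed B :=
  (algebraMap (CAlg2.red B) (CAlg2.normRed B)).comp (Ideal.Quotient.mk (nilradical B))

theorem toNormRed_eq_zero_iff (B : Type u) [CommRing B] [IsDomain (CAlg2.red B)] (b : B) :
    toNormRed B b = 0 ↔ IsNilpotent b := by
  have hinj := (algebraMap_red_normRed_isFracExt B).inj
  unfold toNormRed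
  rw [RingHom.comp_apply, ← map_zero (algebraMap (CAlg2.red B) (CAlg2.normRed B)),
    hinj.eq_iff, Ideal.Quotient.eq_zero_iff_mem, mem_nilradical]

theorem toNormRed_isIntegral (B : Type u) [CommRing B] : (toNormRed B).IsIntegral := by
  unfold toNormRed
  apply RingHom.IsIntegral.trans
  · exact RingHom.isIntegral_of_surjective _ Ideal.Quotient.mk_surjective
  · exact algebraMap_isIntegral_iff.mpr inferInstance

theorem toNormRed_frac (B : Type u) [CommRing B] [IsDomain (CAlg2.red B)]
    (d : CAlg2.normRed B) : ∃ b c : B, toNormRed B c ≠ 0 ∧ d * toNormRed B c = toNormRed B b := by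
  obtain ⟨b', c', hc', h⟩ := (algebraMap_red_normRed_isFracExt B).frac d
  obtain ⟨b, rfl⟩ := Ideal.Quotient.mk_surjective b'
  obtain ⟨c, rfl⟩ := Ideal.Quotient.mk_surjective c'
  refine ⟨b, c, ?_, h⟩
  intro h0
  apply hc'
  exact (algebraMap_red_normRed_isFracExt B).inj (by rw [map_zero]; exact h0)

/-- The composite `A → B → normRed B`. -/
noncomputable def toNormRedOf (A B : Type u) [CommRing A] [CommRing B] [Algebra A B] :
    A →+* CAlg2.normRed B :=
  (toNormRed B).comp (algebraMap A B)

theorem toNormRedOf_ker (hbir : IsBir A B) (hA : (nilradical A).IsPrime)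
    [IsDomain (CAlg2.red B)] (a : A) (h : toNormRedOf A B a = 0) : IsNilpotent a := by
  have hB : (nilradical B).IsPrime := (Ideal.Quotient.isDomain_iff_prime _).mp inferInstance
  have h1 : IsNilpotent (algebraMap A B a) := (toNormRed_eq_zero_iff B _).mp h
  have h2 : a ∈ (nilradical B).comap (algebraMap A B) := mem_nilradical.mpr h1
  rw [comap_nilradical_eq hbir hA hB] at h2
  exact mem_nilradical.mp h2

theorem toNormRedOf_isIntegral [Algebra.IsIntegral A B] : (toNormRedOf A B).IsIntegral :=
  RingHom.IsIntegral.trans _ _ (algebraMap_isIntegral_iff.mpr inferInstance)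
    (toNormRed_isIntegral B)

theorem toNormRedOf_frac (hbir : IsBir A B) (hA : (nilradical A).IsPrime)
    [IsDomain (CAlg2.red B)] (d : CAlg2.normRed B) :
    ∃ a c : A, toNormRedOf A B c ≠ 0 ∧ d * toNormRedOf A B c = toNormRedOf A B a := by
  have hB : (nilradical B).IsPrime := (Ideal.Quotient.isDomain_iff_prime _).mp inferInstance
  have hco := comap_nilradical_eq hbir hA hB
  have hmin := nilradical_mem_minimalPrimes hA
  obtain ⟨b, c, hc, hbc⟩ := toNormRed_frac B d
  obtain ⟨a₁, r₁, hr₁, h₁⟩ := hbir.frac _ hmin _ hB hco b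
  obtain ⟨a₂, r₂, hr₂, h₂⟩ := hbir.frac _ hmin _ hB hco c
  have e₁ : toNormRed B (algebraMap A B r₁) * toNormRed B b = toNormRed B (algebraMap A B a₁) := by
    rw [← map_mul, ← sub_eq_zero, ← map_sub, toNormRed_eq_zero_iff]
    exact mem_nilradical.mp h₁
  have e₂ : toNormRed B (algebraMap A B r₂) * toNormRed B c = toNormRed B (algebraMap A B a₂) := by
    rw [← map_mul, ← sub_eq_zero, ← map_sub, toNormRed_eq_zero_iff]
    exact mem_nilradical.mp h₂
  have hr : ∀ r : A, r ∉ nilradical A → toNormRed B (algebraMap A B r) ≠ 0 := by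
    intro r hr h0
    apply hr
    exact mem_nilradical.mpr (toNormRedOf_ker hbir hA r h0)
  refine ⟨a₁ * r₂, a₂ * r₁, ?_, ?_⟩
  · simp only [toNormRedOf, RingHom.comp_apply, map_mul]
    rw [← e₂]
    exact mul_ne_zero (mul_ne_zero (hr r₂ hr₂) hc) (hr r₁ hr₁)
  · simp only [toNormRedOf, RingHom.comp_apply, map_mul]
    rw [← e₂, ← e₁]
    calc d * (toNormRed B (algebraMap A B r₂) * toNormRed B c * toNormRed B (algebraMap A B r₁))
        = (d * toNormRed B c) * (toNormRed B (algebraMap A B r₂) *
            toNormRed B (algebraMap A B r₁)) := by ring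
      _ = toNormRed B (algebraMap A B r₁) * toNormRed B b * toNormRed B (algebraMap A B r₂) := by
          rw [hbc]; ring

/-- **Descent.** If `B` is local, radicial over `A` and geometrically unibranch, then `A` is
geometrically unibranch. -/
theorem isGeomUnibranch_of_isBir [Algebra.IsIntegral A B] [IsLocalRing A] [IsLocalRing B]
    (hbir : IsBir A B) (e : ℕ) [ExpChar (ResidueField A) e]
    (hpi : ∀ b : B, ∃ (n : ℕ) (a : A), b ^ e ^ n - algebraMap A B a ∈ maximalIdeal B)
    (hB : CAlg2.IsGeomUnibranch B) : CAlg2.IsGeomUnibranch A := by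
  haveI hBdom : IsDomain (CAlg2.red B) := hB.1.1
  haveI hBloc : IsLocalRing (CAlg2.normRed B) := hB.1.2
  have hBnil : (nilradical B).IsPrime := (Ideal.Quotient.isDomain_iff_prime _).mp hBdom
  -- the nilradical of `A` is prime
  have hAnil : (nilradical A).IsPrime := by
    have hP₀ : ((nilradical B).comap (algebraMap A B)).IsPrime := Ideal.comap_isPrime _ _
    have hmin : (nilradical B).comap (algebraMap A B) ∈ minimalPrimes A :=
      hbir.comap_min _ (nilradical_mem_minimalPrimes hBnil)
    have : nilradical A = (nilradical B).comap (algebraMap A B) := by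
      apply nilradical_eq_of_forall_minimalPrimes_eq hP₀
      intro P hP
      obtain ⟨Q, hQ, hQP⟩ := hbir.exists_over P hP
      have hle : (nilradical B).comap (algebraMap A B) ≤ P := by
        rw [← hQP]
        exact Ideal.comap_mono (nilradical_le_prime Q)
      exact le_antisymm (hP.2 ⟨hP₀, bot_le⟩ hle) hle
    rw [this]
    exact hP₀
  have hψi : (toNormRedOf A B).IsIntegral := toNormRedOf_isIntegral
  have hE : ringExpChar (CAlg2.normRed B ⧸ maximalIdeal (CAlg2.normRed B)) = e :=
    ringExpChar_quotient_eq (toNormRedOf A B) hψi e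
  haveI : IsIntegrallyClosed (CAlg2.normRed B) :=
    integralClosure.isIntegrallyClosedOfFiniteExtension (FractionRing (CAlg2.red B))
  refine isGeomUnibranch_of_normalization' (toNormRedOf A B) (toNormRedOf_ker hbir hAnil) hψi
    (toNormRedOf_frac hbir hAnil) ?_
  intro x
  obtain ⟨n, b, hb⟩ := hB.2 (maximalIdeal (CAlg2.normRed B)) x
  obtain ⟨m, a, ha⟩ := hpi b
  rw [hE] at hb ⊢
  have hb' : Ideal.Quotient.mk (maximalIdeal (CAlg2.normRed B)) (toNormRed B b) = x ^ e ^ n := hb
  refine ⟨n + m, a, ?_⟩
  have hmB : (maximalIdeal (CAlg2.normRed B)).comap (toNormRed B) = maximalIdeal B :=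
    comap_maximalIdeal_eq _ (toNormRed_isIntegral B)
  have h1 : toNormRed B (b ^ e ^ m - algebraMap A B a) ∈ maximalIdeal (CAlg2.normRed B) := by
    rw [← Ideal.mem_comap, hmB]
    exact ha
  rw [map_sub, map_pow] at h1
  have h2 := (Ideal.Quotient.mk_eq_mk_iff_sub_mem _ _).mpr h1
  rw [map_pow, hb'] at h2
  rw [RingHom.comp_apply, pow_add, pow_mul, h2]
  rfl

/-- **Ascent.** If `A` is geometrically unibranch then `B` is local, radicial over `A` and
geometrically unibranch. -/
theorem isGeomUnibranch_isBir [Algebra.IsIntegral A B] [IsLocalRing A]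
    (hbir : IsBir A B) (hA : CAlg2.IsGeomUnibranch A) (e : ℕ) [ExpChar (ResidueField A) e] :
    ∃ _ : IsLocalRing B,
      (∀ b : B, ∃ (n : ℕ) (a : A), b ^ e ^ n - algebraMap A B a ∈ maximalIdeal B) ∧
      CAlg2.IsGeomUnibranch B := by
  haveI hAdom : IsDomain (CAlg2.red A) := hA.1.1
  haveI hAloc : IsLocalRing (CAlg2.normRed A) := hA.1.2
  have hAnil : (nilradical A).IsPrime := (Ideal.Quotient.isDomain_iff_prime _).mp hAdom
  -- the nilradical of `B` is prime
  have hBnil : (nilradical B).IsPrime := by
    obtain ⟨Q₀, hQ₀, hQ₀A⟩ := hbir.exists_over _ (nilradical_mem_minimalPrimes hAnil)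
    have : nilradical B = Q₀ := by
      apply nilradical_eq_of_forall_minimalPrimes_eq hQ₀
      intro Q hQ
      have h1 := eq_nilradical_of_mem_minimalPrimes hAnil (hbir.comap_min Q hQ)
      exact hbir.unique_over _ (nilradical_mem_minimalPrimes hAnil) Q Q₀ hQ.1.1 hQ₀ h1 hQ₀A
    rw [this]
    exact hQ₀
  haveI hBdom : IsDomain (CAlg2.red B) := (Ideal.Quotient.isDomain_iff_prime _).mpr hBnil
  have hψker := toNormRedOf_ker hbir hAnil
  have hψi : (toNormRedOf A B).IsIntegral := toNormRedOf_isIntegral
  have hψfrac := toNormRedOf_frac hbir hAnil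
  -- the induced map on the reduction of `A`
  let φ : CAlg2.red A →+* CAlg2.normRed B :=
    Ideal.Quotient.lift (nilradical A) (toNormRedOf A B) (fun a ha => by
      obtain ⟨n, hn⟩ := (mem_nilradical.mp ha)
      have : toNormRedOf A B a ^ n = 0 := by rw [← map_pow, hn, map_zero]
      exact pow_eq_zero_iff (n := n) (by rintro rfl; simp at this) |>.mp this)
  have hφmk : ∀ a, φ (Ideal.Quotient.mk _ a) = toNormRedOf A B a :=
    fun a => Ideal.Quotient.lift_mk _ _ _
  have hφinj : Function.Injective φ := by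
    rw [injective_iff_map_eq_zero]
    intro c hc
    obtain ⟨a, rfl⟩ := Ideal.Quotient.mk_surjective c
    rw [hφmk] at hc
    exact Ideal.Quotient.eq_zero_iff_mem.mpr (mem_nilradical.mpr (hψker a hc))
  have hφ : IsFracExt φ := by
    refine ⟨hφinj, fun d => ?_⟩
    obtain ⟨a, c, hc, hac⟩ := hψfrac d
    refine ⟨Ideal.Quotient.mk _ a, Ideal.Quotient.mk _ c, ?_, ?_⟩
    · intro h0
      apply hc
      rw [← hφmk, h0, map_zero]
    · rw [hφmk, hφmk, hac]
  have hφi : φ.IsIntegral := by
    intro d
    obtain ⟨p, hp, hpd⟩ := hψi d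
    refine ⟨p.map (Ideal.Quotient.mk (nilradical A)), hp.map _, ?_⟩
    rw [Polynomial.eval₂_map]
    have : φ.comp (Ideal.Quotient.mk (nilradical A)) = toNormRedOf A B :=
      RingHom.ext fun a => hφmk a
    rw [this]
    exact hpd
  haveI : IsIntegrallyClosed (CAlg2.normRed A) :=
    integralClosure.isIntegrallyClosedOfFiniteExtension (FractionRing (CAlg2.red A))
  haveI : IsIntegrallyClosed (CAlg2.normRed B) :=
    integralClosure.isIntegrallyClosedOfFiniteExtension (FractionRing (CAlg2.red B))
  obtain ⟨ε, hε⟩ := exists_ringEquiv_of_isFracExt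
    (algebraMap (CAlg2.red A) (CAlg2.normRed A)) (algebraMap_red_normRed_isFracExt A)
    (algebraMap_isIntegral_iff.mpr inferInstance) φ hφ hφi
  -- the map `B → normRed A`
  let ψ' : B →+* CAlg2.normRed A := (ε.symm : CAlg2.normRed B →+* CAlg2.normRed A).comp (toNormRed B)
  have hψ'φ : ∀ a : A, ψ' (algebraMap A B a) = toNormRed A a := by
    intro a
    show ε.symm (toNormRedOf A B a) = _
    rw [← hφmk, ← hε, RingEquiv.symm_apply_apply]
    rfl
  have hψ'ker : ∀ b, ψ' b = 0 → IsNilpotent b := by
    intro b hb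
    have : toNormRed B b = 0 := by
      have := congrArg ε hb
      simpa [ψ'] using this
    exact (toNormRed_eq_zero_iff B b).mp this
  have hψ'i : ψ'.IsIntegral :=
    RingHom.IsIntegral.trans _ _ (toNormRed_isIntegral B)
      (RingHom.isIntegral_of_surjective _ ε.symm.surjective)
  obtain ⟨hBloc, hmB⟩ := isLocalRing_of_isIntegral_of_ker_nil ψ' hψ'ker hψ'i
  have hE : ringExpChar (CAlg2.normRed A ⧸ maximalIdeal (CAlg2.normRed A)) = e :=
    ringExpChar_quotient_eq (toNormRed A) (toNormRed_isIntegral A) e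
  refine ⟨hBloc, ?_, ?_⟩
  · intro b
    obtain ⟨n, a, ha⟩ := hA.2 (maximalIdeal (CAlg2.normRed A))
      (Ideal.Quotient.mk _ (ψ' b))
    rw [hE] at ha
    refine ⟨n, a, ?_⟩
    rw [← hmB, Ideal.mem_comap, map_sub, map_pow, hψ'φ]
    have ha' : Ideal.Quotient.mk (maximalIdeal (CAlg2.normRed A)) (toNormRed A a) =
        (Ideal.Quotient.mk _ (ψ' b)) ^ e ^ n := ha
    rw [← map_pow] at ha'
    exact (Ideal.Quotient.mk_eq_mk_iff_sub_mem _ _).mp ha'.symm
  · refine isGeomUnibranch_of_normalization' ψ' hψ'ker hψ'i ?_ ?_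
    · intro d
      obtain ⟨b, c, hc, hbc⟩ := toNormRed_frac B (ε d)
      refine ⟨b, c, ?_, ?_⟩
      · intro h0
        apply hc
        have := congrArg ε h0
        simpa [ψ'] using this
      · show d * ε.symm (toNormRed B c) = ε.symm (toNormRed B b)
        rw [← hbc, map_mul, RingEquiv.symm_apply_apply]
    · intro x
      obtain ⟨n, a, ha⟩ := hA.2 (maximalIdeal (CAlg2.normRed A)) x
      refine ⟨n, algebraMap A B a, ?_⟩
      rw [RingHom.comp_apply, hψ'φ]
      exact ha

end main

end Groth.Agent.Lib.Helper61.RadBir
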