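import Mathlib

/-!
# Local structure of unramified / étale local homomorphisms (helper61)

Glue between `Algebra.EssFiniteType` local algebras and Mathlib's
`Algebra.IsUnramifiedAt.exists_hasStandardEtaleSurjectionOn`,
`Algebra.IsEtaleAt.exists_isStandardEtale`.
-/

set_option autoImplicit false
universe u

namespace Groth.Agent.Lib.Helper61.EtLocalCore

open IsLocalRing

section general

variable {A C B : Type u} [CommRing A] [CommRing C] [CommRing B] [Algebra A C] [Algebra A B]
  [Algebra C B] [IsScalarTower A C B] [IsLocalRing B]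

/-- If `B = C_q` is local, `f ∉ q` and `φ : P' → C_f` is a surjective `A`-algebra map, then `B` is a
quotient of the localization of `P'` at a prime. -/
theorem exists_of_surjection (q : Ideal C) [q.IsPrime] [IsLocalization.AtPrime B q]
    (f : C) (hf : f ∉ q) {P' : Type u} [CommRing P'] [Algebra A P']
    (φ : P' →ₐ[A] Localization.Away f) (hφ : Function.Surjective φ) :
    ∃ (𝔮 : Ideal P') (_ : 𝔮.IsPrime),
      (∃ I : Ideal (Localization.AtPrime 𝔮), Nonempty (B ≃ₐ[A] (Localization.AtPrime 𝔮 ⧸ I))) ∧
      (Function.Injective φ → Nonempty (B ≃ₐ[A] Localization.AtPrime 𝔮)) := by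
  classical
  have hqm : (maximalIdeal B).comap (algebraMap C B) = q :=
    IsLocalization.AtPrime.under_maximalIdeal B q
  have hunit : ∀ y : Submonoid.powers f, IsUnit (Algebra.ofId C B (y : C)) := by
    rintro ⟨_, n, rfl⟩
    have : IsUnit (algebraMap C B f) :=
      IsLocalization.map_units (M := q.primeCompl) B ⟨f, hf⟩
    simpa using this.pow n
  let ψ : Localization.Away f →ₐ[C] B :=
    IsLocalization.liftAlgHom (M := Submonoid.powers f) (f := Algebra.ofId C B) hunit
  algebraize [ψ.toRingHom]
  have t1 : IsScalarTower C (Localization.Away f) B :=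
    .of_algebraMap_eq' ψ.comp_algebraMap.symm
  have t2 : IsScalarTower A (Localization.Away f) B := .to₁₃₄ A C _ _
  let q' : Ideal (Localization.Away f) := (maximalIdeal B).comap (algebraMap (Localization.Away f) B)
  have hq' : q'.IsPrime := Ideal.comap_isPrime _ _
  have hle : Submonoid.powers f ≤ q.primeCompl := by
    rintro _ ⟨n, rfl⟩
    exact fun h => hf (‹q.IsPrime›.mem_of_pow_mem n h)
  have l1 : IsLocalization (q.primeCompl.map (algebraMap C (Localization.Away f))) B :=
    IsLocalization.isLocalization_of_submonoid_le (Localization.Away f) B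
      (Submonoid.powers f) q.primeCompl hle
  have l2 : IsLocalization.AtPrime B q' := by
    refine IsLocalization.of_le (M := q.primeCompl.map (algebraMap C (Localization.Away f)))
      (N := q'.primeCompl) ?_ ?_
    · rintro _ ⟨c, hc, rfl⟩
      show algebraMap C (Localization.Away f) c ∉ q'
      intro h
      apply hc
      rw [← hqm]
      show algebraMap C B c ∈ maximalIdeal B
      rw [IsScalarTower.algebraMap_apply C (Localization.Away f) B]
      exact h
    · intro r hr
      by_contra h
      exact hr ((mem_maximalIdeal _).mpr h)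
  let eB : B ≃ₐ[A] Localization.AtPrime q' :=
    (IsLocalization.algEquiv q'.primeCompl B (Localization.AtPrime q')).restrictScalars A
  let 𝔮 : Ideal P' := q'.comap φ
  have h𝔮 : 𝔮.IsPrime := Ideal.comap_isPrime _ _
  refine ⟨𝔮, h𝔮, ?_, ?_⟩
  · let L : Localization.AtPrime 𝔮 →ₐ[A] Localization.AtPrime q' :=
      Localization.localAlgHom 𝔮 q' φ rfl
    have hL : Function.Surjective L := by
      intro y
      obtain ⟨x, hx⟩ := RingHom.surjective_localRingHom_of_surjective φ.toRingHom hφ q' y
      exact ⟨x, hx⟩
    exact ⟨RingHom.ker L, ⟨eB.trans (Ideal.quotientKerAlgEquivOfSurjective hL).symm⟩⟩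
  · intro hinj
    let e : P' ≃ₐ[A] Localization.Away f := AlgEquiv.ofBijective φ ⟨hinj, hφ⟩
    exact ⟨eB.trans (Localization.localAlgEquiv 𝔮 q' e rfl).symm⟩

end general

section local_

variable (A B : Type u) [CommRing A] [CommRing B] [Algebra A B] [IsLocalRing B]
  [Algebra.EssFiniteType A B]

/-- the prime of the chosen finite type subalgebra under the maximal ideal of `B`. -/
noncomputable abbrev qC : Ideal (Algebra.EssFiniteType.subalgebra A B) :=
  (maximalIdeal B).comap (algebraMap (Algebra.EssFiniteType.subalgebra A B) B)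

instance : (qC A B).IsPrime := Ideal.comap_isPrime _ _

instance isLocalization_qC : IsLocalization.AtPrime B (qC A B) := by
  have h : (qC A B).primeCompl = Algebra.EssFiniteType.submonoid A B := by
    ext x
    show x ∉ qC A B ↔ x ∈ Algebra.EssFiniteType.submonoid A B
    simp only [qC, Ideal.mem_comap, mem_maximalIdeal, mem_nonunits_iff, not_not,
      Algebra.EssFiniteType.submonoid, Submonoid.mem_comap, IsUnit.mem_submonoid_iff]
  show IsLocalization (qC A B).primeCompl B
  rw [h]
  infer_instance

/-- `B ≅ C_q` as `A`-algebras. -/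
noncomputable def equivLocQC : B ≃ₐ[A] Localization.AtPrime (qC A B) :=
  (IsLocalization.algEquiv (qC A B).primeCompl B (Localization.AtPrime (qC A B))).restrictScalars A

/-- unramified local homomorphisms, essentially of finite type: structure theorem. -/
theorem exists_standardEtale_quotient [Algebra.FormallyUnramified A B] :
    ∃ (P : StandardEtalePair A) (𝔮 : Ideal P.Ring) (_ : 𝔮.IsPrime)
      (I : Ideal (Localization.AtPrime 𝔮)), Nonempty (B ≃ₐ[A] (Localization.AtPrime 𝔮 ⧸ I)) := by
  have hU : Algebra.IsUnramifiedAt A (qC A B) := by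
    show Algebra.FormallyUnramified A (Localization.AtPrime (qC A B))
    exact .of_equiv (equivLocQC A B)
  obtain ⟨f, hf, P, φ, hφ⟩ :=
    Algebra.IsUnramifiedAt.exists_hasStandardEtaleSurjectionOn (R := A) (qC A B)
  obtain ⟨𝔮, h𝔮, ⟨I, hI⟩, -⟩ := exists_of_surjection (A := A) (B := B) (qC A B) f hf φ hφ
  exact ⟨P, 𝔮, h𝔮, I, hI⟩

/-- étale local homomorphisms, essentially of finite presentation: structure theorem. -/
theorem exists_standardEtale_localization [Algebra.FormallyEtale A B]
    [Algebra.FinitePresentation A (Algebra.EssFiniteType.subalgebra A B)] :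
    ∃ (P : StandardEtalePair A) (𝔮 : Ideal P.Ring) (_ : 𝔮.IsPrime),
      Nonempty (B ≃ₐ[A] Localization.AtPrime 𝔮) := by
  have hE : Algebra.IsEtaleAt A (qC A B) := by
    show Algebra.FormallyEtale A (Localization.AtPrime (qC A B))
    exact .of_equiv (equivLocQC A B)
  obtain ⟨f, hf, hst⟩ := Algebra.IsEtaleAt.exists_isStandardEtale (R := A) (qC A B)
  let pres : StandardEtalePresentation A (Localization.Away f) :=
    hst.nonempty_standardEtalePresentation.some
  obtain ⟨𝔮, h𝔮, -, h2⟩ := exists_of_surjection (A := A) (B := B) (qC A B) f hf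
    (pres.equivRing.symm : pres.P.Ring →ₐ[A] Localization.Away f) pres.equivRing.symm.surjective
  exact ⟨pres.P, 𝔮, h𝔮, h2 pres.equivRing.symm.injective⟩

end local_

end Groth.Agent.Lib.Helper61.EtLocalCore
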