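import Mathlib
import Groth.Agent.Lib.Helper61.GU4
import Groth.Agent.Lib.Helper61.EtLocalCore

/-!
# Unramified + injective over a geometrically unibranch local domain ⇒ étale (helper61)

Ring-level core of EGA IV 18.10.1 / Stacks 0GS9-type statement: let `A` be a geometrically unibranch
local domain, `A → B` a local homomorphism essentially of finite type, formally unramified and
injective. Then `B` is a localization of an étale `A`-algebra; in particular `B` is flat over `A`.
-/

set_option autoImplicit false
set_option linter.style.haveILetI false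
universe u

namespace Groth.Agent.Lib.Helper61.GU

open TensorProduct IsLocalRing

/-- Key step: a proper ideal `I` of a quasi-finite domain `D` over a domain `A` with
`A → D ⧸ I` injective is zero. -/
theorem eq_bot_of_quasiFinite_of_injective {A D : Type u} [CommRing A] [CommRing D] [Algebra A D]
    [IsDomain D] [Algebra.QuasiFinite A D] (I : Ideal D)
    (hinj : Function.Injective (algebraMap A (D ⧸ I))) : I = ⊥ := by
  classical
  have hA : IsDomain A := by
    have hinjD : Function.Injective (algebraMap A D) := by
      intro a b hab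
      apply hinj
      rw [IsScalarTower.algebraMap_apply A D (D ⧸ I), hab, ← IsScalarTower.algebraMap_apply]
    exact hinjD.isDomain _
  let M : Submonoid D := (nonZeroDivisors A).map (algebraMap A D : A →* D)
  have hdisj : Disjoint (I : Set D) (M : Set D) := by
    rw [Set.disjoint_left]
    rintro _ hx ⟨a, ha, rfl⟩
    have h0 : algebraMap A (D ⧸ I) a = 0 := by
      rw [IsScalarTower.algebraMap_apply A D (D ⧸ I)]
      exact Ideal.Quotient.eq_zero_iff_mem.mpr hx
    have : a = 0 := hinj (by rw [h0, map_zero])
    exact (nonZeroDivisors.ne_zero ha) this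
  obtain ⟨P, hP, hIP, hPM⟩ := Ideal.exists_le_prime_disjoint I M hdisj
  have hbot : (⊥ : Ideal D).IsPrime := Ideal.isPrime_bot
  have hunder : (⊥ : Ideal D).under A = P.under A := by
    apply le_antisymm
    · exact Ideal.comap_mono bot_le
    · intro a ha
      by_contra hne
      have ha0 : a ≠ 0 := by
        rintro rfl
        exact hne (by simp [Ideal.under])
      have : algebraMap A D a ∈ (M : Set D) :=
        ⟨a, mem_nonZeroDivisors_of_ne_zero ha0, rfl⟩
      exact (Set.disjoint_left.mp hPM) ha this
  have := Algebra.QuasiFinite.eq_of_le_of_under_eq (R := A) (⊥ : Ideal D) P bot_le hunder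
  exact le_bot_iff.mp (this ▸ hIP)

/-- **Unramified + injective over geometrically unibranch ⇒ flat.** -/
theorem flat_of_formallyUnramified_of_injective_of_isGeomUnibranch
    (A B : Type u) [CommRing A] [CommRing B] [Algebra A B] [IsLocalRing A] [IsLocalRing B]
    [IsLocalHom (algebraMap A B)] [Algebra.EssFiniteType A B] [Algebra.FormallyUnramified A B]
    [IsDomain A] (hgu : CAlg2.IsGeomUnibranch A) (hinj : Function.Injective (algebraMap A B)) :
    Module.Flat A B := by
  obtain ⟨P, 𝔮, h𝔮, I, ⟨e⟩⟩ := EtLocalCore.exists_standardEtale_quotient A B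
  have hItop : I ≠ ⊤ := by
    rintro rfl
    have : Subsingleton (Localization.AtPrime 𝔮 ⧸ (⊤ : Ideal (Localization.AtPrime 𝔮))) :=
      Ideal.Quotient.subsingleton_iff.mpr rfl
    exact not_subsingleton B e.toEquiv.subsingleton
  -- `𝔮` lies over the maximal ideal of `A`
  have hp : 𝔮.under A = maximalIdeal A := by
    ext a
    rw [Ideal.under_def, Ideal.mem_comap, mem_maximalIdeal, mem_nonunits_iff]
    constructor
    · intro ha hu
      have h1 : IsUnit (algebraMap A (Localization.AtPrime 𝔮) a) := hu.map _
      rw [IsScalarTower.algebraMap_apply A P.Ring (Localization.AtPrime 𝔮)] at h1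
      have := (IsLocalization.AtPrime.isUnit_to_map_iff (Localization.AtPrime 𝔮) 𝔮 _).mp h1
      exact this ha
    · intro ha
      by_contra hmem
      apply ha
      have h1 : IsUnit (algebraMap P.Ring (Localization.AtPrime 𝔮) (algebraMap A P.Ring a)) :=
        (IsLocalization.AtPrime.isUnit_to_map_iff (Localization.AtPrime 𝔮) 𝔮 _).mpr hmem
      rw [← IsScalarTower.algebraMap_apply A P.Ring (Localization.AtPrime 𝔮)] at h1
      have h2 : IsUnit (algebraMap A (Localization.AtPrime 𝔮 ⧸ I) a) := by
        rw [IsScalarTower.algebraMap_apply A (Localization.AtPrime 𝔮) (Localization.AtPrime 𝔮 ⧸ I)]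
        exact h1.map _
      have h3 : IsUnit (algebraMap A B a) := by
        have : algebraMap A B a = e.symm (algebraMap A _ a) := (e.symm.commutes a).symm
        rw [this]
        exact h2.map e.symm
      exact isUnit_of_map_unit (algebraMap A B) a h3
  haveI : 𝔮.LiesOver (maximalIdeal A) := ⟨hp.symm⟩
  -- transport the hypotheses to `A_{m_A}`
  let eA : A ≃+* Localization.AtPrime (maximalIdeal A) :=
    (IsLocalization.atUnits A (maximalIdeal A).primeCompl (fun x hx => by
      by_contra h
      exact hx ((mem_maximalIdeal _).mpr h))).toRingEquiv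
  have hdomA : IsDomain (Localization.AtPrime (maximalIdeal A)) :=
    eA.symm.injective.isDomain _
  have hguA : CAlg2.IsGeomUnibranch (Localization.AtPrime (maximalIdeal A)) :=
    isGeomUnibranch_of_ringEquiv eA hgu
  obtain ⟨hdom, -⟩ :=
    isGeomUnibranch_atPrime_of_etale A P.Ring (maximalIdeal A) 𝔮 hdomA hguA
  -- `I = ⊥`
  have hinj' : Function.Injective (algebraMap A (Localization.AtPrime 𝔮 ⧸ I)) := by
    intro a b hab
    apply hinj
    have h1 : ∀ c, algebraMap A B c = e.symm (algebraMap A _ c) := fun c => (e.symm.commutes c).symm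
    rw [h1, h1, hab]
  have hI : I = ⊥ := eq_bot_of_quasiFinite_of_injective I hinj'
  subst hI
  have hfl : Module.Flat A (Localization.AtPrime 𝔮) := Module.Flat.trans A P.Ring _
  let e' : B ≃ₐ[A] Localization.AtPrime 𝔮 :=
    e.trans (AlgEquiv.quotientBot A (Localization.AtPrime 𝔮))
  exact Module.Flat.of_linearEquiv e'.toLinearEquiv

end Groth.Agent.Lib.Helper61.GU
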