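import Groth.Agent.Lib.Helper42.ProjBaseChange
import Groth.Agent.Lib.Helper93.PnCover
import Mathlib.RingTheory.TensorProduct.MvPolynomial

/-!
# `P^n_{Spec A}` (base change of `P^n_ℤ`) is `Proj A[T₀..Tₙ]` (helper61)
-/

set_option autoImplicit false
universe u
open CategoryTheory CategoryTheory.Limits AlgebraicGeometry
open scoped HomogeneousIdeal

namespace Groth.Agent.Lib.Helper61.PnIso

variable (n : ℕ) (A : Type u) [CommRing A]

/-- The ring hom `ℤ → A` (from the universe lift of `ℤ`). -/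
noncomputable def zHom : ULift.{u} ℤ →+* A :=
  (Int.castRingHom A).comp (ULift.ringEquiv : ULift.{u} ℤ ≃+* ℤ).toRingHom

/-- The graded ring hom `ℤ[T] → A[T]`. -/
noncomputable def phi : CohB1.polyGrading n (ULift.{u} ℤ) →+*ᵍ CohB1.polyGrading n A where
  toRingHom := MvPolynomial.map (zHom A)
  map_mem := fun hx => MvPolynomial.IsHomogeneous.map hx _

theorem irrelevant_le_map :
    (CohB1.polyGrading n A)₊ ≤ (CohB1.polyGrading n (ULift.{u} ℤ))₊.map (phi n A) := by
  change ((CohB1.polyGrading n A)₊).toIdeal ≤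
    ((CohB1.polyGrading n (ULift.{u} ℤ))₊.map (phi n A)).toIdeal
  refine (Groth.Agent.Lib.Helper93.PnCover.irrelevant_le_span n A).trans ?_
  rw [Ideal.span_le]
  rintro _ ⟨i, rfl⟩
  have h1 : (MvPolynomial.X i : MvPolynomial (Fin (n + 1)) (ULift.{u} ℤ)) ∈
      ((CohB1.polyGrading n (ULift.{u} ℤ))₊).toIdeal :=
    HomogeneousIdeal.mem_irrelevant_of_mem _ one_pos
      (Groth.Agent.Lib.Helper93.PnCover.X_mem n (ULift.{u} ℤ) i)
  have h2 := Ideal.mem_map_of_mem (phi n A : MvPolynomial (Fin (n + 1)) (ULift.{u} ℤ) →+*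
    MvPolynomial (Fin (n + 1)) A) h1
  have h3 : (phi n A : MvPolynomial (Fin (n + 1)) (ULift.{u} ℤ) →+*
    MvPolynomial (Fin (n + 1)) A) (MvPolynomial.X i) = MvPolynomial.X i :=
    MvPolynomial.map_X _ i
  rw [h3] at h2
  exact h2

attribute [local instance] MvPolynomial.algebraMvPolynomial in
theorem isPullback :
    IsPullback (Proj.map (phi n A) (irrelevant_le_map n A))
      (CohB1.ProjSpace.toSpec n A) (CohB1.ProjSpace.toSpec n (ULift.{u} ℤ))
      (Spec.map (CommRingCat.ofHom (zHom A))) := by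
  let _ : Algebra (ULift.{u} ℤ) A := (zHom A).toAlgebra
  have := Groth.Agent.Lib.Helper42.AwayBaseChange.isPullback_projMap
    (R' := ULift.{u} ℤ) (R := A) (B := MvPolynomial (Fin (n + 1)) (ULift.{u} ℤ))
    (A := MvPolynomial (Fin (n + 1)) A) (phi n A) (fun b => rfl)
    (fun r => (MvPolynomial.isHomogeneous_C _ r)) (fun r => (MvPolynomial.isHomogeneous_C _ r))
    (irrelevant_le_map n A)
  exact this

end Groth.Agent.Lib.Helper61.PnIso

namespace Groth.Agent.Lib.Helper61.PnIso

variable (n : ℕ) (A : Type u) [CommRing A]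

theorem isPullback' :
    IsPullback (Proj.map (phi n A) (irrelevant_le_map n A))
      (CohB1.ProjSpace.toSpec n A) (CohB1.ProjSpace.toSpec n (ULift.{u} ℤ))
      (specULiftZIsTerminal.from (Spec (CommRingCat.of A))) := by
  have h : Spec.map (CommRingCat.ofHom (zHom A)) =
      specULiftZIsTerminal.from (Spec (CommRingCat.of A)) := specULiftZIsTerminal.hom_ext _ _
  rw [← h]
  exact isPullback n A

/-- `Proj A[T₀..Tₙ] ≅ P^n_{Spec A}`. -/
noncomputable def iso : CohB1.ProjSpace n A ≅ CohB1.ProjSpaceOver n (Spec (CommRingCat.of A)) :=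
  (isPullback' n A).isoPullback

theorem iso_hom_toBase :
    (iso n A).hom ≫ CohB1.ProjSpaceOver.toBase n (Spec (CommRingCat.of A)) =
      CohB1.ProjSpace.toSpec n A :=
  (isPullback' n A).isoPullback_hom_snd

end Groth.Agent.Lib.Helper61.PnIso
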