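import Mathlib
import Groth.Agent.Lib.Helper61.GU11
import Groth.Agent.Lib.Helper3.HenselFinite

/-!
# Strictly henselian local domains are geometrically unibranch (helper61)
-/

set_option autoImplicit false
set_option linter.style.haveILetI false
universe u

namespace Groth.Agent.Lib.Helper61.GU

open IsLocalRing Groth.Agent.Lib.Helper38

/-- A domain isomorphic to a finite product of local rings is local. -/
theorem isLocalRing_of_ringEquiv_pi {S : Type u} [CommRing S] [IsDomain S] {ι : Type u}
    [Fintype ι] (A : ι → Type u) [∀ i, CommRing (A i)] [∀ i, IsLocalRing (A i)]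
    (e : S ≃+* (∀ i, A i)) : IsLocalRing S := by
  classical
  have hne : Nonempty ι := by
    by_contra h
    rw [not_nonempty_iff] at h
    have : Subsingleton S := e.injective.subsingleton
    exact not_subsingleton S this
  obtain ⟨i₀⟩ := hne
  let π : S →+* A i₀ := (Pi.evalRingHom A i₀).comp (e : S →+* (∀ i, A i))
  have hπs : Function.Surjective π := by
    intro a
    refine ⟨e.symm (Pi.single i₀ a), ?_⟩
    simp [π]
  have hπi : Function.Injective π := by
    rw [injective_iff_map_eq_zero]
    intro x hx
    have h1 : e x * Pi.single i₀ 1 = 0 := by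
      ext j
      by_cases hj : j = i₀
      · subst hj
        simpa [π] using hx
      · simp [Pi.single_eq_of_ne hj]
    have h2 : x * e.symm (Pi.single i₀ 1) = 0 := by
      apply e.injective
      rw [map_mul, e.apply_symm_apply, h1, map_zero]
    rcases mul_eq_zero.mp h2 with h3 | h3
    · exact h3
    · exfalso
      have h4 : (Pi.single i₀ (1 : A i₀) : ∀ i, A i) = 0 := by
        have := congrArg e h3
        simp at this
      have h5 := congrFun h4 i₀
      simp at h5
  exact (RingEquiv.ofBijective π ⟨hπi, hπs⟩).symm.isLocalRing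

/-- A domain integral over a Henselian local ring is local. -/
theorem isLocalRing_of_isIntegral_of_henselian (R D : Type u) [CommRing R] [HenselianLocalRing R]
    [CommRing D] [IsDomain D] [Algebra R D] [Algebra.IsIntegral R D] : IsLocalRing D := by
  apply IsLocalRing.of_unique_max_ideal
  obtain ⟨M, hM⟩ := Ideal.exists_maximal D
  refine ⟨M, hM, fun M₂ hM₂ => ?_⟩
  by_contra hne
  have hnle : ¬ M₂ ≤ M := fun hle => hne (hM₂.eq_of_le hM.ne_top hle)
  obtain ⟨t, htM₂, htM⟩ := SetLike.not_le_iff_exists.mp hnle
  haveI : Module.Finite R (Algebra.adjoin R {t}) :=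
    Algebra.finite_adjoin_simple_of_isIntegral (Algebra.IsIntegral.isIntegral t)
  obtain ⟨ι, _, A, _, hA, ⟨e⟩⟩ :=
    Groth.Agent.Lib.Helper3.exists_ringEquiv_pi_isLocalRing_of_finite R (Algebra.adjoin R {t})
  haveI : IsLocalRing (Algebra.adjoin R {t}) := isLocalRing_of_ringEquiv_pi A e
  haveI : Algebra.IsIntegral (Algebra.adjoin R {t}) D := Algebra.IsIntegral.tower_top R
  have h1 : (M.comap (algebraMap (Algebra.adjoin R {t}) D)).IsMaximal :=
    Ideal.isMaximal_comap_of_isIntegral_of_isMaximal M
  have h2 : (M₂.comap (algebraMap (Algebra.adjoin R {t}) D)).IsMaximal :=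
    Ideal.isMaximal_comap_of_isIntegral_of_isMaximal M₂
  have h3 : M.comap (algebraMap (Algebra.adjoin R {t}) D) =
      M₂.comap (algebraMap (Algebra.adjoin R {t}) D) :=
    (eq_maximalIdeal h1).trans (eq_maximalIdeal h2).symm
  have h4 : (⟨t, Algebra.subset_adjoin rfl⟩ : Algebra.adjoin R {t}) ∈
      M₂.comap (algebraMap (Algebra.adjoin R {t}) D) := htM₂
  rw [← h3] at h4
  exact htM h4

/-- **A Henselian local domain with separably closed residue field is geometrically
unibranch.** -/
theorem isGeomUnibranch_of_henselian_of_isSepClosed (R : Type u) [CommRing R] [IsDomain R]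
    [HenselianLocalRing R] [IsSepClosed (ResidueField R)] : CAlg2.IsGeomUnibranch R := by
  letI : Algebra R (CAlg2.normRed R) := (NormRedDom.iota R).toAlgebra
  have hι := NormRedDom.iota_isFracExt R
  haveI : Algebra.IsIntegral R (CAlg2.normRed R) := ⟨NormRedDom.iota_isIntegral R⟩
  haveI : FaithfulSMul R (CAlg2.normRed R) :=
    (faithfulSMul_iff_algebraMap_injective R (CAlg2.normRed R)).mpr hι.inj
  haveI hloc : IsLocalRing (CAlg2.normRed R) := isLocalRing_of_isIntegral_of_henselian R _
  haveI : IsLocalHom (algebraMap R (CAlg2.normRed R)) :=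
    (NormRedDom.iota_isIntegral R).isLocalHom hι.inj
  refine isGeomUnibranch_of_normalization (NormRedDom.iota R) hι (NormRedDom.iota_isIntegral R) ?_
  -- residue fields
  haveI : Algebra.IsIntegral (CAlg2.normRed R) (ResidueField (CAlg2.normRed R)) :=
    Algebra.isIntegral_of_surjective residue_surjective
  haveI : Algebra.IsIntegral R (ResidueField (CAlg2.normRed R)) :=
    Algebra.IsIntegral.trans (CAlg2.normRed R)
  haveI : Algebra.IsIntegral (ResidueField R) (ResidueField (CAlg2.normRed R)) :=
    Algebra.IsIntegral.tower_top R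
  haveI : IsPurelyInseparable (ResidueField R) (ResidueField (CAlg2.normRed R)) := inferInstance
  haveI hE : ExpChar (ResidueField R) (ringExpChar (ResidueField R)) := ringExpChar.expChar _
  haveI hE2 : ExpChar (ResidueField (CAlg2.normRed R)) (ringExpChar (ResidueField R)) :=
    expChar_of_injective_ringHom
      (algebraMap (ResidueField R) (ResidueField (CAlg2.normRed R))).injective _
  have hpp : ringExpChar (CAlg2.normRed R ⧸ maximalIdeal (CAlg2.normRed R)) =
      ringExpChar (ResidueField R) :=
    ringExpChar.eq (ResidueField (CAlg2.normRed R)) (ringExpChar (ResidueField R))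
  intro x
  obtain ⟨n, y, hy⟩ := IsPurelyInseparable.pow_mem (F := ResidueField R)
    (E := ResidueField (CAlg2.normRed R)) (ringExpChar (ResidueField R)) x
  obtain ⟨r, rfl⟩ := residue_surjective y
  refine ⟨n, r, ?_⟩
  rw [hpp]
  exact hy

end Groth.Agent.Lib.Helper61.GU
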