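/-
Helper library (helper61): fibre squares of commutative rings `C = B ×_A A'` with `A' → A`
surjective (Milnor squares), in ring-hom form; lifting property; localization at an element
of `C`.
-/
import Mathlib

set_option autoImplicit false
universe u

namespace Groth.Agent.Lib.Helper61

/-- `C = B ×_A A'` with `p : A' → A` surjective, in ring hom form. -/
structure FibSq {C B A' A : Type*} [CommRing C] [CommRing B] [CommRing A'] [CommRing A]
    (f : C →+* B) (s : C →+* A') (q : B →+* A) (p : A' →+* A) : Prop where
  comm : ∀ c, q (f c) = p (s c)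
  surj : Function.Surjective p
  lift : ∀ b a', q b = p a' → ∃ c, f c = b ∧ s c = a'
  inj : ∀ c c', f c = f c' → s c = s c' → c = c'

namespace FibSq

variable {C B A' A : Type*} [CommRing C] [CommRing B] [CommRing A'] [CommRing A]
  {f : C →+* B} {s : C →+* A'} {q : B →+* A} {p : A' →+* A}

theorem f_surjective (h : FibSq f s q p) : Function.Surjective f := fun b => by
  obtain ⟨a', ha'⟩ := h.surj (q b)
  obtain ⟨c, hc, -⟩ := h.lift b a' ha'.symm
  exact ⟨c, hc⟩

/-- The element of `C` lifting a compatible pair. -/
noncomputable def liftElem (h : FibSq f s q p) (b : B) (a' : A') (hba : q b = p a') : C :=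
  (h.lift b a' hba).choose

theorem f_liftElem (h : FibSq f s q p) (b : B) (a' : A') (hba : q b = p a') :
    f (h.liftElem b a' hba) = b := (h.lift b a' hba).choose_spec.1

theorem s_liftElem (h : FibSq f s q p) (b : B) (a' : A') (hba : q b = p a') :
    s (h.liftElem b a' hba) = a' := (h.lift b a' hba).choose_spec.2

theorem liftElem_eq (h : FibSq f s q p) {b : B} {a' : A'} (hba : q b = p a') {c : C}
    (h1 : f c = b) (h2 : s c = a') : h.liftElem b a' hba = c :=
  h.inj _ _ ((h.f_liftElem b a' hba).trans h1.symm) ((h.s_liftElem b a' hba).trans h2.symm)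

/-- The universal property of the fibre square. -/
noncomputable def liftHom (h : FibSq f s q p) {R : Type*} [CommRing R] (β : R →+* B)
    (α : R →+* A') (hc : q.comp β = p.comp α) : R →+* C where
  toFun r := h.liftElem (β r) (α r) (by simpa using congr($hc r))
  map_one' := h.liftElem_eq (by simp) (by rw [map_one, map_one])
    (by rw [map_one, map_one])
  map_mul' x y := h.liftElem_eq (by simpa using congr($hc (x * y)))
    (by rw [map_mul, h.f_liftElem, h.f_liftElem, map_mul])
    (by rw [map_mul, h.s_liftElem, h.s_liftElem, map_mul])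
  map_zero' := h.liftElem_eq (by simp) (by rw [map_zero, map_zero])
    (by rw [map_zero, map_zero])
  map_add' x y := h.liftElem_eq (by simpa using congr($hc (x + y)))
    (by rw [map_add, h.f_liftElem, h.f_liftElem, map_add])
    (by rw [map_add, h.s_liftElem, h.s_liftElem, map_add])

theorem f_comp_liftHom (h : FibSq f s q p) {R : Type*} [CommRing R] (β : R →+* B)
    (α : R →+* A') (hc : q.comp β = p.comp α) : f.comp (h.liftHom β α hc) = β :=
  RingHom.ext fun r => h.f_liftElem (β r) (α r) (by simpa using congr($hc r))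

theorem s_comp_liftHom (h : FibSq f s q p) {R : Type*} [CommRing R] (β : R →+* B)
    (α : R →+* A') (hc : q.comp β = p.comp α) : s.comp (h.liftHom β α hc) = α :=
  RingHom.ext fun r => h.s_liftElem (β r) (α r) (by simpa using congr($hc r))

/-- The localization of a fibre square at an element of `C` is a fibre square. -/
theorem localization (h : FibSq f s q p) (c : C) {Cc Bc A'c Ac : Type*} [CommRing Cc]
    [CommRing Bc] [CommRing A'c] [CommRing Ac]
    [Algebra C Cc] [Algebra B Bc] [Algebra A' A'c] [Algebra A Ac]
    [IsLocalization.Away c Cc] [IsLocalization.Away (f c) Bc] [IsLocalization.Away (s c) A'c]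
    [IsLocalization.Away (q (f c)) Ac]
    {f' : Cc →+* Bc} {s' : Cc →+* A'c} {q' : Bc →+* Ac} {p' : A'c →+* Ac}
    (hf : f'.comp (algebraMap C Cc) = (algebraMap B Bc).comp f)
    (hs : s'.comp (algebraMap C Cc) = (algebraMap A' A'c).comp s)
    (hq : q'.comp (algebraMap B Bc) = (algebraMap A Ac).comp q)
    (hp : p'.comp (algebraMap A' A'c) = (algebraMap A Ac).comp p) :
    FibSq f' s' q' p' := by
  have hf' : ∀ x, f' (algebraMap C Cc x) = algebraMap B Bc (f x) := fun x => congr($hf x)
  have hs' : ∀ x, s' (algebraMap C Cc x) = algebraMap A' A'c (s x) := fun x => congr($hs x)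
  have hq' : ∀ x, q' (algebraMap B Bc x) = algebraMap A Ac (q x) := fun x => congr($hq x)
  have hp' : ∀ x, p' (algebraMap A' A'c x) = algebraMap A Ac (p x) := fun x => congr($hp x)
  have uC : IsUnit (algebraMap C Cc c) := IsLocalization.Away.algebraMap_isUnit c
  have uB : IsUnit (algebraMap B Bc (f c)) := IsLocalization.Away.algebraMap_isUnit (f c)
  have uA' : IsUnit (algebraMap A' A'c (s c)) := IsLocalization.Away.algebraMap_isUnit (s c)
  have uA : IsUnit (algebraMap A Ac (q (f c))) := IsLocalization.Away.algebraMap_isUnit (q (f c))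
  have hqp : q (f c) = p (s c) := h.comm c
  refine ⟨?_, ?_, ?_, ?_⟩
  · -- comm
    have : q'.comp f' = p'.comp s' := by
      apply IsLocalization.ringHom_ext (Submonoid.powers c)
      ext x
      simp only [RingHom.comp_apply, hf', hs', hq', hp', h.comm]
    exact fun z => congr($this z)
  · -- surj
    intro z
    obtain ⟨n, a, hz⟩ := IsLocalization.Away.surj (q (f c)) z
    obtain ⟨a', rfl⟩ := h.surj a
    refine ⟨IsLocalization.mk' A'c a' (⟨s c ^ n, n, rfl⟩ : Submonoid.powers (s c)), ?_⟩
    have h1 := IsLocalization.mk'_spec A'c a' (⟨s c ^ n, n, rfl⟩ : Submonoid.powers (s c))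
    have h2 := congr(p' $h1)
    simp only [map_mul, map_pow, hp', ← hqp] at h2
    exact (uA.pow n).mul_right_cancel (h2.trans hz.symm)
  · -- lift
    intro β α hβα
    obtain ⟨n, b, hb⟩ := IsLocalization.Away.surj (f c) β
    obtain ⟨m, a', ha'⟩ := IsLocalization.Away.surj (s c) α
    have e1 : algebraMap A Ac (q (b * f c ^ m)) = algebraMap A Ac (p (a' * s c ^ n)) := by
      have hb2 := congr(q' $hb)
      have ha2 := congr(p' $ha')
      simp only [map_mul, map_pow, hq', hp', ← hqp] at hb2 ha2
      simp only [map_mul, map_pow, ← hqp]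
      rw [← hb2, ← ha2, hβα]
      ring
    obtain ⟨k, hk⟩ := IsLocalization.Away.exists_of_eq (q (f c)) e1
    have e2 : q (f c ^ k * (b * f c ^ m)) = p (s c ^ k * (a' * s c ^ n)) := by
      simp only [map_mul, map_pow, ← hqp] at hk ⊢
      exact hk
    obtain ⟨x, hx1, hx2⟩ := h.lift _ _ e2
    have spec := IsLocalization.mk'_spec Cc x
      (⟨c ^ (k + (n + m)), _, rfl⟩ : Submonoid.powers c)
    refine ⟨IsLocalization.mk' Cc x (⟨c ^ (k + (n + m)), _, rfl⟩ : Submonoid.powers c), ?_, ?_⟩
    · have h3 := congr(f' $spec)
      simp only [map_mul, map_pow, hf', hx1] at h3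
      rw [← hb] at h3
      apply (uB.pow (k + (n + m))).mul_right_cancel
      rw [h3]
      ring
    · have h3 := congr(s' $spec)
      simp only [map_mul, map_pow, hs', hx2] at h3
      rw [← ha'] at h3
      apply (uA'.pow (k + (n + m))).mul_right_cancel
      rw [h3]
      ring
  · -- inj
    intro γ γ' h1 h2
    obtain ⟨n, x, hx⟩ := IsLocalization.Away.surj c γ
    obtain ⟨m, x', hx'⟩ := IsLocalization.Away.surj c γ'
    have e1 : algebraMap B Bc (f (x * c ^ m)) = algebraMap B Bc (f (x' * c ^ n)) := by
      have hx2 := congr(f' $hx)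
      have hx2' := congr(f' $hx')
      simp only [map_mul, map_pow, hf'] at hx2 hx2'
      simp only [map_mul, map_pow]
      rw [← hx2, ← hx2', h1]
      ring
    have e2 : algebraMap A' A'c (s (x * c ^ m)) = algebraMap A' A'c (s (x' * c ^ n)) := by
      have hx2 := congr(s' $hx)
      have hx2' := congr(s' $hx')
      simp only [map_mul, map_pow, hs'] at hx2 hx2'
      simp only [map_mul, map_pow]
      rw [← hx2, ← hx2', h2]
      ring
    obtain ⟨k, hk⟩ := IsLocalization.Away.exists_of_eq (f c) e1
    obtain ⟨k', hk'⟩ := IsLocalization.Away.exists_of_eq (s c) e2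
    have e3 : c ^ (k + k') * (x * c ^ m) = c ^ (k + k') * (x' * c ^ n) := by
      apply h.inj
      · rw [map_mul, map_mul f (c ^ (k + k')), map_pow, pow_add, mul_right_comm, hk,
          mul_right_comm]
      · rw [map_mul, map_mul s (c ^ (k + k')), map_pow, pow_add, mul_assoc, hk', mul_assoc]
    have e4 := congr(algebraMap C Cc $e3)
    simp only [map_mul, map_pow] at e4
    have e5 := (uC.pow (k + k')).mul_left_cancel e4
    rw [← hx, ← hx'] at e5
    apply (uC.pow (n + m)).mul_right_cancel
    rw [pow_add]
    calc γ * (algebraMap C Cc c ^ n * algebraMap C Cc c ^ m)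
        = γ * algebraMap C Cc c ^ n * algebraMap C Cc c ^ m := by ring
      _ = γ' * algebraMap C Cc c ^ m * algebraMap C Cc c ^ n := e5
      _ = γ' * (algebraMap C Cc c ^ n * algebraMap C Cc c ^ m) := by ring

end FibSq

end Groth.Agent.Lib.Helper61
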