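/-
Helper library (helper61): fibre squares of rings and their spectra: primes of `C`, covering
lemma for a compatible pair of morphisms `Spec A' ⟶ T`, `Spec B ⟶ T`, uniqueness and existence of
the induced morphism `Spec C ⟶ T` for affine targets.
-/
import Mathlib
import Groth.Agent.Lib.Helper61.FibSq1
import Groth.Agent.H76.MilnorSpec

set_option autoImplicit false
universe u
open CategoryTheory AlgebraicGeometry

namespace Groth.Agent.Lib.Helper61

namespace FibSq

variable {C B A' A : Type u} [CommRing C] [CommRing B] [CommRing A'] [CommRing A]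
  {f : C →+* B} {s : C →+* A'} {q : B →+* A} {p : A' →+* A}

/-- Every prime of `C` comes from `B`, or from `A'` and avoids some element of `ker f`. -/
theorem exists_prime (h : FibSq f s q p) (x : PrimeSpectrum C) :
    (∃ y : PrimeSpectrum B, PrimeSpectrum.comap f y = x) ∨
    ∃ (y' : PrimeSpectrum A') (c₀ : C), f c₀ = 0 ∧ c₀ ∉ x.asIdeal ∧
      PrimeSpectrum.comap s y' = x := by
  let _ : Algebra C B := f.toAlgebra
  let _ : Algebra C A' := s.toAlgebra
  let _ : Algebra B A := q.toAlgebra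
  let _ : Algebra A' A := p.toAlgebra
  let _ : Algebra C A := (q.comp f).toAlgebra
  have : IsScalarTower C B A := IsScalarTower.of_algebraMap_eq (fun _ => rfl)
  have : IsScalarTower C A' A := IsScalarTower.of_algebraMap_eq (fun c => h.comm c)
  have hsq : EtMil.IsFibreSquare C B A' A := by
    refine ⟨h.surj, fun b a' hba => ?_⟩
    obtain ⟨c, hc1, hc2⟩ := h.lift b a' hba
    exact ⟨c, ⟨hc1, hc2⟩, fun c' hc' => h.inj _ _ (hc'.1.trans hc1.symm) (hc'.2.trans hc2.symm)⟩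
  exact Groth.Agent.H76.MilnorSpec.exists_preimage hsq x

/-- Ring-level core of the covering lemma. -/
theorem exists_pow_eq (h : FibSq f s q p) (β : B) (𝔞' : Ideal A')
    (H : ∀ 𝔯 : Ideal A, 𝔯.IsPrime → q β ∉ 𝔯 → ¬ 𝔞' ≤ 𝔯.comap p) :
    ∃ (n : ℕ) (α' : A'), α' ∈ 𝔞' ∧ q (β ^ (n + 1)) = p α' := by
  have hrad : q β ∈ (𝔞'.map p).radical := by
    rw [Ideal.radical_eq_sInf, Ideal.mem_sInf]
    rintro 𝔯 ⟨h𝔯, h𝔯p⟩
    by_contra hβ
    exact H 𝔯 h𝔯p hβ (Ideal.map_le_iff_le_comap.mp h𝔯)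
  obtain ⟨n, hn⟩ := hrad
  obtain ⟨α₀, hα₀, hα₀'⟩ := (Ideal.mem_map_iff_of_surjective p h.surj).mp hn
  obtain ⟨a₀, ha₀⟩ := h.surj (q β)
  refine ⟨n, a₀ * α₀, 𝔞'.mul_mem_left _ hα₀, ?_⟩
  rw [map_mul, ha₀, hα₀', map_pow, pow_succ, mul_comm]

/-- The covering lemma: around every point of `Spec C` there is a basic open `D(c)` such that
`a` maps `D(s c)` and `b` maps `D(f c)` into a common affine open of `T`. -/
theorem exists_cover (h : FibSq f s q p) {T : Scheme.{u}} (a : Spec (CommRingCat.of A') ⟶ T)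
    (b : Spec (CommRingCat.of B) ⟶ T)
    (hab : Spec.map (CommRingCat.ofHom p) ≫ a = Spec.map (CommRingCat.ofHom q) ≫ b)
    (x : PrimeSpectrum C) :
    ∃ c : C, c ∉ x.asIdeal ∧ ∃ W : T.Opens, IsAffineOpen W ∧
      (∀ y' : Spec (CommRingCat.of A'), s c ∉ y'.asIdeal → a y' ∈ W) ∧
      (∀ y : Spec (CommRingCat.of B), f c ∉ y.asIdeal → b y ∈ W) := by
  rcases h.exists_prime x with ⟨y, rfl⟩ | ⟨y', c₀, hc₀, hc₀x, rfl⟩
  · -- the point comes from `Spec B`
    let yB : Spec (CommRingCat.of B) := y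
    obtain ⟨_, ⟨W, hW : IsAffineOpen W, rfl⟩, hyW, -⟩ :=
      T.isBasis_affineOpens.exists_subset_of_mem_open (Set.mem_univ (b yB)) isOpen_univ
    obtain ⟨_, ⟨_, ⟨β, rfl⟩, rfl⟩, hyβ, hβW⟩ := PrimeSpectrum.isBasis_basic_opens.exists_subset_of_mem_open
      (show yB ∈ (b ⁻¹ᵁ W : Set _) from hyW) (b ⁻¹ᵁ W).isOpen
    obtain ⟨𝔞', h𝔞'⟩ := (PrimeSpectrum.isClosed_iff_zeroLocus_ideal _).mp
      (a ⁻¹ᵁ W).isOpen.isClosed_compl
    have H : ∀ 𝔯 : Ideal A, 𝔯.IsPrime → q β ∉ 𝔯 → ¬ 𝔞' ≤ 𝔯.comap p := by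
      intro 𝔯 h𝔯 hβ𝔯 hle
      let r : Spec (CommRingCat.of A) := ⟨𝔯, h𝔯⟩
      have h1 : b (Spec.map (CommRingCat.ofHom q) r) ∈ W := hβW (show β ∉ 𝔯.comap q from hβ𝔯)
      have h2 : a (Spec.map (CommRingCat.ofHom p) r) ∈ W := by
        rw [← Scheme.Hom.comp_apply, hab, Scheme.Hom.comp_apply]; exact h1
      have h3 : Spec.map (CommRingCat.ofHom p) r ∈ ((a ⁻¹ᵁ W : Set _))ᶜ := by
        rw [h𝔞']
        exact (PrimeSpectrum.mem_zeroLocus (PrimeSpectrum.comap p (r : PrimeSpectrum A)) _).mpr hle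
      exact h3 h2
    obtain ⟨n, α', hα', hnα⟩ := h.exists_pow_eq β 𝔞' H
    refine ⟨h.liftElem _ _ hnα, ?_, W, hW, ?_, ?_⟩
    · change f (h.liftElem _ _ hnα) ∉ y.asIdeal
      rw [h.f_liftElem]
      exact fun hmem => hyβ (y.isPrime.mem_of_pow_mem _ hmem)
    · intro y'' hy''
      rw [h.s_liftElem] at hy''
      by_contra hnot
      have h4 : y'' ∈ ((a ⁻¹ᵁ W : Set _))ᶜ := hnot
      rw [h𝔞'] at h4
      have h5 : (𝔞' : Set A') ⊆ y''.asIdeal :=
        (PrimeSpectrum.mem_zeroLocus (y'' : PrimeSpectrum A') _).mp h4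
      exact hy'' (h5 hα')
    · intro y₂ hy₂
      rw [h.f_liftElem] at hy₂
      exact hβW (show β ∉ y₂.asIdeal from fun hmem => hy₂ (Ideal.pow_mem_of_mem _ hmem _ (by omega)))
  · -- the point comes from `Spec A'` away from `Spec A`
    let yA : Spec (CommRingCat.of A') := y'
    obtain ⟨_, ⟨W, hW : IsAffineOpen W, rfl⟩, hyW, -⟩ :=
      T.isBasis_affineOpens.exists_subset_of_mem_open (Set.mem_univ (a yA)) isOpen_univ
    obtain ⟨_, ⟨_, ⟨α', rfl⟩, rfl⟩, hyα, hαW⟩ := PrimeSpectrum.isBasis_basic_opens.exists_subset_of_mem_open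
      (show yA ∈ (a ⁻¹ᵁ W : Set _) from hyW) (a ⁻¹ᵁ W).isOpen
    have hc : q 0 = p (s c₀ * α') := by
      rw [map_zero, map_mul, ← h.comm, hc₀, map_zero, zero_mul]
    refine ⟨h.liftElem _ _ hc, ?_, W, hW, ?_, ?_⟩
    · change s (h.liftElem _ _ hc) ∉ y'.asIdeal
      rw [h.s_liftElem]
      exact fun hmem => (y'.isPrime.mem_or_mem hmem).elim hc₀x hyα
    · intro y'' hy''
      rw [h.s_liftElem] at hy''
      exact hαW (show α' ∉ y''.asIdeal from fun hmem => hy'' (Ideal.mul_mem_left _ _ hmem))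
    · intro y₂ hy₂
      rw [h.f_liftElem] at hy₂
      exact absurd (Ideal.zero_mem _) hy₂

/-- Uniqueness for affine targets. -/
theorem hom_ext_affine (h : FibSq f s q p) {W : Scheme.{u}} [IsAffine W]
    (u u' : Spec (CommRingCat.of C) ⟶ W)
    (h1 : Spec.map (CommRingCat.ofHom f) ≫ u = Spec.map (CommRingCat.ofHom f) ≫ u')
    (h2 : Spec.map (CommRingCat.ofHom s) ≫ u = Spec.map (CommRingCat.ofHom s) ≫ u') :
    u = u' := by
  apply ext_of_isAffine
  ext t
  apply (ConcreteCategory.bijective_of_isIso (Scheme.ΓSpecIso (CommRingCat.of C)).hom).1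
  apply h.inj
  · have e := Scheme.ΓSpecIso_naturality (CommRingCat.ofHom f)
    have e1 := congr($(e).hom (u.appTop t))
    have e2 := congr($(e).hom (u'.appTop t))
    have e3 := congr($(h1).appTop t)
    simp only [Scheme.Hom.comp_appTop, CommRingCat.comp_apply] at e1 e2 e3
    exact e1.symm.trans ((congrArg _ e3).trans e2)
  · have e := Scheme.ΓSpecIso_naturality (CommRingCat.ofHom s)
    have e1 := congr($(e).hom (u.appTop t))
    have e2 := congr($(e).hom (u'.appTop t))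
    have e3 := congr($(h2).appTop t)
    simp only [Scheme.Hom.comp_appTop, CommRingCat.comp_apply] at e1 e2 e3
    exact e1.symm.trans ((congrArg _ e3).trans e2)

/-- Existence for affine targets. -/
theorem exists_desc_affine (h : FibSq f s q p) {W : Scheme.{u}} [IsAffine W]
    (a : Spec (CommRingCat.of A') ⟶ W) (b : Spec (CommRingCat.of B) ⟶ W)
    (hab : Spec.map (CommRingCat.ofHom p) ≫ a = Spec.map (CommRingCat.ofHom q) ≫ b) :
    ∃ γ : Spec (CommRingCat.of C) ⟶ W, Spec.map (CommRingCat.ofHom s) ≫ γ = a ∧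
      Spec.map (CommRingCat.ofHom f) ≫ γ = b := by
  let α := Spec.preimage (a ≫ W.isoSpec.hom)
  let β := Spec.preimage (b ≫ W.isoSpec.hom)
  have hα : Spec.map α = a ≫ W.isoSpec.hom := Spec.map_preimage _
  have hβ : Spec.map β = b ≫ W.isoSpec.hom := Spec.map_preimage _
  have hc' : β ≫ CommRingCat.ofHom q = α ≫ CommRingCat.ofHom p := by
    apply Spec.map_injective
    rw [Spec.map_comp, Spec.map_comp, hα, hβ, reassoc_of% hab]
  have hc : q.comp β.hom = p.comp α.hom := congr($(hc').hom)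
  let φ := h.liftHom β.hom α.hom hc
  have hφs : CommRingCat.ofHom φ ≫ CommRingCat.ofHom s = α :=
    CommRingCat.hom_ext (h.s_comp_liftHom β.hom α.hom hc)
  have hφf : CommRingCat.ofHom φ ≫ CommRingCat.ofHom f = β :=
    CommRingCat.hom_ext (h.f_comp_liftHom β.hom α.hom hc)
  refine ⟨Spec.map (CommRingCat.ofHom φ) ≫ W.isoSpec.inv, ?_, ?_⟩
  · rw [← Category.assoc, ← Spec.map_comp, hφs, hα, Category.assoc, Iso.hom_inv_id,
      Category.comp_id]
  · rw [← Category.assoc, ← Spec.map_comp, hφf, hβ, Category.assoc, Iso.hom_inv_id,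
      Category.comp_id]

end FibSq

end Groth.Agent.Lib.Helper61
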