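/-
Helper library (helper61): `Spec` of a fibre square of rings is a pushout of schemes:
uniqueness (`FibSq.hom_ext`) and existence (`FibSq.exists_desc`) of the induced morphism.
-/
import Mathlib
import Groth.Agent.Lib.Helper61.FibSq2

set_option autoImplicit false
universe u
open CategoryTheory CategoryTheory.Limits AlgebraicGeometry TensorProduct

namespace Groth.Agent.Lib.Helper61

/-- The canonical map from a localization of `R` away from `r` to `P[1/t]`, where `t = g r`. -/
noncomputable def locMap {R P : Type*} [CommRing R] [CommRing P] (g : R →+* P) (r : R) (t : P)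
    (ht : g r = t) (D : Type*) [CommRing D] [Algebra R D] [IsLocalization.Away r D] :
    D →+* Localization.Away t :=
  IsLocalization.Away.lift r (g := (algebraMap P (Localization.Away t)).comp g)
    (by rw [RingHom.comp_apply, ht]; exact IsLocalization.Away.algebraMap_isUnit t)

theorem locMap_comp {R P : Type*} [CommRing R] [CommRing P] (g : R →+* P) (r : R) (t : P)
    (ht : g r = t) (D : Type*) [CommRing D] [Algebra R D] [IsLocalization.Away r D] :
    (locMap g r t ht D).comp (algebraMap R D) = (algebraMap P (Localization.Away t)).comp g :=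
  IsLocalization.Away.lift_comp _ _

theorem spec_locMap_comp {R P : Type u} [CommRing R] [CommRing P] (g : R →+* P) (r : R) (t : P)
    (ht : g r = t) (D : Type u) [CommRing D] [Algebra R D] [IsLocalization.Away r D] :
    Spec.map (CommRingCat.ofHom (locMap g r t ht D)) ≫
        Spec.map (CommRingCat.ofHom (algebraMap R D)) =
      Spec.map (CommRingCat.ofHom (algebraMap P (Localization.Away t))) ≫
        Spec.map (CommRingCat.ofHom g) := by
  rw [← Spec.map_comp, ← Spec.map_comp, ← CommRingCat.ofHom_comp, ← CommRingCat.ofHom_comp,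
    locMap_comp]

/-- Points in the image of `Spec R[1/t] ⟶ Spec R` do not contain `t`. -/
theorem notMem_of_spec_away {R : Type u} [CommRing R] (t : R)
    (y : Spec (CommRingCat.of (Localization.Away t))) :
    t ∉ (Spec.map (CommRingCat.ofHom (algebraMap R (Localization.Away t))) y).asIdeal := by
  intro hmem
  have h1 : algebraMap R (Localization.Away t) t ∈ y.asIdeal := hmem
  exact y.isPrime.ne_top (Ideal.eq_top_of_isUnit_mem _ h1
    (IsLocalization.Away.algebraMap_isUnit t))

namespace FibSq

variable {C B A' A : Type u} [CommRing C] [CommRing B] [CommRing A'] [CommRing A]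
  {f : C →+* B} {s : C →+* A'} {q : B →+* A} {p : A' →+* A}

/-- The localized fibre square, for any model `D` of `C[1/c]`. -/
theorem loc (h : FibSq f s q p) (c : C) (D : Type u) [CommRing D] [Algebra C D]
    [IsLocalization.Away c D] :
    FibSq (locMap f c (f c) rfl D) (locMap s c (s c) rfl D)
      (locMap q (f c) (q (f c)) rfl (Localization.Away (f c)))
      (locMap p (s c) (q (f c)) (h.comm c).symm (Localization.Away (s c))) :=
  h.localization c (locMap_comp ..) (locMap_comp ..) (locMap_comp ..) (locMap_comp ..)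

/-- Local existence: over a basic open `D(c)` mapped into an affine open of `T`. -/
theorem exists_local (h : FibSq f s q p) {T : Scheme.{u}} (a : Spec (CommRingCat.of A') ⟶ T)
    (b : Spec (CommRingCat.of B) ⟶ T)
    (hab : Spec.map (CommRingCat.ofHom p) ≫ a = Spec.map (CommRingCat.ofHom q) ≫ b)
    (c : C) (W : T.Opens) (hW : IsAffineOpen W)
    (ha : ∀ y' : Spec (CommRingCat.of A'), s c ∉ y'.asIdeal → a y' ∈ W)
    (hb : ∀ y : Spec (CommRingCat.of B), f c ∉ y.asIdeal → b y ∈ W)
    (D : Type u) [CommRing D] [Algebra C D] [IsLocalization.Away c D] :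
    ∃ γ : Spec (CommRingCat.of D) ⟶ T,
      Spec.map (CommRingCat.ofHom (locMap s c (s c) rfl D)) ≫ γ =
        Spec.map (CommRingCat.ofHom (algebraMap A' (Localization.Away (s c)))) ≫ a ∧
      Spec.map (CommRingCat.ofHom (locMap f c (f c) rfl D)) ≫ γ =
        Spec.map (CommRingCat.ofHom (algebraMap B (Localization.Away (f c)))) ≫ b := by
  have : IsAffine W := hW
  have hra : Set.range (Spec.map (CommRingCat.ofHom (algebraMap A' (Localization.Away (s c)))) ≫ a)
      ⊆ Set.range W.ι := by
    rintro _ ⟨y, rfl⟩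
    rw [Scheme.Opens.range_ι, Scheme.Hom.comp_apply]
    exact ha _ (notMem_of_spec_away (s c) y)
  have hrb : Set.range (Spec.map (CommRingCat.ofHom (algebraMap B (Localization.Away (f c)))) ≫ b)
      ⊆ Set.range W.ι := by
    rintro _ ⟨y, rfl⟩
    rw [Scheme.Opens.range_ι, Scheme.Hom.comp_apply]
    exact hb _ (notMem_of_spec_away (f c) y)
  let a' := IsOpenImmersion.lift W.ι _ hra
  let b' := IsOpenImmersion.lift W.ι _ hrb
  have ha' : a' ≫ W.ι = _ := IsOpenImmersion.lift_fac W.ι _ hra
  have hb' : b' ≫ W.ι = _ := IsOpenImmersion.lift_fac W.ι _ hrb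
  have hcompat : Spec.map (CommRingCat.ofHom
        (locMap p (s c) (q (f c)) (h.comm c).symm (Localization.Away (s c)))) ≫ a' =
      Spec.map (CommRingCat.ofHom
        (locMap q (f c) (q (f c)) rfl (Localization.Away (f c)))) ≫ b' := by
    rw [← cancel_mono W.ι, Category.assoc, Category.assoc, ha', hb',
      reassoc_of% (spec_locMap_comp p (s c) (q (f c)) (h.comm c).symm (Localization.Away (s c))),
      reassoc_of% (spec_locMap_comp q (f c) (q (f c)) rfl (Localization.Away (f c))), hab]
  obtain ⟨γ', h1, h2⟩ := (h.loc c D).exists_desc_affine a' b' hcompat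
  exact ⟨γ' ≫ W.ι, by rw [← Category.assoc, h1, ha'], by rw [← Category.assoc, h2, hb']⟩

/-- Uniqueness of the induced morphism out of `Spec C`. -/
theorem hom_ext (h : FibSq f s q p) {T : Scheme.{u}} (γ γ' : Spec (CommRingCat.of C) ⟶ T)
    (h1 : Spec.map (CommRingCat.ofHom f) ≫ γ = Spec.map (CommRingCat.ofHom f) ≫ γ')
    (h2 : Spec.map (CommRingCat.ofHom s) ≫ γ = Spec.map (CommRingCat.ofHom s) ≫ γ') :
    γ = γ' := by
  have key : ∀ x : PrimeSpectrum C, ∃ c : C, c ∉ x.asIdeal ∧ ∃ W : T.Opens, IsAffineOpen W ∧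
      ∀ z : Spec (CommRingCat.of C), c ∉ z.asIdeal → γ z ∈ W ∧ γ' z ∈ W := by
    intro x
    let xC : Spec (CommRingCat.of C) := x
    have hx : γ xC = γ' xC := by
      rcases h.exists_prime x with ⟨y, hy⟩ | ⟨y', _, _, _, hy⟩
      · let yB : Spec (CommRingCat.of B) := y
        have e : γ (Spec.map (CommRingCat.ofHom f) yB) = γ' (Spec.map (CommRingCat.ofHom f) yB) := by
          rw [← Scheme.Hom.comp_apply, ← Scheme.Hom.comp_apply, h1]
        have e' : Spec.map (CommRingCat.ofHom f) yB = xC := hy
        rwa [e'] at e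
      · let yA : Spec (CommRingCat.of A') := y'
        have e : γ (Spec.map (CommRingCat.ofHom s) yA) = γ' (Spec.map (CommRingCat.ofHom s) yA) := by
          rw [← Scheme.Hom.comp_apply, ← Scheme.Hom.comp_apply, h2]
        have e' : Spec.map (CommRingCat.ofHom s) yA = xC := hy
        rwa [e'] at e
    obtain ⟨_, ⟨W, hW : IsAffineOpen W, rfl⟩, hxW, -⟩ :=
      T.isBasis_affineOpens.exists_subset_of_mem_open (Set.mem_univ (γ xC)) isOpen_univ
    have hxU : xC ∈ ((γ ⁻¹ᵁ W ⊓ γ' ⁻¹ᵁ W : (Spec (CommRingCat.of C)).Opens) : Set _) :=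
      ⟨hxW, show γ' xC ∈ W from hx ▸ hxW⟩
    obtain ⟨_, ⟨_, ⟨c, rfl⟩, rfl⟩, hxc, hcU⟩ :=
      PrimeSpectrum.isBasis_basic_opens.exists_subset_of_mem_open hxU (γ ⁻¹ᵁ W ⊓ γ' ⁻¹ᵁ W).isOpen
    exact ⟨c, hxc, W, hW, fun z hz => hcU hz⟩
  choose c hc W hW hγ using key
  have hspan : Ideal.span (Set.range c) = ⊤ := by
    by_contra hne
    obtain ⟨m, hm, hle⟩ := Ideal.exists_le_maximal _ hne
    exact hc ⟨m, hm.isPrime⟩ (hle (Ideal.subset_span ⟨_, rfl⟩))
  let 𝒰 := Scheme.affineOpenCoverOfSpanRangeEqTop (R := CommRingCat.of C) c hspan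
  refine Scheme.Cover.hom_ext 𝒰.openCover _ _ fun x => ?_
  change Spec.map (CommRingCat.ofHom (algebraMap C (Localization.Away (c x)))) ≫ γ =
    Spec.map (CommRingCat.ofHom (algebraMap C (Localization.Away (c x)))) ≫ γ'
  have : IsAffine (W x) := hW x
  have hr : Set.range (Spec.map (CommRingCat.ofHom (algebraMap C (Localization.Away (c x)))) ≫ γ)
      ⊆ Set.range (W x).ι := by
    rintro _ ⟨y, rfl⟩
    rw [Scheme.Opens.range_ι, Scheme.Hom.comp_apply]
    exact (hγ x _ (notMem_of_spec_away (c x) y)).1
  have hr' : Set.range (Spec.map (CommRingCat.ofHom (algebraMap C (Localization.Away (c x)))) ≫ γ')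
      ⊆ Set.range (W x).ι := by
    rintro _ ⟨y, rfl⟩
    rw [Scheme.Opens.range_ι, Scheme.Hom.comp_apply]
    exact (hγ x _ (notMem_of_spec_away (c x) y)).2
  have hu := IsOpenImmersion.lift_fac (W x).ι _ hr
  have hu' := IsOpenImmersion.lift_fac (W x).ι _ hr'
  have huu : IsOpenImmersion.lift (W x).ι _ hr = IsOpenImmersion.lift (W x).ι _ hr' := by
    refine (h.loc (c x) (Localization.Away (c x))).hom_ext_affine _ _ ?_ ?_
    · rw [← cancel_mono (W x).ι, Category.assoc, Category.assoc, hu, hu',
        reassoc_of% (spec_locMap_comp f (c x) (f (c x)) rfl (Localization.Away (c x))),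
        reassoc_of% (spec_locMap_comp f (c x) (f (c x)) rfl (Localization.Away (c x))), h1]
    · rw [← cancel_mono (W x).ι, Category.assoc, Category.assoc, hu, hu',
        reassoc_of% (spec_locMap_comp s (c x) (s (c x)) rfl (Localization.Away (c x))),
        reassoc_of% (spec_locMap_comp s (c x) (s (c x)) rfl (Localization.Away (c x))), h2]
  rw [← hu, ← hu', huu]

end FibSq

end Groth.Agent.Lib.Helper61
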