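/-
Helper library (helper61): existence of the induced morphism `Spec C ⟶ T` for a fibre square
of rings (gluing over basic opens).
-/
import Mathlib
import Groth.Agent.Lib.Helper61.FibSq3

set_option autoImplicit false
universe u
open CategoryTheory CategoryTheory.Limits AlgebraicGeometry TensorProduct

namespace Groth.Agent.Lib.Helper61

namespace FibSq

variable {C B A' A : Type u} [CommRing C] [CommRing B] [CommRing A'] [CommRing A]
  {f : C →+* B} {s : C →+* A'} {q : B →+* A} {p : A' →+* A}

instance away_mul_tensor (c c' : C) :
    IsLocalization.Away (c * c') (Localization.Away c ⊗[C] Localization.Away c') :=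
  IsLocalization.Away.mul' (Localization.Away c) _ c c'

/-- The canonical map `P[1/g c] → P[1/g (c c')]`. -/
noncomputable def kappaL {P : Type u} [CommRing P] (g : C →+* P) (c c' : C) :
    Localization.Away (g c) →+* Localization.Away (g (c * c')) :=
  IsLocalization.Away.lift (g c) (g := algebraMap P (Localization.Away (g (c * c'))))
    (IsLocalization.Away.isUnit_of_dvd (x := g (c * c')) ⟨g c', by rw [map_mul]⟩)

/-- The canonical map `P[1/g c'] → P[1/g (c c')]`. -/
noncomputable def kappaR {P : Type u} [CommRing P] (g : C →+* P) (c c' : C) :
    Localization.Away (g c') →+* Localization.Away (g (c * c')) :=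
  IsLocalization.Away.lift (g c') (g := algebraMap P (Localization.Away (g (c * c'))))
    (IsLocalization.Away.isUnit_of_dvd (x := g (c * c')) ⟨g c, by rw [map_mul, mul_comm]⟩)

theorem kappaL_comp {P : Type u} [CommRing P] (g : C →+* P) (c c' : C) :
    (kappaL g c c').comp (algebraMap P (Localization.Away (g c))) =
      algebraMap P (Localization.Away (g (c * c'))) :=
  IsLocalization.Away.lift_comp _ _

theorem kappaR_comp {P : Type u} [CommRing P] (g : C →+* P) (c c' : C) :
    (kappaR g c c').comp (algebraMap P (Localization.Away (g c'))) =
      algebraMap P (Localization.Away (g (c * c'))) :=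
  IsLocalization.Away.lift_comp _ _

theorem locMap_includeLeft {P : Type u} [CommRing P] (g : C →+* P) (c c' : C) :
    (locMap g (c * c') (g (c * c')) rfl (Localization.Away c ⊗[C] Localization.Away c')).comp
      (Algebra.TensorProduct.includeLeftRingHom
        (R := C) (A := Localization.Away c) (B := Localization.Away c')) =
    (kappaL g c c').comp (locMap g c (g c) rfl (Localization.Away c)) := by
  apply IsLocalization.ringHom_ext (Submonoid.powers c)
  have h1 : ((kappaL g c c').comp (locMap g c (g c) rfl (Localization.Away c))).comp
      (algebraMap C (Localization.Away c)) =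
      (algebraMap P (Localization.Away (g (c * c')))).comp g := by
    rw [RingHom.comp_assoc, locMap_comp, ← RingHom.comp_assoc, kappaL_comp]
  have h2 : ((locMap g (c * c') (g (c * c')) rfl
      (Localization.Away c ⊗[C] Localization.Away c')).comp
      (Algebra.TensorProduct.includeLeftRingHom
        (R := C) (A := Localization.Away c) (B := Localization.Away c'))).comp
      (algebraMap C (Localization.Away c)) =
      (algebraMap P (Localization.Away (g (c * c')))).comp g := by
    rw [RingHom.comp_assoc]
    exact locMap_comp g (c * c') (g (c * c')) rfl (Localization.Away c ⊗[C] Localization.Away c')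
  exact h2.trans h1.symm

theorem locMap_includeRight {P : Type u} [CommRing P] (g : C →+* P) (c c' : C) :
    (locMap g (c * c') (g (c * c')) rfl (Localization.Away c ⊗[C] Localization.Away c')).comp
      (RingHomClass.toRingHom (Algebra.TensorProduct.includeRight
        (R := C) (A := Localization.Away c) (B := Localization.Away c'))) =
    (kappaR g c c').comp (locMap g c' (g c') rfl (Localization.Away c')) := by
  apply IsLocalization.ringHom_ext (Submonoid.powers c')
  have h1 : ((kappaR g c c').comp (locMap g c' (g c') rfl (Localization.Away c'))).comp
      (algebraMap C (Localization.Away c')) =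
      (algebraMap P (Localization.Away (g (c * c')))).comp g := by
    rw [RingHom.comp_assoc, locMap_comp, ← RingHom.comp_assoc, kappaR_comp]
  have h2 : ((locMap g (c * c') (g (c * c')) rfl
      (Localization.Away c ⊗[C] Localization.Away c')).comp
      (RingHomClass.toRingHom (Algebra.TensorProduct.includeRight
        (R := C) (A := Localization.Away c) (B := Localization.Away c')))).comp
      (algebraMap C (Localization.Away c')) =
      (algebraMap P (Localization.Away (g (c * c')))).comp g := by
    rw [RingHom.comp_assoc]
    have h3 : (RingHomClass.toRingHom (Algebra.TensorProduct.includeRight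
        (R := C) (A := Localization.Away c) (B := Localization.Away c'))).comp
        (algebraMap C (Localization.Away c')) =
        algebraMap C (Localization.Away c ⊗[C] Localization.Away c') :=
      AlgHom.comp_algebraMap (Algebra.TensorProduct.includeRight
        (R := C) (A := Localization.Away c) (B := Localization.Away c'))
    rw [h3]
    exact locMap_comp g (c * c') (g (c * c')) rfl (Localization.Away c ⊗[C] Localization.Away c')
  exact h2.trans h1.symm

/-- Key overlap computation. -/
theorem overlap_left {P : Type u} [CommRing P] (g : C →+* P) (c c' : C) {T : Scheme.{u}}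
    (γ : Spec (CommRingCat.of (Localization.Away c)) ⟶ T) (b : Spec (CommRingCat.of P) ⟶ T)
    (hγ : Spec.map (CommRingCat.ofHom (locMap g c (g c) rfl (Localization.Away c))) ≫ γ =
      Spec.map (CommRingCat.ofHom (algebraMap P (Localization.Away (g c)))) ≫ b) :
    Spec.map (CommRingCat.ofHom
        (locMap g (c * c') (g (c * c')) rfl (Localization.Away c ⊗[C] Localization.Away c'))) ≫
      Spec.map (CommRingCat.ofHom (Algebra.TensorProduct.includeLeftRingHom
        (R := C) (A := Localization.Away c) (B := Localization.Away c'))) ≫ γ =
    Spec.map (CommRingCat.ofHom (algebraMap P (Localization.Away (g (c * c'))))) ≫ b := by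
  rw [← Category.assoc, ← Spec.map_comp, ← CommRingCat.ofHom_comp, locMap_includeLeft,
    CommRingCat.ofHom_comp, Spec.map_comp, Category.assoc, hγ, ← Category.assoc, ← Spec.map_comp,
    ← CommRingCat.ofHom_comp, kappaL_comp]

theorem overlap_right {P : Type u} [CommRing P] (g : C →+* P) (c c' : C) {T : Scheme.{u}}
    (γ : Spec (CommRingCat.of (Localization.Away c')) ⟶ T) (b : Spec (CommRingCat.of P) ⟶ T)
    (hγ : Spec.map (CommRingCat.ofHom (locMap g c' (g c') rfl (Localization.Away c'))) ≫ γ =
      Spec.map (CommRingCat.ofHom (algebraMap P (Localization.Away (g c')))) ≫ b) :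
    Spec.map (CommRingCat.ofHom
        (locMap g (c * c') (g (c * c')) rfl (Localization.Away c ⊗[C] Localization.Away c'))) ≫
      Spec.map (CommRingCat.ofHom (RingHomClass.toRingHom (Algebra.TensorProduct.includeRight
        (R := C) (A := Localization.Away c) (B := Localization.Away c')))) ≫ γ =
    Spec.map (CommRingCat.ofHom (algebraMap P (Localization.Away (g (c * c'))))) ≫ b := by
  rw [← Category.assoc, ← Spec.map_comp, ← CommRingCat.ofHom_comp, locMap_includeRight,
    CommRingCat.ofHom_comp, Spec.map_comp, Category.assoc, hγ, ← Category.assoc, ← Spec.map_comp,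
    ← CommRingCat.ofHom_comp, kappaR_comp]

end FibSq

end Groth.Agent.Lib.Helper61
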