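/-
Helper library (helper61): `Spec` of a fibre square of rings (with one leg surjective) is a
pushout of schemes.
-/
import Mathlib
import Groth.Agent.Lib.Helper61.FibSq4

set_option autoImplicit false
universe u
open CategoryTheory CategoryTheory.Limits AlgebraicGeometry TensorProduct

namespace Groth.Agent.Lib.Helper61

namespace FibSq

variable {C B A' A : Type u} [CommRing C] [CommRing B] [CommRing A'] [CommRing A]
  {f : C →+* B} {s : C →+* A'} {q : B →+* A} {p : A' →+* A}

theorem span_map_eq_top {R P : Type u} [CommRing R] [CommRing P] (g : R →+* P) {ι : Type*}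
    (c : ι → R) (hc : Ideal.span (Set.range c) = ⊤) :
    Ideal.span (Set.range fun i => g (c i)) = ⊤ := by
  have h1 : Ideal.map g (Ideal.span (Set.range c)) = ⊤ := by rw [hc, Ideal.map_top]
  rw [Ideal.map_span, ← Set.range_comp] at h1
  exact h1

/-- Existence of the induced morphism out of `Spec C`. -/
theorem exists_desc (h : FibSq f s q p) {T : Scheme.{u}} (a : Spec (CommRingCat.of A') ⟶ T)
    (b : Spec (CommRingCat.of B) ⟶ T)
    (hab : Spec.map (CommRingCat.ofHom p) ≫ a = Spec.map (CommRingCat.ofHom q) ≫ b) :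
    ∃ γ : Spec (CommRingCat.of C) ⟶ T, Spec.map (CommRingCat.ofHom s) ≫ γ = a ∧
      Spec.map (CommRingCat.ofHom f) ≫ γ = b := by
  choose c hc W hW ha hb using fun x : PrimeSpectrum C => h.exists_cover a b hab x
  have hspan : Ideal.span (Set.range c) = ⊤ := by
    by_contra hne
    obtain ⟨m, hm, hle⟩ := Ideal.exists_le_maximal _ hne
    exact hc ⟨m, hm.isPrime⟩ (hle (Ideal.subset_span ⟨_, rfl⟩))
  choose γ hγs hγf using fun x : PrimeSpectrum C =>
    h.exists_local a b hab (c x) (W x) (hW x) (ha x) (hb x) (Localization.Away (c x))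
  let 𝒰 := Scheme.affineOpenCoverOfSpanRangeEqTop (R := CommRingCat.of C) c hspan
  have hcompat : ∀ x x' : 𝒰.openCover.I₀,
      pullback.fst (𝒰.openCover.f x) (𝒰.openCover.f x') ≫ γ x =
        pullback.snd (𝒰.openCover.f x) (𝒰.openCover.f x') ≫ γ x' := by
    intro x x'
    change pullback.fst (Spec.map (CommRingCat.ofHom (algebraMap C (Localization.Away (c x)))))
        (Spec.map (CommRingCat.ofHom (algebraMap C (Localization.Away (c x'))))) ≫ γ x =
      pullback.snd (Spec.map (CommRingCat.ofHom (algebraMap C (Localization.Away (c x)))))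
        (Spec.map (CommRingCat.ofHom (algebraMap C (Localization.Away (c x'))))) ≫ γ x'
    rw [← cancel_epi (pullbackSpecIso C (Localization.Away (c x)) (Localization.Away (c x'))).inv,
      pullbackSpecIso_inv_fst_assoc, pullbackSpecIso_inv_snd_assoc]
    refine (h.loc (c x * c x') (Localization.Away (c x) ⊗[C] Localization.Away (c x'))).hom_ext
      _ _ ?_ ?_
    · rw [overlap_left f (c x) (c x') (γ x) b (hγf x),
        overlap_right f (c x) (c x') (γ x') b (hγf x')]
    · rw [overlap_left s (c x) (c x') (γ x) a (hγs x),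
        overlap_right s (c x) (c x') (γ x') a (hγs x')]
  let Γ := 𝒰.openCover.glueMorphisms γ hcompat
  have hΓ : ∀ x, Spec.map (CommRingCat.ofHom (algebraMap C (Localization.Away (c x)))) ≫ Γ = γ x :=
    fun x => 𝒰.openCover.ι_glueMorphisms γ hcompat x
  refine ⟨Γ, ?_, ?_⟩
  · let 𝒱 := Scheme.affineOpenCoverOfSpanRangeEqTop (R := CommRingCat.of A')
      (fun x => s (c x)) (span_map_eq_top s c hspan)
    refine Scheme.Cover.hom_ext 𝒱.openCover _ _ fun (x : PrimeSpectrum C) => ?_
    change Spec.map (CommRingCat.ofHom (algebraMap A' (Localization.Away (s (c x))))) ≫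
      Spec.map (CommRingCat.ofHom s) ≫ Γ =
      Spec.map (CommRingCat.ofHom (algebraMap A' (Localization.Away (s (c x))))) ≫ a
    rw [← reassoc_of% (spec_locMap_comp s (c x) (s (c x)) rfl (Localization.Away (c x))), hΓ, hγs]
  · let 𝒱 := Scheme.affineOpenCoverOfSpanRangeEqTop (R := CommRingCat.of B)
      (fun x => f (c x)) (span_map_eq_top f c hspan)
    refine Scheme.Cover.hom_ext 𝒱.openCover _ _ fun (x : PrimeSpectrum C) => ?_
    change Spec.map (CommRingCat.ofHom (algebraMap B (Localization.Away (f (c x))))) ≫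
      Spec.map (CommRingCat.ofHom f) ≫ Γ =
      Spec.map (CommRingCat.ofHom (algebraMap B (Localization.Away (f (c x))))) ≫ b
    rw [← reassoc_of% (spec_locMap_comp f (c x) (f (c x)) rfl (Localization.Away (c x))), hΓ, hγf]

end FibSq

end Groth.Agent.Lib.Helper61
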