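import Mathlib

set_option autoImplicit false
universe u
open CategoryTheory AlgebraicGeometry TopologicalSpace

namespace Groth.Agent.Lib.Helper61.AffOpens

section Top

variable {T : Type*} [TopologicalSpace T]

/-- The maximal points (for generization) of a subset. -/
def maxPts (C : Set T) : Set T := {x | x ∈ C ∧ ∀ y ∈ C, y ⤳ x → y = x}

variable [NoetherianSpace T] [QuasiSober T] [T0Space T]

/-- A closed subset of a Noetherian sober space has finitely many maximal points, and every point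
of it is a specialization of one of them. -/
theorem maxPts_finite_and_cover {C : Set T} (hC : IsClosed C) :
    (maxPts C).Finite ∧ ∀ z ∈ C, ∃ x ∈ maxPts C, x ⤳ z := by
  rcases C.eq_empty_or_nonempty with rfl | ⟨c, hc⟩
  · refine ⟨?_, fun z hz => hz.elim⟩
    have : maxPts (∅ : Set T) = ∅ := by
      ext x
      simp [maxPts]
    rw [this]
    exact Set.finite_empty
  have : Nonempty T := ⟨c⟩
  obtain ⟨𝒮, hfin, hcl, hirr, hCeq⟩ := NoetherianSpace.exists_finite_set_isClosed_irreducible hC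
  -- choose generic points
  have hgen : ∀ t ∈ 𝒮, ∃ g : T, IsGenericPoint g t := fun t ht =>
    QuasiSober.sober (hirr t ht) (hcl t ht)
  choose! g hg using hgen
  have hgC : ∀ t ∈ 𝒮, g t ∈ C := by
    intro t ht
    rw [hCeq]
    exact ⟨t, ht, (hg t ht).mem⟩
  have hcov : ∀ z ∈ C, ∃ t ∈ 𝒮, g t ⤳ z := by
    intro z hz
    rw [hCeq] at hz
    obtain ⟨t, ht, hzt⟩ := hz
    exact ⟨t, ht, (hg t ht).specializes hzt⟩
  have hsub : maxPts C ⊆ g '' 𝒮 := by
    rintro x ⟨hxC, hx⟩
    obtain ⟨t, ht, hgt⟩ := hcov x hxC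
    exact ⟨t, ht, hx _ (hgC t ht) hgt⟩
  refine ⟨(hfin.image g).subset hsub, ?_⟩
  intro z hz
  obtain ⟨t₀, ht₀, hgt₀⟩ := hcov z hz
  let F : Set (Set T) := {t | t ∈ 𝒮 ∧ g t ⤳ z}
  have hF : F.Finite := hfin.subset fun t ht => ht.1
  obtain ⟨t, ⟨ht, htz⟩, htmax⟩ := hF.exists_maximalFor (fun t => closure {g t}) F ⟨t₀, ht₀, hgt₀⟩
  refine ⟨g t, ⟨hgC t ht, ?_⟩, htz⟩
  intro y hyC hy
  obtain ⟨t', ht', hgt'⟩ := hcov y hyC
  have h1 : g t' ⤳ g t := hgt'.trans hy
  have h2 : g t ⤳ g t' := by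
    rw [specializes_iff_closure_subset]
    exact htmax (j := t') ⟨ht', h1.trans htz⟩ (specializes_iff_closure_subset.mp h1)
  have h3 : g t ⤳ y := h2.trans hgt'
  exact (h3.antisymm hy).eq.symm

/-- A closed set is determined by its maximal points. -/
theorem eq_of_maxPts_eq {C D : Set T} (hC : IsClosed C) (hD : IsClosed D)
    (h : maxPts C = maxPts D) : C = D := by
  have key : ∀ {C D : Set T}, IsClosed C → IsClosed D → maxPts C = maxPts D → C ⊆ D := by
    intro C D hC hD h z hz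
    obtain ⟨x, hx, hxz⟩ := (maxPts_finite_and_cover hC).2 z hz
    rw [h] at hx
    exact hxz.mem_closed hD hx.1
  exact Set.Subset.antisymm (key hC hD h) (key hD hC h.symm)

end Top

section Scheme

/-- A chain of two proper generizations forces the local ring to have dimension at least two. -/
theorem two_le_ringKrullDim_stalk {X : Scheme.{u}} {x y z : X} (hyx : y ⤳ x) (hzy : z ⤳ y)
    (hyx' : y ≠ x) (hzy' : z ≠ y) : 2 ≤ ringKrullDim (X.presheaf.stalk x) := by
  have hy : y ∈ Set.range (X.fromSpecStalk x) := by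
    rw [Scheme.range_fromSpecStalk]; exact hyx
  have hz : z ∈ Set.range (X.fromSpecStalk x) := by
    rw [Scheme.range_fromSpecStalk]; exact hzy.trans hyx
  obtain ⟨p, rfl⟩ := hy
  obtain ⟨q, rfl⟩ := hz
  have hemb := (X.fromSpecStalk x).isEmbedding
  have hqp : q.asIdeal ≤ p.asIdeal :=
    (PrimeSpectrum.le_iff_specializes (R := X.presheaf.stalk x) q p).mpr
      (hemb.toIsInducing.specializes_iff.mp hzy)
  have hqp' : q.asIdeal < p.asIdeal :=
    lt_of_le_of_ne hqp (fun h => hzy' (by rw [PrimeSpectrum.ext h]))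
  have hp : p ≠ IsLocalRing.closedPoint (X.presheaf.stalk x) := by
    rintro rfl
    rw [Scheme.fromSpecStalk_closedPoint] at hyx'
    exact hyx' rfl
  have := p.2
  have := q.2
  have hpm : p.asIdeal < IsLocalRing.maximalIdeal (X.presheaf.stalk x) :=
    lt_of_le_of_ne (IsLocalRing.le_maximalIdeal p.2.ne_top) (fun h => hp (PrimeSpectrum.ext h))
  have h1 := Ideal.height_add_one_le_of_lt_of_isPrime hqp'
  have h2 := Ideal.height_add_one_le_of_lt_of_isPrime hpm
  have h3 : (IsLocalRing.maximalIdeal (X.presheaf.stalk x)).height ≤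
      ringKrullDim (X.presheaf.stalk x) := Ideal.height_le_ringKrullDim_of_isPrime
  have h0 : (1 : ℕ∞) ≤ p.asIdeal.height := le_trans le_add_self h1
  have h4 : (2 : ℕ∞) ≤ (IsLocalRing.maximalIdeal (X.presheaf.stalk x)).height := by
    calc (2 : ℕ∞) = 1 + 1 := by norm_num
      _ ≤ p.asIdeal.height + 1 := by gcongr
      _ ≤ _ := h2
  have h5 : (2 : WithBot ℕ∞) = ((2 : ℕ∞) : WithBot ℕ∞) := rfl
  rw [h5]
  exact le_trans (WithBot.coe_le_coe.mpr h4) h3

/-- Characterisation of affineness of the inclusion of an open subscheme. -/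
theorem isAffineHom_ι_iff {S : Scheme.{u}} (V : S.Opens) :
    IsAffineHom V.ι ↔ ∀ A : S.Opens, IsAffineOpen A → IsAffineOpen (V ⊓ A) := by
  have key : ∀ A : S.Opens, IsAffineOpen (V.ι ⁻¹ᵁ A) ↔ IsAffineOpen (V ⊓ A) := by
    intro A
    rw [← V.ι.isAffineOpen_iff_of_isOpenImmersion, Scheme.Hom.image_preimage_eq_opensRange_inf,
      Scheme.Opens.opensRange_ι]
  constructor
  · intro h A hA
    exact (key A).mp (h.isAffine_preimage A hA)
  · intro h
    exact ⟨fun A hA => (key A).mpr (h A hA)⟩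

theorem isAffineHom_ι_top {S : Scheme.{u}} : IsAffineHom (⊤ : S.Opens).ι := by
  rw [isAffineHom_ι_iff]
  intro A hA
  rwa [top_inf_eq]

theorem isAffineHom_ι_inf {S : Scheme.{u}} {V W : S.Opens} (hV : IsAffineHom V.ι)
    (hW : IsAffineHom W.ι) : IsAffineHom (V ⊓ W).ι := by
  rw [isAffineHom_ι_iff] at hV hW ⊢
  intro A hA
  rw [inf_assoc]
  exact hV _ (hW A hA)

end Scheme

end Groth.Agent.Lib.Helper61.AffOpens
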