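import Groth.Agent.Lib.Helper93.BlowUpProjAlg

/-!
# The Rees algebra of an ideal with two generators (helper61)

For `I ≤ (x, y)` with `x, y ∈ I`:
* `exists_decomp_pow`: `I^(a+b) ⊆ x^a I^b + y^b I^a`;
* `away_decomp`: every element of `(R(I)_{xT·yT})₀` is the sum of the image of an element of
  `(R(I)_{xT})₀` and the image of an element of `(R(I)_{yT})₀`.
-/

set_option autoImplicit false
universe u

open Polynomial HomogeneousLocalization Groth.Agent.Lib.Helper93.BlowUpProjAlg

namespace Groth.Agent.Lib.Helper61.ReesTwoGen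

variable {A : Type u} [CommRing A] {I : Ideal A} {x y : A}

/-- `I^(a+b) ⊆ x^a I^b + y^b I^a` when `I ≤ (x, y)` and `x, y ∈ I`. -/
theorem exists_decomp_pow (hx : x ∈ I) (hy : y ∈ I) (hI : I ≤ Ideal.span {x, y}) :
    ∀ (n a b : ℕ), a + b = n → ∀ c ∈ I ^ n,
      ∃ u ∈ I ^ b, ∃ v ∈ I ^ a, c = x ^ a * u + y ^ b * v := by
  intro n
  induction n with
  | zero =>
    intro a b hab c hc
    obtain ⟨rfl, rfl⟩ : a = 0 ∧ b = 0 := by omega
    exact ⟨c, hc, 0, by simp, by simp⟩
  | succ n ih =>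
    intro a b hab c hc
    rcases a with _ | a
    · have hb : b = n + 1 := by omega
      subst hb
      exact ⟨c, hc, 0, by simp, by simp⟩
    rcases b with _ | b
    · have ha : a + 1 = n + 1 := by omega
      rw [ha]
      exact ⟨0, by simp, c, hc, by simp⟩
    have hn : a + (b + 1) = n := by omega
    have hn' : (a + 1) + b = n := by omega
    rw [pow_succ] at hc
    refine Submodule.mul_induction_on hc ?_ ?_
    · intro d hd i hi
      obtain ⟨u₁, hu₁, v₁, hv₁, e₁⟩ := ih a (b + 1) hn d hd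
      obtain ⟨u₂, hu₂, v₂, hv₂, e₂⟩ := ih (a + 1) b hn' d hd
      obtain ⟨r, s, hrs⟩ := Ideal.mem_span_pair.mp (hI hi)
      refine ⟨r * u₁ + s * (y * u₂), ?_, r * (x * v₁) + s * v₂, ?_, ?_⟩
      · refine add_mem (Ideal.mul_mem_left _ _ hu₁) (Ideal.mul_mem_left _ _ ?_)
        rw [pow_succ']
        exact Ideal.mul_mem_mul hy hu₂
      · refine add_mem (Ideal.mul_mem_left _ _ ?_) (Ideal.mul_mem_left _ _ hv₂)
        rw [pow_succ']
        exact Ideal.mul_mem_mul hx hv₁
      · rw [← hrs]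
        calc d * (r * x + s * y) = r * x * d + s * y * d := by ring
          _ = r * x * (x ^ a * u₁ + y ^ (b + 1) * v₁) +
              s * y * (x ^ (a + 1) * u₂ + y ^ b * v₂) := by rw [← e₁, ← e₂]
          _ = _ := by ring
    · rintro c₁ c₂ ⟨u, hu, v, hv, e⟩ ⟨u', hu', v', hv', e'⟩
      exact ⟨u + u', add_mem hu hu', v + v', add_mem hv hv', by rw [e, e']; ring⟩

variable (hx : x ∈ I) (hy : y ∈ I)

/-- every element of `(R(I)_{xT·yT})₀` is a sum of images of elements of `(R(I)_{xT})₀` and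
`(R(I)_{yT})₀`. -/
theorem away_decomp (hI : I ≤ Ideal.span {x, y})
    (z : Away (Rees.deg (reesAlgebra I)) (gen x hx * gen y hy)) :
    ∃ (a : Away (Rees.deg (reesAlgebra I)) (gen x hx))
      (b : Away (Rees.deg (reesAlgebra I)) (gen y hy)),
      z = awayMap (Rees.deg (reesAlgebra I)) (gen_mem y hy) rfl a +
        awayMap (Rees.deg (reesAlgebra I)) (gen_mem x hx) (mul_comm (gen x hx) (gen y hy)) b := by
  have hxy : gen x hx * gen y hy ∈ Rees.deg (reesAlgebra I) (1 + 1) :=
    SetLike.mul_mem_graded (gen_mem x hx) (gen_mem y hy)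
  obtain ⟨n, w, hw, rfl⟩ := Away.mk_surjective _ hxy z
  have hnn : n • (1 + 1) = n + n := by simp; ring
  have hw' : w ∈ Rees.deg (reesAlgebra I) (n + n) := hnn ▸ hw
  have hc : (w : A[X]).coeff (n + n) ∈ I ^ (n + n) := w.2 (n + n)
  obtain ⟨u, hu, v, hv, e⟩ := exists_decomp_pow hx hy hI (n + n) n n rfl _ hc
  refine ⟨frac x hx n v hv, frac y hy n u hu, ?_⟩
  rw [frac, frac, awayMap_mk, awayMap_mk]
  apply HomogeneousLocalization.val_injective
  rw [HomogeneousLocalization.val_add, Away.val_mk, Away.val_mk, Away.val_mk,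
    Localization.add_mk_self]
  congr 1
  rw [eq_mono_of_mem I hw', gen_pow, gen_pow, mono_mul_mono, mono_mul_mono]
  apply Subtype.ext
  change monomial (n + n) ((w : A[X]).coeff (n + n)) =
    monomial (n + n) (v * y ^ n) + monomial (n + n) (u * x ^ n)
  rw [← map_add, e]
  congr 1
  ring

end Groth.Agent.Lib.Helper61.ReesTwoGen
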