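import Groth.Agent.Lib.Helper93.BlowUpProj
import Groth.Agent.Lib.Helper61.ReesTwoGen

/-!
# Functions on the overlap of the two charts of `Proj R(I)`, `I = (x, y)` (helper61)

`exists_decomp_sections`: every function on `D₊(xT) ∩ D₊(yT)` is the sum of the restriction of a
function on `D₊(xT)` and the restriction of a function on `D₊(yT)`.  Hence `H¹(Proj R(I), O) = 0`
(see `Groth.Agent.Lib.Helper61.TwoCoverGG`).
-/

set_option autoImplicit false
universe u

open CategoryTheory CategoryTheory.Limits AlgebraicGeometry TopologicalSpace Opposite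
open HomogeneousLocalization Groth.Agent.Lib.Helper93.BlowUpProjAlg
  Groth.Agent.Lib.Helper93.BlowUpProj

namespace Groth.Agent.Lib.Helper61.BlowUpTwoGen

variable {A : Type u} [CommRing A] {I : Ideal A} {x y : A} (hx : x ∈ I) (hy : y ∈ I)

theorem exists_decomp_sections (hI : I ≤ Ideal.span {x, y})
    (s : Γ(P I, Proj.basicOpen (Rees.deg (reesAlgebra I)) (gen x hx) ⊓
      Proj.basicOpen (Rees.deg (reesAlgebra I)) (gen y hy))) :
    ∃ (a : Γ(P I, Proj.basicOpen (Rees.deg (reesAlgebra I)) (gen x hx)))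
      (b : Γ(P I, Proj.basicOpen (Rees.deg (reesAlgebra I)) (gen y hy))),
      s = (P I).presheaf.map (homOfLE inf_le_left).op a +
        (P I).presheaf.map (homOfLE inf_le_right).op b := by
  have hD : Proj.basicOpen (Rees.deg (reesAlgebra I)) (gen x hx * gen y hy) =
      Proj.basicOpen (Rees.deg (reesAlgebra I)) (gen x hx) ⊓
        Proj.basicOpen (Rees.deg (reesAlgebra I)) (gen y hy) := Proj.basicOpen_mul _ _ _
  have hxy : gen x hx * gen y hy ∈ Rees.deg (reesAlgebra I) (1 + 1) :=
    SetLike.mul_mem_graded (gen_mem x hx) (gen_mem y hy)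
  let s' : Γ(P I, Proj.basicOpen (Rees.deg (reesAlgebra I)) (gen x hx * gen y hy)) :=
    (P I).presheaf.map (homOfLE (le_of_eq hD)).op s
  have hs : s = (P I).presheaf.map (homOfLE (le_of_eq hD.symm)).op s' := by
    change s = ((P I).presheaf.map (homOfLE (le_of_eq hD)).op ≫
      (P I).presheaf.map (homOfLE (le_of_eq hD.symm)).op) s
    rw [← Functor.map_comp]
    have : (homOfLE (le_of_eq hD)).op ≫ (homOfLE (le_of_eq hD.symm)).op = 𝟙 _ :=
      Subsingleton.elim _ _
    rw [this, CategoryTheory.Functor.map_id]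
    rfl
  have hiso : IsIso (Proj.awayToSection (Rees.deg (reesAlgebra I)) (gen x hx * gen y hy)) :=
    (Proj.basicOpenIsoAway (Rees.deg (reesAlgebra I)) (gen x hx * gen y hy) hxy
      (by norm_num)).isIso_hom
  have hbij := ConcreteCategory.bijective_of_isIso
    (Proj.awayToSection (Rees.deg (reesAlgebra I)) (gen x hx * gen y hy))
  obtain ⟨z, hz⟩ := hbij.2 s'
  obtain ⟨a', b', e⟩ := Groth.Agent.Lib.Helper61.ReesTwoGen.away_decomp hx hy hI z
  have e1 := Proj.awayMap_awayToSection (Rees.deg (reesAlgebra I)) (gen_mem y hy)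
    (rfl : gen x hx * gen y hy = gen x hx * gen y hy)
  have e2 := Proj.awayMap_awayToSection (Rees.deg (reesAlgebra I)) (gen_mem x hx)
    (mul_comm (gen x hx) (gen y hy))
  have e1' := ConcreteCategory.congr_hom e1 a'
  have e2' := ConcreteCategory.congr_hom e2 b'
  refine ⟨Proj.awayToSection (Rees.deg (reesAlgebra I)) (gen x hx) a',
    Proj.awayToSection (Rees.deg (reesAlgebra I)) (gen y hy) b', ?_⟩
  have key : ∀ {U₁ U₂ U₃ : (P I).Opens} (h₁ : U₂ ≤ U₁) (h₂ : U₃ ≤ U₂) (h₃ : U₃ ≤ U₁)
      (t : Γ(P I, U₁)),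
      (P I).presheaf.map (homOfLE h₂).op ((P I).presheaf.map (homOfLE h₁).op t) =
        (P I).presheaf.map (homOfLE h₃).op t := by
    intro U₁ U₂ U₃ h₁ h₂ h₃ t
    rw [← ConcreteCategory.comp_apply, ← Functor.map_comp]
    rfl
  have e1'' : Proj.awayToSection (Rees.deg (reesAlgebra I)) (gen x hx * gen y hy)
      (awayMap (Rees.deg (reesAlgebra I)) (gen_mem y hy) rfl a') =
      (P I).presheaf.map (homOfLE (Proj.basicOpen_mono _ _ _ ⟨_, rfl⟩)).op
        (Proj.awayToSection (Rees.deg (reesAlgebra I)) (gen x hx) a') := e1'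
  have e2'' : Proj.awayToSection (Rees.deg (reesAlgebra I)) (gen x hx * gen y hy)
      (awayMap (Rees.deg (reesAlgebra I)) (gen_mem x hx) (mul_comm (gen x hx) (gen y hy)) b') =
      (P I).presheaf.map (homOfLE (Proj.basicOpen_mono _ _ _
        ⟨_, mul_comm (gen x hx) (gen y hy)⟩)).op
        (Proj.awayToSection (Rees.deg (reesAlgebra I)) (gen y hy) b') := e2'
  rw [hs, ← hz, e, map_add, map_add, e1'', e2'', key _ _ inf_le_left, key _ _ inf_le_right]

end Groth.Agent.Lib.Helper61.BlowUpTwoGen
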