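import Groth.Agent.Lib.Helper35.DCNak
import Groth.Agent.Lib.Helper35.DCPre
import Groth.Agent.Lib.Helper35.DCAdic
import Groth.Agent.Lib.Helper35.DCCx
import Groth.Agent.S0543
import Mathlib.RingTheory.AdicCompletion.Noetherian
import Mathlib.RingTheory.AdicCompletion.Completeness
import Mathlib.RingTheory.AdicCompletion.Algebra

/-! Derived complete modules with `M/IM` finite over a Noetherian ring are adically complete and
finite over the completion, given the universal property `(★)` of `A → Â` (helper61). -/

set_option autoImplicit false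
universe u

namespace Groth.Agent.Lib.Helper61.DCFinite

open Groth.Agent.Lib.Helper35.DC

variable {A : Type u} [CommRing A]

/-- `(★)`: `A`-linear maps from `Â` to a derived complete module are determined by, and can be
prescribed by, the value at `1`. -/
def Star (I : Ideal A) : Prop :=
  ∀ (N : Type u) [AddCommGroup N] [Module A N], (∀ f ∈ I, Function.Bijective (shiftT f N)) →
    Function.Bijective (fun φ : AdicCompletion I A →ₗ[A] N => φ 1)

variable [IsNoetherianRing A] (I : Ideal A)

theorem main (hstar : Star I) (M : Type u) [AddCommGroup M] [Module A M]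
    (hT : ∀ f ∈ I, Function.Bijective (shiftT f M))
    (hf : Module.Finite A (M ⧸ I • (⊤ : Submodule A M))) :
    IsAdicComplete I M ∧ Module.Finite (AdicCompletion I A) (AdicCompletion I M) := by
  classical
  have hIfg : I.FG := IsNoetherian.noetherian I
  obtain ⟨s, hs⟩ := hIfg
  have hsI : ∀ f ∈ s, f ∈ I := fun f hf => hs ▸ Ideal.subset_span hf
  -- precompleteness
  have hprec : IsPrecomplete I M := by
    rw [← hs]
    exact isPrecomplete_span_of_shiftT_surjective s (fun f hf => (hT f (hsI f hf)).2)
  -- generators of `M/IM` and lifts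
  obtain ⟨S, hS⟩ := hf.fg_top
  choose lift hlift using (Submodule.mkQ_surjective (I • ⊤ : Submodule A M))
  let m : S → M := fun x => lift x.1
  choose φ hφ1 using fun x : S => (hstar M hT).2 (m x)
  have hφ1' : ∀ x : S, φ x 1 = m x := hφ1
  let Ahat := AdicCompletion I A
  let F := S → AdicCompletion I A
  let q : F →ₗ[A] M := ∑ x : S, (φ x).comp (LinearMap.proj x)
  have hq : ∀ k : F, q k = ∑ x : S, φ x (k x) := by
    intro k
    change (∑ x : S, (φ x).comp (LinearMap.proj x)) k = _
    rw [LinearMap.sum_apply]
    rfl
  have hAc : IsAdicComplete I (AdicCompletion I A) := AdicCompletion.isAdicComplete ⟨s, hs⟩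
  have hTF : ∀ f ∈ I, Function.Bijective (shiftT f F) := fun f hf =>
    shiftT_bijective_pi f (fun _ : S => AdicCompletion I A)
      (fun _ => shiftT_bijective_of_isAdicComplete I (AdicCompletion I A) f hf)
  -- `q` is surjective by derived Nakayama
  have hqsurj : Function.Surjective q := by
    have hTQ : ∀ f ∈ s, Function.Bijective (shiftT f (M ⧸ LinearMap.range q)) := fun f hf =>
      shiftT_bijective_quotient_range f q (hTF f (hsI f hf)).2 (hT f (hsI f hf))
    have hm_mem : ∀ x : S, m x ∈ LinearMap.range q := by
      intro x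
      refine ⟨Pi.single x 1, ?_⟩
      rw [hq, Finset.sum_eq_single x]
      · rw [Pi.single_eq_same, hφ1']
      · intro y _ hyx
        rw [Pi.single_eq_of_ne hyx, map_zero]
      · intro h
        exact absurd (Finset.mem_univ x) h
    have hsup : LinearMap.range q ⊔ (I • ⊤ : Submodule A M) = ⊤ := by
      rw [eq_top_iff]
      intro m₀ _
      have h1 : (I • ⊤ : Submodule A M).mkQ m₀ ∈ Submodule.span A (S : Set (M ⧸ I • (⊤ : Submodule A M))) := by
        rw [hS]; trivial
      have h2 : Submodule.span A (S : Set (M ⧸ I • (⊤ : Submodule A M))) ≤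
          Submodule.map (I • ⊤ : Submodule A M).mkQ (LinearMap.range q) := by
        rw [Submodule.span_le]
        intro y hy
        exact ⟨m ⟨y, hy⟩, hm_mem _, hlift y⟩
      obtain ⟨z, hz, hzm⟩ := h2 h1
      have h3 : m₀ - z ∈ (I • ⊤ : Submodule A M) := by
        rw [← Submodule.ker_mkQ (I • ⊤ : Submodule A M), LinearMap.mem_ker, map_sub, hzm, sub_self]
      have : m₀ = z + (m₀ - z) := by abel
      rw [this]
      exact Submodule.add_mem_sup hz h3
    have hIQ : Ideal.span (s : Set A) • (⊤ : Submodule A (M ⧸ LinearMap.range q)) = ⊤ := by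
      rw [hs]
      have h1 : Submodule.map (LinearMap.range q).mkQ (⊤ : Submodule A M) = ⊤ := by
        rw [Submodule.map_top, LinearMap.range_eq_top.mpr (Submodule.mkQ_surjective _)]
      have h2 : Submodule.map (LinearMap.range q).mkQ (LinearMap.range q ⊔ I • ⊤) = I • ⊤ := by
        rw [Submodule.map_sup, Submodule.mkQ_map_self, bot_sup_eq, Submodule.map_smul'', h1]
      rw [← h2, hsup, h1]
    have hsub := subsingleton_of_forall_shiftT_bijective s (M ⧸ LinearMap.range q) hTQ hIQ
    exact LinearMap.range_eq_top.mp (Submodule.Quotient.subsingleton_iff.mp hsub)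
  -- the kernel of `q` is stable under `Â`
  have hK : ∀ (a : AdicCompletion I A) (k : F), q k = 0 → q (a • k) = 0 := by
    intro a k hk
    let ψ : AdicCompletion I A →ₗ[A] M :=
      q.comp ((LinearMap.toSpanSingleton (AdicCompletion I A) F k).restrictScalars A)
    have h1 : ψ 1 = (0 : AdicCompletion I A →ₗ[A] M) 1 := by
      change q ((1 : AdicCompletion I A) • k) = 0
      rw [one_smul, hk]
    have h2 : ψ = 0 := (hstar M hT).1 h1
    have := LinearMap.congr_fun h2 a
    exact this
  let K' : Submodule (AdicCompletion I A) F :=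
    { carrier := {k | q k = 0}
      add_mem' := fun {a b} ha hb => by
        change q (a + b) = 0
        rw [map_add, show q a = 0 from ha, show q b = 0 from hb, add_zero]
      zero_mem' := map_zero q
      smul_mem' := fun a k hk => hK a k hk }
  -- Hausdorffness
  have hN : IsNoetherianRing (AdicCompletion I A) := Groth.Agent.S0543.result A I
  let J : Ideal (AdicCompletion I A) := I.map (algebraMap A (AdicCompletion I A))
  have hcomp : IsAdicComplete J (AdicCompletion I A) :=
    (IsAdicComplete.map_algebraMap_iff (I := I) (S := AdicCompletion I A)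
      (M := AdicCompletion I A)).mpr hAc
  have hJ : J ≤ (⊥ : Ideal (AdicCompletion I A)).jacobson := IsAdicComplete.le_jacobson_bot J
  have hGJ : IsHausdorff J (F ⧸ K') := IsHausdorff.of_le_jacobson J (F ⧸ K') hJ
  have hG : IsHausdorff I (F ⧸ K') :=
    (IsHausdorff.map_algebraMap_iff (I := I) (S := AdicCompletion I A) (M := F ⧸ K')).mp hGJ
  have hhaus : IsHausdorff I M := by
    refine ⟨fun x hx => ?_⟩
    obtain ⟨k, rfl⟩ := hqsurj x
    let π : F →ₗ[A] (F ⧸ K') := K'.mkQ.restrictScalars A
    have h1 : π k = 0 := by
      apply IsHausdorff.haus hG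
      intro n
      rw [SModEq.zero]
      have h2 : q k ∈ (I ^ n • ⊤ : Submodule A M) := by
        have := hx n
        rwa [SModEq.zero] at this
      have h3 : (I ^ n • ⊤ : Submodule A M) = Submodule.map q (I ^ n • ⊤) := by
        rw [Submodule.map_smul'', Submodule.map_top, LinearMap.range_eq_top.mpr hqsurj]
      rw [h3] at h2
      obtain ⟨kn, hkn, hqkn⟩ := h2
      have h4 : π k = π kn := by
        have : k - kn ∈ K' := by
          change q (k - kn) = 0
          rw [map_sub, hqkn, sub_self]
        have h5 : K'.mkQ (k - kn) = 0 := by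
          rw [← LinearMap.mem_ker, Submodule.ker_mkQ]
          exact this
        have h6 : π (k - kn) = 0 := h5
        rw [map_sub, sub_eq_zero] at h6
        exact h6
      rw [h4]
      have h7 : Submodule.map π (I ^ n • ⊤) ≤ (I ^ n • ⊤ : Submodule A (F ⧸ K')) := by
        rw [Submodule.map_smul'']
        exact Submodule.smul_mono le_rfl le_top
      exact h7 ⟨kn, hkn, rfl⟩
    have h8 : K'.mkQ k = 0 := h1
    rw [← LinearMap.mem_ker, Submodule.ker_mkQ] at h8
    exact h8
  refine ⟨{ toIsHausdorff := hhaus, toIsPrecomplete := hprec }, ?_⟩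
  -- finiteness of the completion
  have hNc : IsAdicComplete I (AdicCompletion I M) := AdicCompletion.isAdicComplete ⟨s, hs⟩
  have hTN : ∀ f ∈ I, Function.Bijective (shiftT f (AdicCompletion I M)) := fun f hf =>
    shiftT_bijective_of_isAdicComplete I (AdicCompletion I M) f hf
  have hof : ∀ (x : S) (a : AdicCompletion I A),
      AdicCompletion.of I M (φ x a) = a • AdicCompletion.of I M (m x) := by
    intro x a
    let ψ₁ : AdicCompletion I A →ₗ[A] AdicCompletion I M := (AdicCompletion.of I M).comp (φ x)
    let ψ₂ : AdicCompletion I A →ₗ[A] AdicCompletion I M :=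
      (LinearMap.toSpanSingleton (AdicCompletion I A) (AdicCompletion I M)
        (AdicCompletion.of I M (m x))).restrictScalars A
    have h1 : ψ₁ 1 = ψ₂ 1 := by
      change AdicCompletion.of I M (φ x 1) = (1 : AdicCompletion I A) • AdicCompletion.of I M (m x)
      rw [one_smul, hφ1']
    have h2 : ψ₁ = ψ₂ := (hstar (AdicCompletion I M) hTN).1 h1
    exact LinearMap.congr_fun h2 a
  refine ⟨⟨Finset.univ.image (fun x : S => AdicCompletion.of I M (m x)), ?_⟩⟩
  rw [eq_top_iff]
  intro y _
  obtain ⟨m₀, rfl⟩ := AdicCompletion.of_surjective I M y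
  obtain ⟨k, rfl⟩ := hqsurj m₀
  rw [hq, map_sum]
  refine Submodule.sum_mem _ (fun x _ => ?_)
  rw [hof]
  refine Submodule.smul_mem _ _ (Submodule.subset_span ?_)
  rw [Finset.coe_image]
  exact ⟨x, Finset.mem_coe.mpr (Finset.mem_univ x), rfl⟩

end Groth.Agent.Lib.Helper61.DCFinite
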