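import Groth.Agent.Lib.Helper35.DCNoeth
import Groth.Agent.Lib.Helper35.DComplEx
import Groth.Agent.Lib.Helper35.DCPrelude
import Groth.Agent.Lib.Helper61.DCFinite
import Mathlib.Algebra.Homology.DerivedCategory.FullyFaithful

/-! The universal property `(★)` of `A → Â` for derived complete modules over a Noetherian ring
(helper61), from helper35's recognition theorem for derived completions. -/

set_option autoImplicit false
set_option linter.unusedSectionVars false
set_option linter.style.haveILetI false
universe u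
open CategoryTheory CategoryTheory.Limits MonoidalCategory DerivedCategory
attribute [local instance] HasDerivedCategory.standard

namespace Groth.Agent.Lib.Helper61.DCStar

open Groth.Agent.Lib.Helper35.DC Groth.Agent.Lib.Helper35.DCNoeth Groth.Agent.Lib.Helper35.DCRecog
  Groth.Agent.Lib.Helper35

variable {A : Type u} [CommRing A] [IsNoetherianRing A] (I : Ideal A)

/-- `A` in degree `0`. -/
noncomputable abbrev P₀ : DRing.Cx A :=
  (CochainComplex.singleFunctor (ModuleCat.{u} A) 0).obj (𝟙_ (ModuleCat.{u} A))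

/-- `Â` in degree `0`. -/
noncomputable abbrev P₁ : DRing.Cx A :=
  (CochainComplex.singleFunctor (ModuleCat.{u} A) 0).obj (hatM I)

/-- `A → Â` in degree `0`. -/
noncomputable abbrev g₀ : P₀ (A := A) ⟶ P₁ I :=
  (CochainComplex.singleFunctor (ModuleCat.{u} A) 0).map (ι I)

theorem isZero_single_X (X : ModuleCat.{u} A) (i : ℤ) (hi : i ≠ 0) :
    IsZero (((CochainComplex.singleFunctor (ModuleCat.{u} A) 0).obj X).X i) :=
  HomologicalComplex.isZero_single_obj_X (ComplexShape.up ℤ) 0 X i hi

theorem projective_single_X (X : ModuleCat.{u} A) [Module.Projective A X] (i : ℤ) :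
    Module.Projective A (((CochainComplex.singleFunctor (ModuleCat.{u} A) 0).obj X).X i) := by
  by_cases hi : i = 0
  · subst hi
    exact Module.Projective.of_equiv
      (HomologicalComplex.singleObjXSelf (ComplexShape.up ℤ) 0 X).toLinearEquiv.symm
  · have := ModuleCat.subsingleton_of_isZero (isZero_single_X X i hi)
    infer_instance

theorem flat_single_X (X : ModuleCat.{u} A) [Module.Flat A X] (i : ℤ) :
    Module.Flat A (((CochainComplex.singleFunctor (ModuleCat.{u} A) 0).obj X).X i) := by
  by_cases hi : i = 0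
  · subst hi
    exact Module.Flat.of_linearEquiv
      (HomologicalComplex.singleObjXSelf (ComplexShape.up ℤ) 0 X).toLinearEquiv
  · have := ModuleCat.subsingleton_of_isZero (isZero_single_X X i hi)
    infer_instance

theorem isIso_T₀_map_g₀ : IsIso ((T₀ I).map (g₀ I)) := by
  have : ∀ i : ℤ, IsIso (((T₀ I).map (g₀ I)).f i) := by
    intro i
    by_cases hi : i = 0
    · subst hi
      change IsIso ((tensorRight (qI I)).map ((g₀ I).f 0))
      let a : (P₀ (A := A)).X 0 ≅ 𝟙_ (ModuleCat.{u} A) :=
        HomologicalComplex.singleObjXSelf (ComplexShape.up ℤ) 0 (𝟙_ (ModuleCat.{u} A))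
      let c : (P₁ I).X 0 ≅ hatM I :=
        HomologicalComplex.singleObjXSelf (ComplexShape.up ℤ) 0 (hatM I)
      have h1 : (g₀ I).f 0 = a.hom ≫ ι I ≫ c.inv :=
        HomologicalComplex.single_map_f_self (ComplexShape.up ℤ) 0 (ι I)
      rw [h1, Functor.map_comp, Functor.map_comp]
      have h2 : IsIso ((tensorRight (qI I)).map (ι I)) := isIso_ι_whiskerRight I
      infer_instance
    · have hX : IsZero (((T₀ I).obj (P₀ (A := A))).X i) :=
        Functor.map_isZero (tensorRight (qI I)) (isZero_single_X _ i hi)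
      have hY : IsZero (((T₀ I).obj (P₁ I)).X i) :=
        Functor.map_isZero (tensorRight (qI I)) (isZero_single_X _ i hi)
      exact ⟨⟨0, hX.eq_of_src _ _, hY.eq_of_src _ _⟩⟩
  exact HomologicalComplex.Hom.isIso_of_components _

theorem isDerivedComplete_inD_of_shiftT (N : Type u) [AddCommGroup N] [Module A N]
    (h : ∀ f ∈ I, Function.Bijective (shiftT f N)) :
    DRing.IsDerivedComplete I (Dual.inD A N) :=
  (isDerivedComplete_inD_iff I N).mpr h

/-- precomposition with `A → Â` in `D(A)` is bijective on maps to derived complete objects -/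
theorem bijective_precomp (E : Dual.D A) (hE : DRing.IsDerivedComplete I E) :
    Function.Bijective (fun φ : DRing.toD (P₁ I) ⟶ E => Q.map (g₀ I) ≫ φ) := by
  have hI : I.FG := IsNoetherian.noetherian I
  haveI : DRing.HasDerivedCompletion I := DCE.hasDerivedCompletion_of_fg I hI
  have hAc : IsAdicComplete I (AdicCompletion I A) := AdicCompletion.isAdicComplete hI
  have hc : DRing.IsDerivedComplete I (DRing.toD (P₁ I)) :=
    isDerivedComplete_inD_of_shiftT I (AdicCompletion I A)
      (fun f hf => shiftT_bijective_of_isAdicComplete I (AdicCompletion I A) f hf)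
  have hq : QuasiIso ((T₀ I).map (g₀ I)) := by
    have := isIso_T₀_map_g₀ I
    infer_instance
  have hproj : Module.Projective A (𝟙_ (ModuleCat.{u} A) : ModuleCat.{u} A) :=
    inferInstanceAs (Module.Projective A A)
  obtain ⟨e, he⟩ := recognition I hI (P₀ (A := A)) (P₁ I) 0
    (fun i hi => isZero_single_X _ i (by omega)) (fun i hi => isZero_single_X _ i (by omega))
    (fun i => projective_single_X _ i) (fun i => flat_single_X _ i) (g₀ I) hc hq
  have h1 := Bousfield.bijective_precomp_unit (DRing.derivedCompletionAdj I)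
    (DRing.toD (P₀ (A := A))) E hE
  have h2 : (fun φ : DRing.toD (P₁ I) ⟶ E => Q.map (g₀ I) ≫ φ) =
      (fun φ : ((DRing.derivedCompletion I).obj (DRing.toD (P₀ (A := A)))).obj ⟶ E =>
        (DRing.derivedCompletionAdj I).unit.app (DRing.toD (P₀ (A := A))) ≫ φ) ∘
      (fun φ : DRing.toD (P₁ I) ⟶ E => e.hom ≫ φ) := by
    funext φ
    simp only [Function.comp_apply]
    rw [← Category.assoc]
    congr 1
    exact he.symm
  rw [h2]
  refine Function.Bijective.comp h1 ?_
  exact ⟨fun a b h => (cancel_epi e.hom).1 h, fun a => ⟨e.inv ≫ a, by simp⟩⟩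

theorem star : DCFinite.Star I := by
  intro N _ _ hTN
  let Sg := DerivedCategory.singleFunctor (ModuleCat.{u} A) 0
  have hE : DRing.IsDerivedComplete I (Dual.inD A N) := isDerivedComplete_inD_of_shiftT I N hTN
  have hbij : Function.Bijective
      (fun χ : Sg.obj (hatM I) ⟶ Sg.obj (ModuleCat.of A N) => Sg.map (ι I) ≫ χ) :=
    bijective_precomp I (Dual.inD A N) hE
  constructor
  · intro φ φ' h
    have h0 : φ 1 = φ' 1 := h
    have h1 : ι I ≫ ModuleCat.ofHom φ = ι I ≫ ModuleCat.ofHom φ' := by
      apply ModuleCat.hom_ext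
      apply LinearMap.ext_ring
      change φ (algebraMap A (AdicCompletion I A) 1) = φ' (algebraMap A (AdicCompletion I A) 1)
      rw [map_one, h0]
    have h2 : Sg.map (ι I) ≫ Sg.map (ModuleCat.ofHom φ) =
        Sg.map (ι I) ≫ Sg.map (ModuleCat.ofHom φ') := by
      rw [← Functor.map_comp, ← Functor.map_comp, h1]
    have h3 := Sg.map_injective (hbij.1 h2)
    have h4 := congrArg ModuleCat.Hom.hom h3
    exact h4
  · intro n
    let ψ : (𝟙_ (ModuleCat.{u} A) : ModuleCat.{u} A) ⟶ ModuleCat.of A N :=
      ModuleCat.ofHom (LinearMap.toSpanSingleton A N n)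
    obtain ⟨χ, hχ⟩ := hbij.2 (Sg.map ψ)
    obtain ⟨φ', rfl⟩ := Sg.map_surjective χ
    have h1 : Sg.map (ι I ≫ φ') = Sg.map ψ := by
      rw [Functor.map_comp]
      exact hχ
    have h2 : ι I ≫ φ' = ψ := Sg.map_injective h1
    refine ⟨φ'.hom, ?_⟩
    have h3 := congrArg (fun t => t.hom (1 : A)) h2
    change φ'.hom (algebraMap A (AdicCompletion I A) 1) = (1 : A) • n at h3
    rw [map_one, one_smul] at h3
    exact h3

end Groth.Agent.Lib.Helper61.DCStar
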