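import Mathlib
import Groth.Prelude.Def_DefoSh2
import Groth.Agent.Lib.Helper45.EpiStalk
import Groth.Agent.Lib.Helper49.StalkExact
import Groth.Agent.S19452
/-!
# First-order deformations of a module and extensions (helper61)

For a first-order deformation `D` of `E` (over the dual numbers `k[ε]`) we construct the map
`iota D : E ⟶ D.sheaf` ("multiplication by `ε`", pinned by `D.π ≫ iota D = D.act ε`) and prove that
`0 → E → D.sheaf → E → 0` is short exact (`shortExact`).  Conversely a short exact sequence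
`0 → E → F → E → 0` of `O_X`-modules defines a first-order deformation `ofExt` on `F`, with
`ε` acting by `π ≫ i`.
-/

set_option autoImplicit false
set_option linter.style.haveILetI false
universe u
open CategoryTheory CategoryTheory.Limits AlgebraicGeometry

namespace Groth.Agent.Lib.Helper61.DefoExt

open DefoSh ArtFun ArtFun.Art Groth.Agent.Lib.Helper49

variable {k : Type u} [Field k] {X : Scheme.{u}} [X.Over (Spec (CommRingCat.of k))] {E : X.Modules}

/-- morphisms of modules agreeing on all stalks are equal -/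
theorem hom_ext_of_stalk {M N : X.Modules} (φ ψ : M ⟶ N)
    (h : ∀ (x : X) (v : ↑(M.presheaf.stalk x)),
      RefHull.stalkMapₗ φ x v = RefHull.stalkMapₗ ψ x v) : φ = ψ := by
  apply Scheme.Modules.hom_ext
  intro U
  ext s
  apply Groth.Agent.Lib.Helper45.section_ext_germ
  intro x hx
  rw [← RefHull.stalkMapₗ_germ, ← RefHull.stalkMapₗ_germ, h]

section Dual

/-- `ε` as an element of the carrier of `dual k k` -/
abbrev epsA (k : Type u) [Field k] : ↥(dual k k) := (DualNumber.eps : DualNumber k)

/-- `inl c` as an element of the carrier of `dual k k` -/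
abbrev inlA (c : k) : ↥(dual k k) := (TrivSqZeroExt.inl c : DualNumber k)

theorem epsA_mem_maximalIdeal : epsA k ∈ IsLocalRing.maximalIdeal (dual k k) :=
  (Art.mem_maximalIdeal_iff (dual k k) (epsA k)).2 rfl

theorem fst_eq_zero_of_mem {a : dual k k} (ha : a ∈ IsLocalRing.maximalIdeal (dual k k)) :
    TrivSqZeroExt.fst (a : DualNumber k) = 0 :=
  (Art.mem_maximalIdeal_iff (dual k k) a).1 ha

theorem epsA_mul_epsA : epsA k * epsA k = 0 := by
  show ((DualNumber.eps : DualNumber k) * DualNumber.eps : DualNumber k) = 0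
  exact DualNumber.eps_mul_eps

theorem dn_eq_eps_mul (a : DualNumber k) (ha : TrivSqZeroExt.fst a = 0) :
    a = (DualNumber.eps : DualNumber k) * (TrivSqZeroExt.inl (TrivSqZeroExt.snd a) : DualNumber k) := by
  ext <;> simp [ha]

theorem dn_decomp (a : DualNumber k) :
    a = algebraMap k (DualNumber k) (TrivSqZeroExt.fst a) +
      (TrivSqZeroExt.snd a) • (DualNumber.eps : DualNumber k) := by
  ext <;> simp [TrivSqZeroExt.algebraMap_eq_inl]

theorem eq_epsA_mul_of_fst_eq_zero (a : dual k k) (ha : TrivSqZeroExt.fst (a : DualNumber k) = 0) :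
    a = epsA k * inlA (TrivSqZeroExt.snd (a : DualNumber k)) :=
  dn_eq_eps_mul a ha

theorem decompA (a : dual k k) :
    a = algebraMap k (dual k k) (TrivSqZeroExt.fst (a : DualNumber k)) +
      (TrivSqZeroExt.snd (a : DualNumber k)) • epsA k :=
  dn_decomp a

end Dual

section FromDefo

variable (D : Defo E (dual k k))

/-- the action of `ε`, as an endomorphism of `D.sheaf` -/
noncomputable def epsEnd : D.sheaf ⟶ D.sheaf := D.act (epsA k)

theorem epsEnd_eq : epsEnd D = D.act (DualNumber.eps : DualNumber k) := rfl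

/-- the action of `a` in terms of the action of `ε` -/
theorem act_eq (a : dual k k) :
    (D.act a : D.sheaf ⟶ D.sheaf) = (TrivSqZeroExt.fst (a : DualNumber k)) • 𝟙 D.sheaf +
      (TrivSqZeroExt.snd (a : DualNumber k)) • epsEnd D := by
  conv_lhs => rw [decompA a]
  rw [map_add, AlgHom.commutes, map_smul, Algebra.algebraMap_eq_smul_one]
  rfl

theorem epsEnd_sq : epsEnd D ≫ epsEnd D = 0 := by
  have h : D.act (epsA k * epsA k) = D.act (epsA k) * D.act (epsA k) := map_mul _ _ _
  rw [epsA_mul_epsA, map_zero] at h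
  exact h.symm

theorem epsEnd_π : epsEnd D ≫ D.π = 0 :=
  D.act_π _ rfl

/-- the stalkwise kernel of `π` is `ε · stalk` -/
theorem ker_π_stalk (p : X) (v : ↑(D.sheaf.presheaf.stalk p))
    (hv : RefHull.stalkMapₗ D.π p v = 0) :
    ∃ v', v = RefHull.stalkMapₗ (epsEnd D) p v' := by
  letI := D.stalkMod p
  have h := D.ker_le p v hv
  refine Submodule.smul_induction_on h ?_ ?_
  · intro a ha u _
    have ha0 := fst_eq_zero_of_mem ha
    refine ⟨inlA (TrivSqZeroExt.snd (a : DualNumber k)) • u, ?_⟩
    change a • u = epsA k • (inlA (TrivSqZeroExt.snd (a : DualNumber k)) • u)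
    rw [← mul_smul]
    congr 1
    exact eq_epsA_mul_of_fst_eq_zero a ha0
  · rintro x y ⟨x', rfl⟩ ⟨y', rfl⟩
    exact ⟨x' + y', (map_add _ _ _).symm⟩

theorem epi_π : Epi D.π :=
  Groth.Agent.Lib.Helper45.epi_of_stalkMap_surjective D.π (fun x => D.surj x)

theorem kernelι_act_eps :
    kernel.ι D.π ≫ epsEnd D = 0 := by
  apply hom_ext_of_stalk
  intro x w
  rw [stalkMapₗ_comp_apply, stalkMapₗ_zero_apply]
  have hv : RefHull.stalkMapₗ D.π x (RefHull.stalkMapₗ (kernel.ι D.π) x w) = 0 := by
    rw [← stalkMapₗ_comp_apply, kernel.condition, stalkMapₗ_zero_apply]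
  obtain ⟨v', hv'⟩ := ker_π_stalk D x _ hv
  rw [hv', ← stalkMapₗ_comp_apply, epsEnd_sq, stalkMapₗ_zero_apply]

/-- "multiplication by `ε`" as a map `E ⟶ D.sheaf` -/
noncomputable def iota : E ⟶ D.sheaf :=
  haveI := epi_π D
  Abelian.epiDesc D.π (epsEnd D) (kernelι_act_eps D)

theorem π_iota : D.π ≫ iota D = epsEnd D := by
  haveI := epi_π D
  exact Abelian.comp_epiDesc _ _ _

theorem iota_unique (i : E ⟶ D.sheaf)
    (hi : D.π ≫ i = epsEnd D) : i = iota D := by
  haveI := epi_π D
  rw [← cancel_epi D.π, hi, π_iota]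

theorem iota_π : iota D ≫ D.π = 0 := by
  haveI := epi_π D
  rw [← cancel_epi D.π, ← Category.assoc, π_iota, epsEnd_π, comp_zero]

theorem mono_iota : Mono (iota D) := by
  apply mono_of_stalkMap_injective
  intro x
  rw [injective_iff_map_eq_zero]
  intro u hu
  obtain ⟨v, rfl⟩ := D.surj x u
  have h1 : RefHull.stalkMapₗ (epsEnd D) x v = 0 := by
    rw [← π_iota, stalkMapₗ_comp_apply]
    exact hu
  obtain ⟨v', hv'⟩ := @Groth.Agent.S19452.exists_eq_eps_smul_of_flat k _
    ↑(D.sheaf.presheaf.stalk x) _ (D.stalkMod x) (D.flat x) v h1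
  have hv'' : v = RefHull.stalkMapₗ (epsEnd D) x v' := hv'
  change RefHull.stalkMapₗ D.π x v = 0
  rw [hv'', ← stalkMapₗ_comp_apply, epsEnd_π, stalkMapₗ_zero_apply]

theorem shortExact : (ShortComplex.mk (iota D) D.π (iota_π D)).ShortExact := by
  haveI := epi_π D
  haveI := mono_iota D
  refine ShortComplex.ShortExact.mk ?_
  rw [ShortComplex.exact_iff_epi_kernel_lift]
  apply Groth.Agent.Lib.Helper45.epi_of_stalkMap_surjective
  intro x w
  have hv : RefHull.stalkMapₗ D.π x (RefHull.stalkMapₗ (kernel.ι D.π) x w) = 0 := by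
    rw [← stalkMapₗ_comp_apply, kernel.condition, stalkMapₗ_zero_apply]
  obtain ⟨v', hv'⟩ := ker_π_stalk D x _ hv
  refine ⟨RefHull.stalkMapₗ D.π x v', ?_⟩
  apply stalkMap_injective_of_mono (kernel.ι D.π) x
  change RefHull.stalkMapₗ (kernel.ι D.π) x
    (RefHull.stalkMapₗ (kernel.lift D.π (iota D) (iota_π D)) x (RefHull.stalkMapₗ D.π x v')) =
      RefHull.stalkMapₗ (kernel.ι D.π) x w
  rw [hv', ← stalkMapₗ_comp_apply, ← stalkMapₗ_comp_apply, kernel.lift_ι, π_iota]

end FromDefo

section FromExt

variable (k)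
variable {F : X.Modules} (i : E ⟶ F) (π : F ⟶ E) (w : i ≫ π = 0)

/-- `ε` acts on the middle term of an extension by `π ≫ i` -/
noncomputable def etaEnd : End F := π ≫ i

include w in
theorem etaEnd_mul_self : etaEnd i π * etaEnd i π = 0 := by
  rw [End.mul_def]
  unfold etaEnd
  rw [Category.assoc, reassoc_of% w, zero_comp, comp_zero]

/-- the action of the dual numbers on the middle term of an extension of `E` by `E` -/
noncomputable def extAct : DualNumber k →ₐ[k] End F :=
  DualNumber.lift ⟨(Algebra.ofId k (End F), etaEnd i π), etaEnd_mul_self i π w,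
    fun a => (Algebra.commutes a (etaEnd i π)).symm⟩

theorem extAct_apply (z : DualNumber k) :
    extAct k i π w z = z.fst • (1 : End F) + z.snd • etaEnd i π := by
  change algebraMap k (End F) z.fst + (algebraMap k (End F) z.snd) * etaEnd i π = _
  rw [Algebra.algebraMap_eq_smul_one, Algebra.algebraMap_eq_smul_one, smul_mul_assoc, one_mul]

theorem extAct_hom (z : DualNumber k) :
    (extAct k i π w z : F ⟶ F) = z.fst • 𝟙 F + z.snd • (π ≫ i) :=
  extAct_apply k i π w z

theorem extAct_eps : (extAct k i π w (DualNumber.eps : DualNumber k) : F ⟶ F) = π ≫ i := by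
  rw [extAct_hom]
  change ((DualNumber.eps : DualNumber k).fst • 𝟙 F +
    (DualNumber.eps : DualNumber k).snd • (π ≫ i) : F ⟶ F) = _
  simp

theorem extAct_comp_π (z : DualNumber k) (hz : z.fst = 0) :
    (extAct k i π w z : F ⟶ F) ≫ π = 0 := by
  rw [extAct_hom, hz]
  simp [Linear.smul_comp, w]

variable (hS : (ShortComplex.mk i π w).ShortExact)

include hS in
theorem stalk_ker_iff (p : X) (m : ↑(F.presheaf.stalk p)) :
    RefHull.stalkMapₗ π p m = 0 ↔ ∃ m', m = RefHull.stalkMapₗ (π ≫ i) p m' := by
  haveI : Epi π := hS.epi_g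
  constructor
  · intro hm
    obtain ⟨u, hu⟩ := ((stalkMap_exact_of_shortExact _ hS p) m).1 hm
    obtain ⟨m', hm'⟩ := stalkMap_surjective_of_epi π p u
    refine ⟨m', ?_⟩
    rw [stalkMapₗ_comp_apply]
    change m = (stalkMap i p).hom ((stalkMap π p).hom m')
    rw [hm']
    exact hu.symm
  · rintro ⟨m', rfl⟩
    rw [← stalkMapₗ_comp_apply, Category.assoc, w, comp_zero, stalkMapₗ_zero_apply]

include hS in
theorem flat_stalk_ofExt (p : X) :
    letI := stalkModule F (extAct k i π w).toRingHom p
    Module.Flat (DualNumber k) ↑(F.presheaf.stalk p) := by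
  letI mL : Module (DualNumber k) ↑(F.presheaf.stalk p) :=
    stalkModule F (extAct k i π w).toRingHom p
  letI mV : Module k ↑(E.presheaf.stalk p) := stalkModule E (Algebra.ofId k (End E)).toRingHom p
  letI mLk : Module k ↑(F.presheaf.stalk p) :=
    Module.compHom ↑(F.presheaf.stalk p) (algebraMap k (DualNumber k))
  haveI : IsScalarTower k (DualNumber k) ↑(F.presheaf.stalk p) :=
    ⟨fun c z l => by
      change (c • z) • l = (algebraMap k (DualNumber k) c) • (z • l)
      rw [Algebra.smul_def, mul_smul]⟩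
  have hL : ∀ (z : DualNumber k) (l : ↑(F.presheaf.stalk p)),
      z • l = RefHull.stalkMapₗ (extAct k i π w z : F ⟶ F) p l := fun z l => rfl
  have hV : ∀ (c : k) (v : ↑(E.presheaf.stalk p)), c • v = RefHull.stalkMapₗ (c • 𝟙 E) p v :=
    fun c v => by
      change RefHull.stalkMapₗ (algebraMap k (End E) c) p v = _
      rw [Algebra.algebraMap_eq_smul_one]
      rfl
  have hLk : ∀ (c : k) (l : ↑(F.presheaf.stalk p)),
      c • l = RefHull.stalkMapₗ (c • 𝟙 F) p l := fun c l => by
    change (algebraMap k (DualNumber k) c) • l = _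
    rw [hL, AlgHom.commutes, Algebra.algebraMap_eq_smul_one]
    rfl
  have hε : ∀ l : ↑(F.presheaf.stalk p),
      (DualNumber.eps : DualNumber k) • l = RefHull.stalkMapₗ (π ≫ i) p l := fun l => by
    rw [hL, extAct_eps]
  let πl : ↑(F.presheaf.stalk p) →ₗ[k] ↑(E.presheaf.stalk p) :=
    { toFun := RefHull.stalkMapₗ π p
      map_add' := map_add _
      map_smul' := fun c v => by
        rw [RingHom.id_apply, hV, hLk, ← stalkMapₗ_comp_apply, ← stalkMapₗ_comp_apply,
          Linear.smul_comp, Linear.comp_smul, Category.id_comp, Category.comp_id] }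
  haveI : Epi π := hS.epi_g
  haveI : Mono i := hS.mono_f
  have hker : ∀ m, πl m = 0 ↔ ∃ m', m = (DualNumber.eps : DualNumber k) • m' := by
    intro m
    change RefHull.stalkMapₗ π p m = 0 ↔ _
    rw [stalk_ker_iff i π w hS p m]
    constructor
    · rintro ⟨m', h⟩
      exact ⟨m', by rw [hε]; exact h⟩
    · rintro ⟨m', h⟩
      exact ⟨m', by rw [← hε]; exact h⟩
  refine Groth.Agent.S19452.flat_dualNumber (A := k) ↑(F.presheaf.stalk p)
    ↑(E.presheaf.stalk p) πl (stalkMap_surjective_of_epi π p) hker ?_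
  intro m hm
  rw [← hker]
  rw [hε, stalkMapₗ_comp_apply] at hm
  apply stalkMap_injective_of_mono i p
  change RefHull.stalkMapₗ i p (RefHull.stalkMapₗ π p m) = (stalkMap i p).hom 0
  rw [hm, map_zero]

/-- the first-order deformation of `E` defined by a short exact sequence `0 → E → F → E → 0` -/
noncomputable def ofExt : Defo E (dual k k) where
  sheaf := F
  act := extAct k i π w
  π := π
  act_π a ha := extAct_comp_π k i π w a ha
  surj p := by
    haveI : Epi π := hS.epi_g
    exact stalkMap_surjective_of_epi π p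
  ker_le p v hv := by
    letI : Module (dual k k) ↑(F.presheaf.stalk p) :=
      stalkModule (A := dual k k) F (extAct k i π w).toRingHom p
    obtain ⟨v', hv'⟩ := (stalk_ker_iff i π w hS p v).1 hv
    have h : v = epsA k • v' := by
      change v = RefHull.stalkMapₗ (extAct k i π w (DualNumber.eps : DualNumber k) : F ⟶ F) p v'
      rw [extAct_eps]
      exact hv'
    rw [h]
    exact Submodule.smul_mem_smul epsA_mem_maximalIdeal Submodule.mem_top
  flat p := flat_stalk_ofExt k i π w hS p

theorem iota_ofExt : iota (ofExt k i π w hS) = i :=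
  (iota_unique (ofExt k i π w hS) i (extAct_eps k i π w).symm).symm

end FromExt

end Groth.Agent.Lib.Helper61.DefoExt
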