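import Mathlib
import Groth.Prelude.Def_DefoConn
import Groth.Agent.Lib.Helper61.DefoExt
import Groth.Agent.Lib.Helper30.ModEpi
import Groth.Agent.S17439
/-!
# Deformations of a connection over a first-order deformation: morphism-level calculus (helper61)
-/

set_option autoImplicit false
set_option linter.style.haveILetI false
universe u
open CategoryTheory CategoryTheory.Limits AlgebraicGeometry Opposite

namespace Groth.Agent.Lib.Helper61.DefoConnLib

open DefoSh ArtFun ArtFun.Art Groth.Agent.Lib.Helper61.DefoExt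

variable {X : Scheme.{u}}

/-- the underlying map of abelian sheaves. -/
noncomputable abbrev toAbMap {M N : X.Modules} (φ : M ⟶ N) : Coh.toAb M ⟶ Coh.toAb N :=
  (SheafOfModules.toSheaf X.ringCatSheaf).map φ

theorem toAbMap_comp {M N P : X.Modules} (φ : M ⟶ N) (ψ : N ⟶ P) :
    toAbMap (φ ≫ ψ) = toAbMap φ ≫ toAbMap ψ :=
  Functor.map_comp _ _ _

theorem toAbMap_id (M : X.Modules) : toAbMap (𝟙 M) = 𝟙 (Coh.toAb M) :=
  CategoryTheory.Functor.map_id _ _

theorem toAbMap_add {M N : X.Modules} (φ ψ : M ⟶ N) : toAbMap (φ + ψ) = toAbMap φ + toAbMap ψ :=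
  Functor.map_add _

theorem toAbMap_sub {M N : X.Modules} (φ ψ : M ⟶ N) : toAbMap (φ - ψ) = toAbMap φ - toAbMap ψ :=
  Functor.map_sub _

theorem toAbMap_zero (M N : X.Modules) : toAbMap (0 : M ⟶ N) = 0 :=
  Functor.map_zero _ _ _

theorem toAbMap_injective {M N : X.Modules} : Function.Injective (toAbMap (M := M) (N := N)) :=
  (SheafOfModules.toSheaf X.ringCatSheaf).map_injective

theorem toAb_hom_ext {M N : X.Modules} (ψ₁ ψ₂ : Coh.toAb M ⟶ Coh.toAb N)
    (h : ∀ (U : X.Opens) (x : M.val.obj (op U)), ConnSh.secApp ψ₁ U x = ConnSh.secApp ψ₂ U x) :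
    ψ₁ = ψ₂ := by
  apply Sheaf.hom_ext
  ext U x
  exact h U.unop x

theorem epi_toAbMap {M N : X.Modules} (π : M ⟶ N) [Epi π] : Epi (toAbMap π) := by
  have hepi : Epi (C := SheafOfModules X.ringCatSheaf) π := ‹Epi π›
  have h1 : Sheaf.IsLocallySurjective ((SheafOfModules.toSheaf X.ringCatSheaf).map π) :=
    Groth.Agent.Lib.Helper30.ModEpi.isLocallySurjective_of_epi (R := X.ringCatSheaf) π
  exact (Sheaf.isLocallySurjective_iff_epi' (φ := (SheafOfModules.toSheaf X.ringCatSheaf).map π)).1 h1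

variable {Ω' : X.Modules}

theorem isHorizontal_iff {M M' : X.Modules} (c : Coh.toAb M ⟶ Coh.toAb (CohB1.tensorMod M Ω'))
    (c' : Coh.toAb M' ⟶ Coh.toAb (CohB1.tensorMod M' Ω')) (φ : M ⟶ M') :
    ConnSh.IsHorizontal c c' φ ↔ toAbMap φ ≫ c' = c ≫ toAbMap (KoszTw.tensorMap φ (𝟙 Ω')) := by
  constructor
  · intro h
    apply toAb_hom_ext
    intro U x
    exact h U x
  · intro h U x
    exact congrArg (fun ψ => ConnSh.secApp ψ U x) h

section Calc

open Groth.Agent.S17439

variable {k : Type u} [Field k] [X.Over (Spec (CommRingCat.of k))]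
  {δ : OmegaSh.Der (X ↘ Spec (CommRingCat.of k)) Ω'} {E : X.Modules}
  {nabla : Coh.toAb E ⟶ Coh.toAb (CohB1.tensorMod E Ω')} {D : Defo E (dual k k)}

theorem π_horizontal' (c : DefoConn δ nabla D) :
    toAbMap D.π ≫ nabla = c.conn ≫ toAbMap (KoszTw.tensorMap D.π (𝟙 Ω')) :=
  (isHorizontal_iff _ _ _).1 c.π_horizontal

theorem eps_horizontal' (c : DefoConn δ nabla D) :
    toAbMap (epsEnd D) ≫ c.conn = c.conn ≫ toAbMap (KoszTw.tensorMap (epsEnd D) (𝟙 Ω')) :=
  (isHorizontal_iff _ _ _).1 (c.act_horizontal (epsA k))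

/-- a deformation of `∇` restricts to `∇` on `ε · D = ι(E)` -/
theorem conn_iota (c : DefoConn δ nabla D) :
    toAbMap (iota D) ≫ c.conn = nabla ≫ toAbMap (KoszTw.tensorMap (iota D) (𝟙 Ω')) := by
  haveI := epi_π D
  haveI := epi_toAbMap D.π
  rw [← cancel_epi (toAbMap D.π)]
  have h1 : toAbMap D.π ≫ toAbMap (iota D) = toAbMap (epsEnd D) := by
    rw [← toAbMap_comp, π_iota]
  have h2 : KoszTw.tensorMap (epsEnd D) (𝟙 Ω') =
      KoszTw.tensorMap D.π (𝟙 Ω') ≫ KoszTw.tensorMap (iota D) (𝟙 Ω') := by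
    rw [← π_iota]
    exact (tensorMap_comp_left _ _).symm
  rw [← Category.assoc, h1, eps_horizontal', h2, toAbMap_comp, ← Category.assoc,
    ← π_horizontal', Category.assoc]

/-- the nilpotent endomorphism `π ≫ S ≫ ι` of `D.sheaf` attached to an endomorphism `S` of `E` -/
noncomputable def nilEnd (D : Defo E (dual k k)) (S : E ⟶ E) : D.sheaf ⟶ D.sheaf :=
  D.π ≫ S ≫ iota D

theorem nilEnd_π (S : E ⟶ E) : nilEnd D S ≫ D.π = 0 := by
  unfold nilEnd
  rw [Category.assoc, Category.assoc, iota_π, comp_zero, comp_zero]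

theorem iota_nilEnd (S : E ⟶ E) : iota D ≫ nilEnd D S = 0 := by
  unfold nilEnd
  rw [← Category.assoc, iota_π, zero_comp]

theorem nilEnd_sq (S T : E ⟶ E) : nilEnd D S ≫ nilEnd D T = 0 := by
  unfold nilEnd
  rw [Category.assoc, Category.assoc, ← Category.assoc (iota D), iota_π, zero_comp, comp_zero,
    comp_zero]

theorem epsEnd_nilEnd (S : E ⟶ E) : epsEnd D ≫ nilEnd D S = 0 := by
  rw [← π_iota, Category.assoc, iota_nilEnd, comp_zero]

theorem nilEnd_epsEnd (S : E ⟶ E) : nilEnd D S ≫ epsEnd D = 0 := by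
  rw [← π_iota, ← Category.assoc, nilEnd_π, zero_comp]

/-- the key computation: `1 + π S ι` is horizontal from `c` to `c'` iff `c' - c` is the derivative
of `S`. -/
theorem horizontal_one_add_iff (c c' : DefoConn δ nabla D) (S : E ⟶ E) :
    ConnSh.IsHorizontal c.conn c'.conn (𝟙 D.sheaf + nilEnd D S) ↔
      c'.conn - c.conn = toAbMap D.π ≫
        (nabla ≫ toAbMap (KoszTw.tensorMap S (𝟙 Ω')) - toAbMap S ≫ nabla) ≫
          toAbMap (KoszTw.tensorMap (iota D) (𝟙 Ω')) := by
  rw [isHorizontal_iff]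
  have hL : toAbMap (𝟙 D.sheaf + nilEnd D S) ≫ c'.conn =
      c'.conn + toAbMap D.π ≫ toAbMap S ≫ nabla ≫ toAbMap (KoszTw.tensorMap (iota D) (𝟙 Ω')) := by
    unfold nilEnd
    rw [toAbMap_add, toAbMap_id, toAbMap_comp, toAbMap_comp, Preadditive.add_comp,
      Category.id_comp, Category.assoc, Category.assoc, conn_iota]
  have hT : KoszTw.tensorMap (𝟙 D.sheaf + nilEnd D S) (𝟙 Ω') =
      𝟙 _ + KoszTw.tensorMap D.π (𝟙 Ω') ≫ KoszTw.tensorMap S (𝟙 Ω') ≫
        KoszTw.tensorMap (iota D) (𝟙 Ω') := by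
    unfold nilEnd
    rw [tensorMap_add_left, KoszTw.tensorMap_id, tensorMap_comp_left, tensorMap_comp_left]
  have hR : c.conn ≫ toAbMap (KoszTw.tensorMap (𝟙 D.sheaf + nilEnd D S) (𝟙 Ω')) =
      c.conn + toAbMap D.π ≫ nabla ≫ toAbMap (KoszTw.tensorMap S (𝟙 Ω')) ≫
        toAbMap (KoszTw.tensorMap (iota D) (𝟙 Ω')) := by
    rw [hT, toAbMap_add, toAbMap_id, toAbMap_comp, toAbMap_comp,
      Preadditive.comp_add, Category.comp_id, ← Category.assoc c.conn, ← π_horizontal',
      Category.assoc]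
  rw [hL, hR, Preadditive.sub_comp, Preadditive.comp_sub, Category.assoc, Category.assoc]
  constructor
  · intro h
    rw [sub_eq_iff_eq_add]
    rw [← sub_eq_iff_eq_add] at h
    rw [← h]
    abel
  · intro h
    rw [sub_eq_iff_eq_add] at h
    rw [h]
    abel

/-- every automorphism of the deformation `D` is `1 + π S ι` -/
theorem exists_nilEnd_of_iso (e : Defo.Iso D D) :
    ∃ S : E ⟶ E, e.iso.hom = 𝟙 D.sheaf + nilEnd D S := by
  haveI := epi_π D
  haveI := mono_iota D
  have hS := shortExact D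
  haveI := hS.mono_f
  haveI := hS.epi_g
  obtain ⟨g, hg⟩ : ∃ g : D.sheaf ⟶ D.sheaf, g = e.iso.hom - 𝟙 D.sheaf := ⟨_, rfl⟩
  have hgπ : g ≫ D.π = 0 := by
    rw [hg, Preadditive.sub_comp, e.hom_π, Category.id_comp, sub_self]
  have ht : hS.exact.lift g hgπ ≫ iota D = g := hS.exact.lift_f g hgπ
  obtain ⟨t, htdef⟩ : ∃ t : D.sheaf ⟶ E, t = hS.exact.lift g hgπ := ⟨_, rfl⟩
  rw [← htdef] at ht
  have hcomm : epsEnd D ≫ g = g ≫ epsEnd D := by
    rw [hg, Preadditive.comp_sub, Preadditive.sub_comp, Category.comp_id, Category.id_comp]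
    congr 1
    exact e.act_hom (epsA k)
  have h0 : g ≫ epsEnd D = 0 := by
    rw [← ht, ← π_iota, Category.assoc, ← Category.assoc (iota D), iota_π, zero_comp, comp_zero]
  have h1 : iota D ≫ t = 0 := by
    rw [h0, ← π_iota, ← ht, Category.assoc] at hcomm
    have h2 : iota D ≫ t ≫ iota D = 0 := by
      rw [← cancel_epi D.π, hcomm, comp_zero]
    rw [← cancel_mono (iota D), Category.assoc, h2, zero_comp]
  refine ⟨hS.exact.desc t h1, ?_⟩
  have h3 : D.π ≫ hS.exact.desc t h1 = t := hS.exact.g_desc t h1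
  unfold nilEnd
  rw [← Category.assoc, h3, ht, hg]
  abel

/-- `1 + π S ι` as an automorphism of the deformation -/
noncomputable def isoOfEnd (D : Defo E (dual k k)) (S : E ⟶ E) : Defo.Iso D D where
  iso :=
    { hom := 𝟙 D.sheaf + nilEnd D S
      inv := 𝟙 D.sheaf - nilEnd D S
      hom_inv_id := by
        simp only [Preadditive.add_comp, Preadditive.comp_sub, Category.id_comp,
          Category.comp_id, nilEnd_sq]
        abel
      inv_hom_id := by
        simp only [Preadditive.sub_comp, Preadditive.comp_add, Category.id_comp,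
          Category.comp_id, nilEnd_sq]
        abel }
  act_hom a := by
    rw [act_eq D a]
    simp only [Preadditive.add_comp, Preadditive.comp_add, Linear.smul_comp, Linear.comp_smul,
      Category.id_comp, Category.comp_id, epsEnd_nilEnd, nilEnd_epsEnd, smul_zero, smul_add]
    abel
  hom_π := by
    rw [Preadditive.add_comp, Category.id_comp, nilEnd_π, add_zero]

theorem transport_iff (c c' : DefoConn δ nabla D) :
    DefoConn.Transport c c' ↔ ∃ S : E ⟶ E,
      c'.conn - c.conn = toAbMap D.π ≫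
        (nabla ≫ toAbMap (KoszTw.tensorMap S (𝟙 Ω')) - toAbMap S ≫ nabla) ≫
          toAbMap (KoszTw.tensorMap (iota D) (𝟙 Ω')) := by
  constructor
  · rintro ⟨e, he⟩
    obtain ⟨S, hS⟩ := exists_nilEnd_of_iso e
    rw [hS] at he
    exact ⟨S, (horizontal_one_add_iff c c' S).1 he⟩
  · rintro ⟨S, hS⟩
    exact ⟨isoOfEnd D S, (horizontal_one_add_iff c c' S).2 hS⟩

end Calc

end Groth.Agent.Lib.Helper61.DefoConnLib
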