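import Mathlib
import Groth.Agent.Lib.Helper61.DefoConnLib
import Groth.Agent.Lib.Helper5.StalkTensorSh
import Groth.Agent.Lib.Helper49.FinLocFree
/-!
# Tensoring the extension `0 → E → D → E → 0` of a first-order deformation with a module (helper61)

For `E` finite locally free the sequence `0 → E ⊗ Ω' → D ⊗ Ω' → E ⊗ Ω' → 0` is short exact.
-/

set_option autoImplicit false
set_option linter.style.haveILetI false
universe u
open CategoryTheory CategoryTheory.Limits AlgebraicGeometry Opposite

namespace Groth.Agent.Lib.Helper61.DefoTensorExact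

open DefoSh ArtFun ArtFun.Art Groth.Agent.Lib.Helper61.DefoExt Groth.Agent.Lib.Helper49
open Groth.Agent.Lib.Helper5.StalkTensorSh

variable {X : Scheme.{u}}

/-- exactness of a short complex of modules can be checked on stalks -/
theorem exact_of_stalk (S : ShortComplex X.Modules)
    (h : ∀ (x : X) (v : ↑(S.X₂.presheaf.stalk x)), RefHull.stalkMapₗ S.g x v = 0 →
      ∃ u, RefHull.stalkMapₗ S.f x u = v) : S.Exact := by
  rw [ShortComplex.exact_iff_epi_kernel_lift]
  apply Groth.Agent.Lib.Helper45.epi_of_stalkMap_surjective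
  intro x w
  have hv : RefHull.stalkMapₗ S.g x (RefHull.stalkMapₗ (kernel.ι S.g) x w) = 0 := by
    rw [← stalkMapₗ_comp_apply, kernel.condition, stalkMapₗ_zero_apply]
  obtain ⟨u, hu⟩ := h x _ hv
  refine ⟨u, ?_⟩
  apply stalkMap_injective_of_mono (kernel.ι S.g) x
  change RefHull.stalkMapₗ (kernel.ι S.g) x
    (RefHull.stalkMapₗ (kernel.lift S.g S.f S.zero) x u) = RefHull.stalkMapₗ (kernel.ι S.g) x w
  rw [← stalkMapₗ_comp_apply, kernel.lift_ι, hu]

section Alg

variable {R : Type*} [CommRing R] {A B C : Type*} [AddCommGroup A] [AddCommGroup B]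
  [AddCommGroup C] [Module R A] [Module R B] [Module R C]

/-- tensoring a short exact sequence with projective cokernel stays injective on the left -/
theorem rTensor_injective_of_projective (P : Type*) [AddCommGroup P] [Module R P]
    (f : A →ₗ[R] B) (g : B →ₗ[R] C) (hf : Function.Injective f) (hfg : Function.Exact f g)
    (hg : Function.Surjective g) [Module.Projective R C] :
    Function.Injective (f.rTensor P) := by
  obtain ⟨s, hs⟩ := Module.projective_lifting_property g LinearMap.id hg
  have h01 := (hfg.split_tfae hf hg).out 0 1 rfl rfl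
  obtain ⟨l, hl⟩ := h01.1 ⟨s, hs⟩
  have h : (l.rTensor P) ∘ₗ (f.rTensor P) = LinearMap.id := by
    rw [← LinearMap.rTensor_comp, hl, LinearMap.rTensor_id]
  exact Function.LeftInverse.injective (g := l.rTensor P) (fun t => LinearMap.congr_fun h t)

end Alg

/-- the stalk map of `φ ⊗ 1` under the stalk-tensor isomorphism -/
theorem stalk_tensorMap_left {M M' : X.Modules} (N : X.Modules) (φ : M ⟶ M') (x : X)
    (t : (DerSch.stalkFunctor X x).obj (((DCoh.tensorBi (X := X)).obj M).obj N)) :
    (stalkTensorIso X x M' N).hom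
        ((DerSch.stalkFunctor X x).map (KoszTw.tensorMap φ (𝟙 N)) t) =
      (((DerSch.stalkFunctor X x).map φ).hom.rTensor _)
        ((stalkTensorIso X x M N).hom t) := by
  have h := stalkTensorIso_hom_naturality_apply X x φ (𝟙 N) t
  rw [CategoryTheory.Functor.map_id] at h
  exact h

open TensorProduct in
/-- the stalk of a tensor product, as a linear equivalence with uniform types -/
noncomputable def tauEquiv (M N : X.Modules) (x : X) :
    ↑((CohB1.tensorMod M N).presheaf.stalk x) ≃ₗ[X.presheaf.stalk x]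
      (↑(M.presheaf.stalk x) ⊗[X.presheaf.stalk x] ↑(N.presheaf.stalk x)) :=
  (stalkTensorIso X x M N).toLinearEquiv

/-- the stalk of a morphism of modules, as a linear map over the local ring -/
noncomputable abbrev stalkLin {M M' : X.Modules} (φ : M ⟶ M') (x : X) :
    ↑(M.presheaf.stalk x) →ₗ[X.presheaf.stalk x] ↑(M'.presheaf.stalk x) :=
  ((DerSch.stalkFunctor X x).map φ).hom

theorem stalkLin_apply {M M' : X.Modules} (φ : M ⟶ M') (x : X) (v : ↑(M.presheaf.stalk x)) :
    stalkLin φ x v = RefHull.stalkMapₗ φ x v := rfl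

theorem tau_tensorMap_left {M M' : X.Modules} (N : X.Modules) (φ : M ⟶ M') (x : X)
    (t : ↑((CohB1.tensorMod M N).presheaf.stalk x)) :
    tauEquiv M' N x (RefHull.stalkMapₗ (KoszTw.tensorMap φ (𝟙 N)) x t) =
      ((stalkLin φ x).rTensor ↑(N.presheaf.stalk x)) (tauEquiv M N x t) :=
  stalk_tensorMap_left N φ x t

section Main

open Groth.Agent.S17439

variable {k : Type u} [Field k] [X.Over (Spec (CommRingCat.of k))] {E : X.Modules}
  (Ω' : X.Modules)

theorem tensor_iota_π (D : Defo E (dual k k)) :
    KoszTw.tensorMap (iota D) (𝟙 Ω') ≫ KoszTw.tensorMap D.π (𝟙 Ω') = 0 := by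
  rw [tensorMap_comp_left, iota_π, tensorMap_zero_left]

section Stalk

variable (hE : FlatMod.IsFinLocFree E) (D : Defo E (dual k k)) (x : X)

theorem ιx_injective : Function.Injective (stalkLin (iota D) x) := by
  haveI := mono_iota D
  exact stalkMap_injective_of_mono (iota D) x

theorem πx_surjective : Function.Surjective (stalkLin D.π x) := D.surj x

theorem ιx_πx_exact : Function.Exact (stalkLin (iota D) x) (stalkLin D.π x) :=
  stalkMap_exact_of_shortExact _ (shortExact D) x

include hE in
theorem rTensor_ιx_injective :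
    Function.Injective ((stalkLin (iota D) x).rTensor ↑(Ω'.presheaf.stalk x)) := by
  haveI : Module.Free (X.presheaf.stalk x) ↑(E.presheaf.stalk x) :=
    free_stalk_of_isFinLocFree E hE x
  exact rTensor_injective_of_projective _ (stalkLin (iota D) x) (stalkLin D.π x)
    (ιx_injective D x) (ιx_πx_exact D x) (πx_surjective D x)

theorem rTensor_exact_x :
    Function.Exact ((stalkLin (iota D) x).rTensor ↑(Ω'.presheaf.stalk x))
      ((stalkLin D.π x).rTensor ↑(Ω'.presheaf.stalk x)) :=
  rTensor_exact _ (ιx_πx_exact D x) (πx_surjective D x)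

end Stalk

variable (hE : FlatMod.IsFinLocFree E) (D : Defo E (dual k k))

include hE in
theorem mono_tensor_iota : Mono (KoszTw.tensorMap (iota D) (𝟙 Ω')) := by
  apply mono_of_stalkMap_injective
  intro x
  rw [injective_iff_map_eq_zero]
  intro u hu
  have hu' : RefHull.stalkMapₗ (KoszTw.tensorMap (iota D) (𝟙 Ω')) x u = 0 := hu
  have h1 := tau_tensorMap_left Ω' (iota D) x u
  rw [hu', map_zero] at h1
  have h2 : tauEquiv E Ω' x u = 0 := by
    apply rTensor_ιx_injective Ω' hE D x
    rw [map_zero]
    exact h1.symm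
  exact (tauEquiv E Ω' x).injective (h2.trans (map_zero _).symm)

theorem exact_tensor :
    (ShortComplex.mk (KoszTw.tensorMap (iota D) (𝟙 Ω')) (KoszTw.tensorMap D.π (𝟙 Ω'))
      (tensor_iota_π Ω' D)).Exact := by
  apply exact_of_stalk
  intro x v hv
  have hv' : RefHull.stalkMapₗ (KoszTw.tensorMap D.π (𝟙 Ω')) x v = 0 := hv
  have h1 := tau_tensorMap_left Ω' D.π x v
  rw [hv', map_zero] at h1
  obtain ⟨w, hw⟩ := ((rTensor_exact_x Ω' D x) (tauEquiv D.sheaf Ω' x v)).1 h1.symm
  refine ⟨(tauEquiv E Ω' x).symm w, ?_⟩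
  apply (tauEquiv D.sheaf Ω' x).injective
  have h2 := tau_tensorMap_left Ω' (iota D) x ((tauEquiv E Ω' x).symm w)
  rw [LinearEquiv.apply_symm_apply, hw] at h2
  exact h2

end Main

end Groth.Agent.Lib.Helper61.DefoTensorExact
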