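import Mathlib
import Groth.Agent.Lib.Helper61.DefoTensorExact
/-!
# Deformations of a connection over a fixed first-order deformation form a torsor under
`Hom(E, E ⊗ Ω')` (helper61)
-/

set_option autoImplicit false
set_option linter.style.haveILetI false
universe u
open CategoryTheory CategoryTheory.Limits AlgebraicGeometry Opposite

namespace Groth.Agent.Lib.Helper61.DefoConnBij

open DefoSh ArtFun ArtFun.Art Groth.Agent.Lib.Helper61.DefoExt Groth.Agent.Lib.Helper61.DefoConnLib
open Groth.Agent.Lib.Helper61.DefoTensorExact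

variable {X : Scheme.{u}}

/-- a morphism of the underlying abelian sheaves that is linear over the structure sheaf is a
morphism of modules -/
noncomputable def homOfLinear {M N : X.Modules} (θ : Coh.toAb M ⟶ Coh.toAb N)
    (hθ : ∀ (U : X.Opens) (t : Γ(X, U)) (e : M.val.obj (op U)),
      ConnSh.secApp θ U (t • e) = t • ConnSh.secApp θ U e) : M ⟶ N :=
  ⟨PresheafOfModules.homMk θ.hom (fun U r m => hθ U.unop r m)⟩

theorem toAbMap_homOfLinear {M N : X.Modules} (θ : Coh.toAb M ⟶ Coh.toAb N)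
    (hθ : ∀ (U : X.Opens) (t : Γ(X, U)) (e : M.val.obj (op U)),
      ConnSh.secApp θ U (t • e) = t • ConnSh.secApp θ U e) :
    toAbMap (homOfLinear θ hθ) = θ := by
  apply toAb_hom_ext
  intro U x
  rfl

theorem secApp_add {M N : X.Modules} (a b : Coh.toAb M ⟶ Coh.toAb N) (U : X.Opens)
    (x : M.val.obj (op U)) :
    ConnSh.secApp (a + b) U x = ConnSh.secApp a U x + ConnSh.secApp b U x := rfl

theorem secApp_sub {M N : X.Modules} (a b : Coh.toAb M ⟶ Coh.toAb N) (U : X.Opens)
    (x : M.val.obj (op U)) :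
    ConnSh.secApp (a - b) U x = ConnSh.secApp a U x - ConnSh.secApp b U x := rfl

theorem secApp_toAbMap {M N : X.Modules} (ψ : M ⟶ N) (U : X.Opens) (x : M.val.obj (op U)) :
    ConnSh.secApp (toAbMap ψ) U x = ψ.app U x := rfl

section Main

variable {k : Type u} [Field k] [X.Over (Spec (CommRingCat.of k))] {Ω' : X.Modules}
  {δ : OmegaSh.Der (X ↘ Spec (CommRingCat.of k)) Ω'} {E : X.Modules}
  {nabla : Coh.toAb E ⟶ Coh.toAb (CohB1.tensorMod E Ω')} {D : Defo E (dual k k)}

/-- `π ≫ φ ≫ (ι ⊗ 1)`, the endomorphism-valued one-form attached to `φ : E ⟶ E ⊗ Ω'` -/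
noncomputable def twist (D : Defo E (dual k k)) (φ : E ⟶ CohB1.tensorMod E Ω') :
    D.sheaf ⟶ CohB1.tensorMod D.sheaf Ω' :=
  D.π ≫ φ ≫ KoszTw.tensorMap (iota D) (𝟙 Ω')

theorem tensorMap_epsEnd (D : Defo E (dual k k)) :
    KoszTw.tensorMap (epsEnd D) (𝟙 Ω') =
      KoszTw.tensorMap D.π (𝟙 Ω') ≫ KoszTw.tensorMap (iota D) (𝟙 Ω') := by
  rw [← π_iota]
  exact (Groth.Agent.S17439.tensorMap_comp_left _ _).symm

theorem twist_tensor_π (φ : E ⟶ CohB1.tensorMod E Ω') :
    twist D φ ≫ KoszTw.tensorMap D.π (𝟙 Ω') = 0 := by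
  unfold twist
  rw [Category.assoc, Category.assoc, tensor_iota_π, comp_zero, comp_zero]

theorem epsEnd_twist (φ : E ⟶ CohB1.tensorMod E Ω') : epsEnd D ≫ twist D φ = 0 := by
  unfold twist
  rw [← Category.assoc, epsEnd_π, zero_comp]

theorem twist_tensor_epsEnd (φ : E ⟶ CohB1.tensorMod E Ω') :
    twist D φ ≫ KoszTw.tensorMap (epsEnd D) (𝟙 Ω') = 0 := by
  rw [tensorMap_epsEnd, ← Category.assoc, twist_tensor_π, zero_comp]

theorem act_twist (φ : E ⟶ CohB1.tensorMod E Ω') (a : dual k k) :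
    (D.act a : D.sheaf ⟶ D.sheaf) ≫ twist D φ =
      twist D φ ≫ KoszTw.tensorMap (D.act a : D.sheaf ⟶ D.sheaf) (𝟙 Ω') := by
  rw [act_eq D a, Groth.Agent.S17439.tensorMap_add_left, Groth.Agent.S17439.tensorMap_smul_left,
    Groth.Agent.S17439.tensorMap_smul_left, KoszTw.tensorMap_id]
  simp only [Preadditive.add_comp, Preadditive.comp_add, Linear.smul_comp, Linear.comp_smul,
    Category.id_comp, Category.comp_id, epsEnd_twist, twist_tensor_epsEnd, smul_zero]

/-- adding `π ≫ φ ≫ (ι ⊗ 1)` to a deformation of `∇` gives a deformation of `∇` -/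
noncomputable def mkConn (c₀ : DefoConn δ nabla D) (φ : E ⟶ CohB1.tensorMod E Ω') :
    DefoConn δ nabla D where
  conn := c₀.conn + toAbMap (twist D φ)
  isConn := by
    intro U t e
    have key : ∀ (a b T : (CohB1.tensorMod D.sheaf Ω').val.obj (op U)),
        (t • a + T) + t • b = t • (a + b) + T := fun a b T => by
      rw [smul_add]
      abel
    have h : ConnSh.secApp (toAbMap (twist D φ)) U (t • e) =
        t • ConnSh.secApp (toAbMap (twist D φ)) U e :=
      Scheme.Modules.Hom.app_smul (twist D φ) t e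
    exact (congrArg₂ (· + ·) (c₀.isConn U t e) h).trans (key _ _ _)
  act_horizontal a := by
    rw [isHorizontal_iff, Preadditive.comp_add, Preadditive.add_comp,
      ← (isHorizontal_iff _ _ _).1 (c₀.act_horizontal a), ← toAbMap_comp, ← toAbMap_comp,
      act_twist]
  π_horizontal := by
    rw [isHorizontal_iff, Preadditive.add_comp, ← toAbMap_comp, twist_tensor_π, toAbMap_zero,
      add_zero]
    exact π_horizontal' c₀

theorem mkConn_conn (c₀ : DefoConn δ nabla D) (φ : E ⟶ CohB1.tensorMod E Ω') :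
    (mkConn c₀ φ).conn = c₀.conn + toAbMap (twist D φ) := rfl

theorem defoConn_ext {c c' : DefoConn δ nabla D} (h : c.conn = c'.conn) : c = c' := by
  cases c
  cases c'
  congr

theorem sub_linear (c c₀ : DefoConn δ nabla D) (U : X.Opens) (t : Γ(X, U))
    (e : D.sheaf.val.obj (op U)) :
    ConnSh.secApp (c.conn - c₀.conn) U (t • e) = t • ConnSh.secApp (c.conn - c₀.conn) U e := by
  have key : ∀ (a b T : (CohB1.tensorMod D.sheaf Ω').val.obj (op U)),
      (t • a + T) - (t • b + T) = t • (a - b) := fun a b T => by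
    rw [smul_sub]
    abel
  exact (congrArg₂ (· - ·) (c.isConn U t e) (c₀.isConn U t e)).trans (key _ _ _)

/-- the difference of two deformations of `∇` over `D`, as a morphism of modules -/
noncomputable def diffHom (c c₀ : DefoConn δ nabla D) : D.sheaf ⟶ CohB1.tensorMod D.sheaf Ω' :=
  homOfLinear (c.conn - c₀.conn) (sub_linear c c₀)

theorem toAbMap_diffHom (c c₀ : DefoConn δ nabla D) :
    toAbMap (diffHom c c₀) = c.conn - c₀.conn :=
  toAbMap_homOfLinear _ _

theorem diffHom_tensor_π (c c₀ : DefoConn δ nabla D) :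
    diffHom c c₀ ≫ KoszTw.tensorMap D.π (𝟙 Ω') = 0 := by
  apply toAbMap_injective
  rw [toAbMap_comp, toAbMap_diffHom, toAbMap_zero, Preadditive.sub_comp, ← π_horizontal' c,
    ← π_horizontal' c₀, sub_self]

theorem epsEnd_diffHom (c c₀ : DefoConn δ nabla D) : epsEnd D ≫ diffHom c c₀ = 0 := by
  have h : epsEnd D ≫ diffHom c c₀ = diffHom c c₀ ≫ KoszTw.tensorMap (epsEnd D) (𝟙 Ω') := by
    apply toAbMap_injective
    rw [toAbMap_comp, toAbMap_comp, toAbMap_diffHom, Preadditive.comp_sub, Preadditive.sub_comp,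
      eps_horizontal' c, eps_horizontal' c₀]
  rw [h, tensorMap_epsEnd, ← Category.assoc, diffHom_tensor_π, zero_comp]

theorem exists_twist_eq (hE : FlatMod.IsFinLocFree E) (c c₀ : DefoConn δ nabla D) :
    ∃ φ : E ⟶ CohB1.tensorMod E Ω', diffHom c c₀ = twist D φ := by
  haveI := epi_π D
  haveI := mono_iota D
  have hS := shortExact D
  haveI := hS.mono_f
  haveI := hS.epi_g
  have h1 : iota D ≫ diffHom c c₀ = 0 := by
    rw [← cancel_epi D.π, ← Category.assoc, π_iota, epsEnd_diffHom, comp_zero]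
  obtain ⟨θ'', hθ''⟩ : ∃ θ'' : E ⟶ CohB1.tensorMod D.sheaf Ω', D.π ≫ θ'' = diffHom c c₀ :=
    ⟨hS.exact.desc _ h1, hS.exact.g_desc _ h1⟩
  have h2 : θ'' ≫ KoszTw.tensorMap D.π (𝟙 Ω') = 0 := by
    rw [← cancel_epi D.π, ← Category.assoc, hθ'', diffHom_tensor_π, comp_zero]
  have hT := exact_tensor Ω' D
  haveI : Mono (ShortComplex.mk (KoszTw.tensorMap (iota D) (𝟙 Ω')) (KoszTw.tensorMap D.π (𝟙 Ω'))
      (tensor_iota_π Ω' D)).f := mono_tensor_iota Ω' hE D
  have h3 : hT.lift θ'' h2 ≫ KoszTw.tensorMap (iota D) (𝟙 Ω') = θ'' := hT.lift_f θ'' h2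
  refine ⟨hT.lift θ'' h2, ?_⟩
  unfold twist
  rw [h3, hθ'']

theorem twist_injective (hE : FlatMod.IsFinLocFree E) :
    Function.Injective (twist (Ω' := Ω') D) := by
  intro φ φ' h
  unfold twist at h
  haveI := epi_π D
  haveI := mono_tensor_iota Ω' hE D
  rw [cancel_epi] at h
  rwa [cancel_mono] at h

/-- deformations of `∇` over `D` correspond to `Hom(E, E ⊗ Ω')`, after the choice of one of them -/
noncomputable def connEquiv (hE : FlatMod.IsFinLocFree E) (c₀ : DefoConn δ nabla D) :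
    DefoConn δ nabla D ≃ (E ⟶ CohB1.tensorMod E Ω') where
  toFun c := Classical.choose (exists_twist_eq hE c c₀)
  invFun φ := mkConn c₀ φ
  left_inv c := by
    apply defoConn_ext
    rw [mkConn_conn, ← Classical.choose_spec (exists_twist_eq hE c c₀), toAbMap_diffHom]
    abel
  right_inv φ := by
    apply twist_injective (k := k) (D := D) hE
    rw [← Classical.choose_spec (exists_twist_eq hE (mkConn c₀ φ) c₀)]
    apply toAbMap_injective
    rw [toAbMap_diffHom, mkConn_conn]
    abel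

theorem connEquiv_spec (hE : FlatMod.IsFinLocFree E) (c₀ c : DefoConn δ nabla D) :
    c.conn - c₀.conn =
      toAbMap (D.π ≫ connEquiv hE c₀ c ≫ KoszTw.tensorMap (iota D) (𝟙 Ω')) := by
  have h := Classical.choose_spec (exists_twist_eq hE c c₀)
  rw [← toAbMap_diffHom, h]
  rfl

end Main

end Groth.Agent.Lib.Helper61.DefoConnBij
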