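import Mathlib
import Groth.Agent.Lib.Helper61.DefoExt
import Groth.Agent.Lib.Helper16.LFRes.Sections
import Groth.Agent.Lib.Helper51.OmegaUniv.SplittingRestrict
import Groth.Agent.Lib.Helper45.SectionHom
import Groth.Agent.Lib.Helper49.FreeMod
/-!
# First-order deformations of a vector bundle are locally trivial (helper61)
-/

set_option autoImplicit false
set_option linter.style.haveILetI false
universe u
open CategoryTheory CategoryTheory.Limits AlgebraicGeometry Opposite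

namespace Groth.Agent.Lib.Helper61.DefoLocTriv

open DefoSh ArtFun ArtFun.Art Groth.Agent.Lib.Helper61.DefoExt Groth.Agent.Lib.Helper49
open Groth.Agent.Lib.Helper45.SectionHom Groth.Agent.Lib.Helper45.RefHullBasic
open Groth.Agent.Lib.Helper51.OmegaUniv

variable {X : Scheme.{u}}

/-- maps out of the structure module are determined by the image of `1` -/
theorem unit_hom_ext {F : X.Modules} (φ ψ : Coh.structureModule X ⟶ F)
    (h : φ.app ⊤ (1 : Γ(X, ⊤)) = ψ.app ⊤ (1 : Γ(X, ⊤))) : φ = ψ := by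
  apply Scheme.Modules.hom_ext
  intro W
  ext a
  exact ((unit_app_eq φ W a).trans (by rw [h])).trans (unit_app_eq ψ W a).symm

theorem sectionHom_comp {F G : X.Modules} (s : Γ(F, ⊤)) (φ : F ⟶ G) :
    sectionHom F s ≫ φ = sectionHom G (φ.app ⊤ s) := by
  apply unit_hom_ext
  rw [sectionHom_app_top_one]
  change φ.app ⊤ ((sectionHom F s).app ⊤ (1 : Γ(X, ⊤))) = _
  rw [sectionHom_app_top_one]

section Abstract

variable {𝒜 : Type*} [Category 𝒜] [Abelian 𝒜]

/-- a short exact sequence `0 → A → B → A → 0` with a section of the projection is isomorphic to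
the split one, compatibly with the nilpotent endomorphisms "project, then include" -/
theorem exists_iso_of_section {A B T : 𝒜} (i : A ⟶ B) (p : B ⟶ A) (w : i ≫ p = 0)
    (hS : (ShortComplex.mk i p w).ShortExact) (s : A ⟶ B) (hs : s ≫ p = 𝟙 A)
    (inl inr : A ⟶ T) (fst snd : T ⟶ A) (h1 : inl ≫ fst = 𝟙 A) (h2 : inl ≫ snd = 0)
    (h3 : inr ≫ fst = 0) (h4 : inr ≫ snd = 𝟙 A) (h5 : fst ≫ inl + snd ≫ inr = 𝟙 T) :
    ∃ e : B ≅ T, e.hom ≫ fst = p ∧ (p ≫ i) ≫ e.hom = e.hom ≫ (fst ≫ inr) := by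
  haveI : Mono i := hS.mono_f
  haveI := hS.mono_f
  have hz : (𝟙 B - p ≫ s) ≫ p = 0 := by
    rw [Preadditive.sub_comp, Category.id_comp, Category.assoc, hs, Category.comp_id, sub_self]
  obtain ⟨r, hr⟩ : ∃ r : B ⟶ A, r ≫ i = 𝟙 B - p ≫ s :=
    ⟨hS.exact.lift _ hz, hS.exact.lift_f _ hz⟩
  have hir : i ≫ r = 𝟙 A := by
    rw [← cancel_mono i, Category.assoc, hr, Preadditive.comp_sub, Category.comp_id,
      ← Category.assoc, w, zero_comp, sub_zero, Category.id_comp]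
  have hsr : s ≫ r = 0 := by
    rw [← cancel_mono i, Category.assoc, hr, Preadditive.comp_sub, Category.comp_id,
      ← Category.assoc, hs, Category.id_comp, sub_self, zero_comp]
  have h1' : ∀ {Z : 𝒜} (f : A ⟶ Z), inl ≫ fst ≫ f = f := fun f => by
    rw [← Category.assoc, h1, Category.id_comp]
  have h2' : ∀ {Z : 𝒜} (f : A ⟶ Z), inl ≫ snd ≫ f = 0 := fun f => by
    rw [← Category.assoc, h2, zero_comp]
  have h3' : ∀ {Z : 𝒜} (f : A ⟶ Z), inr ≫ fst ≫ f = 0 := fun f => by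
    rw [← Category.assoc, h3, zero_comp]
  have h4' : ∀ {Z : 𝒜} (f : A ⟶ Z), inr ≫ snd ≫ f = f := fun f => by
    rw [← Category.assoc, h4, Category.id_comp]
  have hs' : ∀ {Z : 𝒜} (f : A ⟶ Z), s ≫ p ≫ f = f := fun f => by
    rw [← Category.assoc, hs, Category.id_comp]
  have hsr' : ∀ {Z : 𝒜} (f : A ⟶ Z), s ≫ r ≫ f = 0 := fun f => by
    rw [← Category.assoc, hsr, zero_comp]
  have hir' : ∀ {Z : 𝒜} (f : A ⟶ Z), i ≫ r ≫ f = f := fun f => by
    rw [← Category.assoc, hir, Category.id_comp]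
  have w' : ∀ {Z : 𝒜} (f : A ⟶ Z), i ≫ p ≫ f = 0 := fun f => by
    rw [← Category.assoc, w, zero_comp]
  refine ⟨⟨p ≫ inl + r ≫ inr, fst ≫ s + snd ≫ i, ?_, ?_⟩, ?_, ?_⟩
  · simp only [Preadditive.add_comp, Preadditive.comp_add, Category.assoc, h1', h2', h3', h4',
      comp_zero, add_zero, zero_add, hr]
    abel
  · simp only [Preadditive.add_comp, Preadditive.comp_add, Category.assoc, hs', hsr', hir', w',
      comp_zero, add_zero, zero_add]
    exact h5
  · simp only [Preadditive.add_comp, Category.assoc, h1, h3, comp_zero, add_zero,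
      Category.comp_id]
  · simp only [Preadditive.add_comp, Preadditive.comp_add, Category.assoc, w', hir', h1', h3',
      comp_zero, add_zero, zero_add]

end Abstract

section Scalar

variable {k : Type u} [Field k] [X.Over (Spec (CommRingCat.of k))]

/-- the image of a scalar in the functions on an open of an open subscheme -/
noncomputable def cstU (U : X.Opens) (c : k) (W : (↑U : Scheme.{u}).Opens) :
    Γ((↑U : Scheme.{u}), W) :=
  (U.ι.appIso W).hom (X.presheaf.map (homOfLE (le_top : U.ι ''ᵁ W ≤ ⊤)).op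
    (Coh.toGlobal (X ↘ Spec (CommRingCat.of k)) c))

theorem restrict_smul_app {M : X.Modules} (U : X.Opens) (c : k) (W : (↑U : Scheme.{u}).Opens)
    (m : Γ(M.restrict U.ι, W)) :
    ((Scheme.Modules.restrictFunctor U.ι).map (c • 𝟙 M)).app W m = cstU U c W • m := by
  have h1 : ((Scheme.Modules.restrictFunctor U.ι).map (c • 𝟙 M)).app W m =
      (c • 𝟙 M).app (U.ι ''ᵁ W) m := rfl
  have h2 := KLin.smul_app_apply c (𝟙 M) (U.ι ''ᵁ W) m
  have h3 : cstU U c W • m =
      ((U.ι.appIso W).inv (cstU U c W)) • (show Γ(M, U.ι ''ᵁ W) from m) := rfl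
  have h4 : (U.ι.appIso W).inv (cstU U c W) =
      X.presheaf.map (homOfLE (le_top : U.ι ''ᵁ W ≤ ⊤)).op
        (Coh.toGlobal (X ↘ Spec (CommRingCat.of k)) c) :=
    Iso.hom_inv_id_apply (U.ι.appIso W) _
  rw [h3, h4]
  exact h1.trans h2

/-- multiplication by a scalar commutes with every morphism between restricted modules -/
theorem restrict_smul_comm {M N : X.Modules} (U : X.Opens) (c : k)
    (h : M.restrict U.ι ⟶ N.restrict U.ι) :
    (Scheme.Modules.restrictFunctor U.ι).map (c • 𝟙 M) ≫ h =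
      h ≫ (Scheme.Modules.restrictFunctor U.ι).map (c • 𝟙 N) := by
  apply Scheme.Modules.hom_ext
  intro W
  ext m
  change h.app W (((Scheme.Modules.restrictFunctor U.ι).map (c • 𝟙 M)).app W m) =
    ((Scheme.Modules.restrictFunctor U.ι).map (c • 𝟙 N)).app W (h.app W m)
  rw [restrict_smul_app, restrict_smul_app, Scheme.Modules.Hom.app_smul]

end Scalar

section Section

variable {k : Type u} [Field k] [X.Over (Spec (CommRingCat.of k))] {E : X.Modules}

/-- locally, the reduction of a first-order deformation of a vector bundle has a section -/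
theorem exists_section (hE : FlatMod.IsFinLocFree E) (D : Defo E (dual k k)) (x : X) :
    ∃ (U : X.Opens) (s : E.restrict U.ι ⟶ D.sheaf.restrict U.ι), x ∈ U ∧
      s ≫ (Scheme.Modules.restrictFunctor U.ι).map D.π = 𝟙 _ := by
  haveI := isQuasicoherent_of_isFinLocFree E hE
  obtain ⟨U₀, n, hxU₀, ⟨e₀'⟩⟩ := hE x
  obtain ⟨U, hU, hxU, hUU₀⟩ : ∃ U : X.Opens, IsAffineOpen U ∧ x ∈ U ∧ U ≤ U₀ := by
    obtain ⟨_, ⟨V, hV : IsAffineOpen V, rfl⟩, hxV, hVU⟩ :=
      X.isBasis_affineOpens.exists_subset_of_mem_open hxU₀ U₀.2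
    exact ⟨V, hV, hxV, hVU⟩
  let e₀ : E.restrict U.ι ≅ FlatMod.freeMod (↑U) n := isoFreeOfLE hUU₀ E n e₀'
  have hsurj : Function.Surjective (D.π.app U) :=
    Groth.Agent.Lib.Helper16.LFRes.app_surjective_of_shortExact _ (shortExact D) ‹_› hU
  -- basis sections and their lifts
  have hlift : ∀ j : Fin n, ∃ d' : Γ(D.sheaf.restrict U.ι, ⊤),
      ((Scheme.Modules.restrictFunctor U.ι).map D.π).app ⊤ d' =
        e₀.inv.app ⊤ ((freeι (↑U) n j).app ⊤ (1 : Γ((↑U : Scheme.{u}), ⊤))) := by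
    intro j
    obtain ⟨m, hm⟩ := exists_eq_map_top E U
      (e₀.inv.app ⊤ ((freeι (↑U) n j).app ⊤ (1 : Γ((↑U : Scheme.{u}), ⊤))))
    obtain ⟨d, hd⟩ := hsurj m
    refine ⟨D.sheaf.presheaf.map (eqToHom U.ι_image_top).op d, ?_⟩
    rw [restrict_map_app_top, hd, hm]
  choose d' hd' using hlift
  let s₀ : FlatMod.freeMod (↑U) n ⟶ D.sheaf.restrict U.ι :=
    Sigma.desc (fun j => sectionHom (D.sheaf.restrict U.ι) (d' j))
  have hs₀ : s₀ ≫ (Scheme.Modules.restrictFunctor U.ι).map D.π = e₀.inv := by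
    apply Sigma.hom_ext
    intro j
    rw [← Category.assoc]
    have h1 : Sigma.ι (fun _ : Fin n => Coh.structureModule (↑U : Scheme.{u})) j ≫ s₀ =
        sectionHom (D.sheaf.restrict U.ι) (d' j) := Sigma.ι_desc _ _
    rw [h1, sectionHom_comp, hd']
    apply unit_hom_ext
    rw [sectionHom_app_top_one]
    rfl
  refine ⟨U, e₀.hom ≫ s₀, hxU, ?_⟩
  rw [Category.assoc, hs₀, Iso.hom_inv_id]

/-- **local triviality** of a first-order deformation of a finite locally free module -/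
theorem locally_trivial (hE : FlatMod.IsFinLocFree E) (D : Defo E (dual k k)) (x : X) :
    ∃ (U : X.Opens) (e : D.sheaf.restrict U.ι ≅ (Defo.trivDual k E).sheaf.restrict U.ι), x ∈ U ∧
      e.hom ≫ (Scheme.Modules.restrictFunctor U.ι).map (Defo.trivDual k E).π =
        (Scheme.Modules.restrictFunctor U.ι).map D.π ∧
      ∀ a : dual k k, (Scheme.Modules.restrictFunctor U.ι).map (D.act a) ≫ e.hom =
        e.hom ≫ (Scheme.Modules.restrictFunctor U.ι).map ((Defo.trivDual k E).act a) := by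
  obtain ⟨U, s, hxU, hs⟩ := exists_section hE D x
  let F := Scheme.Modules.restrictFunctor U.ι
  haveI : F.Additive := (Scheme.Modules.restrictAdjunction U.ι).left_adjoint_additive
  have hS' : (ShortComplex.mk (F.map (iota D)) (F.map D.π)
      (by rw [← F.map_comp, iota_π, F.map_zero])).ShortExact := (shortExact D).map_of_exact F
  obtain ⟨e, he1, he2⟩ := exists_iso_of_section (F.map (iota D)) (F.map D.π) _ hS' s hs
    (F.map (biprod.inl : E ⟶ E ⊞ E)) (F.map (biprod.inr : E ⟶ E ⊞ E))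
    (F.map (biprod.fst : E ⊞ E ⟶ E)) (F.map (biprod.snd : E ⊞ E ⟶ E))
    (by rw [← F.map_comp, biprod.inl_fst, F.map_id])
    (by rw [← F.map_comp, biprod.inl_snd, F.map_zero])
    (by rw [← F.map_comp, biprod.inr_fst, F.map_zero])
    (by rw [← F.map_comp, biprod.inr_snd, F.map_id])
    (by rw [← F.map_comp, ← F.map_comp, ← F.map_add, biprod.total, F.map_id])
  refine ⟨U, e, hxU, he1, ?_⟩
  intro a
  obtain ⟨c₁, c₂, hD, hT⟩ : ∃ c₁ c₂ : k,
      (D.act a : D.sheaf ⟶ D.sheaf) =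
        c₁ • 𝟙 D.sheaf + (c₂ • 𝟙 D.sheaf) ≫ (D.π ≫ iota D) ∧
      ((Defo.trivDual k E).act a : E ⊞ E ⟶ E ⊞ E) =
        c₁ • 𝟙 (E ⊞ E) + (c₂ • 𝟙 (E ⊞ E)) ≫ ((biprod.fst : E ⊞ E ⟶ E) ≫ biprod.inr) := by
    refine ⟨TrivSqZeroExt.fst (a : DualNumber k), TrivSqZeroExt.snd (a : DualNumber k), ?_, ?_⟩
    · rw [act_eq, Linear.smul_comp, Category.id_comp, π_iota]
    · rw [Linear.smul_comp, Category.id_comp]
      exact dualAct_hom E a
  have he2' : (F.map D.π ≫ F.map (iota D)) ≫ e.hom =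
      e.hom ≫ (F.map (biprod.fst : E ⊞ E ⟶ E) ≫ F.map (biprod.inr : E ⟶ E ⊞ E)) := he2
  have hc₁ : F.map (c₁ • 𝟙 D.sheaf) ≫ e.hom = e.hom ≫ F.map (c₁ • 𝟙 (E ⊞ E)) :=
    restrict_smul_comm U c₁ e.hom
  have hc₂ : F.map (c₂ • 𝟙 D.sheaf) ≫ e.hom = e.hom ≫ F.map (c₂ • 𝟙 (E ⊞ E)) :=
    restrict_smul_comm U c₂ e.hom
  have hL : F.map (D.act a : D.sheaf ⟶ D.sheaf) =
      F.map (c₁ • 𝟙 D.sheaf) + F.map (c₂ • 𝟙 D.sheaf) ≫ (F.map D.π ≫ F.map (iota D)) := by
    rw [← F.map_comp, ← F.map_comp, ← F.map_add]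
    exact congrArg F.map hD
  have hR : F.map ((Defo.trivDual k E).act a : E ⊞ E ⟶ E ⊞ E) =
      F.map (c₁ • 𝟙 (E ⊞ E)) + F.map (c₂ • 𝟙 (E ⊞ E)) ≫
        (F.map (biprod.fst : E ⊞ E ⟶ E) ≫ F.map (biprod.inr : E ⟶ E ⊞ E)) := by
    rw [← F.map_comp, ← F.map_comp, ← F.map_add]
    exact congrArg F.map hT
  have key : (F.map (c₁ • 𝟙 D.sheaf) + F.map (c₂ • 𝟙 D.sheaf) ≫
        (F.map D.π ≫ F.map (iota D))) ≫ e.hom =
      e.hom ≫ (F.map (c₁ • 𝟙 (E ⊞ E)) + F.map (c₂ • 𝟙 (E ⊞ E)) ≫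
        (F.map (biprod.fst : E ⊞ E ⟶ E) ≫ F.map (biprod.inr : E ⟶ E ⊞ E))) := by
    rw [Preadditive.add_comp, Preadditive.comp_add, Category.assoc, he2',
      ← Category.assoc, ← Category.assoc e.hom, hc₁, hc₂]
  exact (congrArg (fun f => f ≫ e.hom) hL).trans
    (key.trans (congrArg (fun f => e.hom ≫ f) hR).symm)

end Section

end Groth.Agent.Lib.Helper61.DefoLocTriv
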