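/-
Helper library (helper61): base change of the pieces of an elementary fibration
(`An.IsElementaryFibration`).
-/
import Mathlib
import Groth.Prelude.Def_AnFib
import Groth.Agent.S9693

set_option autoImplicit false
universe u
open CategoryTheory CategoryTheory.Limits AlgebraicGeometry

namespace Groth.Agent.Lib.Helper61.ElemFibBC

/-- In a pullback square of schemes the range of the first projection is the preimage of the
range. -/
theorem range_of_isPullback {P X Y Z : Scheme.{u}} {a : P ⟶ X} {b : P ⟶ Y} {c : X ⟶ Z}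
    {d : Y ⟶ Z} (sq : IsPullback a b c d) : Set.range a = c ⁻¹' Set.range d := by
  have hsurj : Set.range ⇑sq.isoPullback.hom = Set.univ :=
    Set.range_eq_univ.mpr sq.isoPullback.hom.homeomorph.surjective
  rw [← Scheme.Pullback.range_fst c d, ← sq.isoPullback_hom_fst, Scheme.Hom.comp_base,
    TopCat.coe_comp, Set.range_comp, hsurj, Set.image_univ]

section

variable {X Xb S S' : Scheme.{u}} (f : X ⟶ S) (j : X ⟶ Xb) (fb : Xb ⟶ S) (u : S' ⟶ S)
  (hjf : j ≫ fb = f)

/-- The base change of `j`. -/
noncomputable def jmap : pullback f u ⟶ pullback fb u :=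
  pullback.lift (pullback.fst f u ≫ j) (pullback.snd f u)
    (by rw [Category.assoc, hjf, pullback.condition])

@[reassoc]
theorem jmap_fst : jmap f j fb u hjf ≫ pullback.fst fb u = pullback.fst f u ≫ j :=
  pullback.lift_fst _ _ _

@[reassoc]
theorem jmap_snd : jmap f j fb u hjf ≫ pullback.snd fb u = pullback.snd f u :=
  pullback.lift_snd _ _ _

theorem jmap_isPullback :
    IsPullback (jmap f j fb u hjf) (pullback.fst f u) (pullback.fst fb u) j := by
  refine IsPullback.of_right ?_ (jmap_fst f j fb u hjf) (IsPullback.of_hasPullback fb u).flip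
  rw [jmap_snd, hjf]
  exact (IsPullback.of_hasPullback f u).flip

theorem range_jmap :
    Set.range (jmap f j fb u hjf) = (pullback.fst fb u) ⁻¹' Set.range j :=
  range_of_isPullback (jmap_isPullback f j fb u hjf)

end

set_option backward.isDefEq.respectTransparency false in
/-- Fibrewise density is stable under base change. -/
theorem fibrewise_dense_baseChange {Xb S S' : Scheme.{u}} (fb : Xb ⟶ S) (u : S' ⟶ S)
    (O : Set Xb)
    (hdense : ∀ s : S, fb ⁻¹' {s} ⊆ closure (O ∩ fb ⁻¹' {s})) (s' : S') :
    (pullback.snd fb u) ⁻¹' {s'} ⊆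
      closure ((pullback.fst fb u) ⁻¹' O ∩ (pullback.snd fb u) ⁻¹' {s'}) := by
  set p := pullback.fst fb u
  set fb' := pullback.snd fb u
  -- the map of fibres
  have sq := isPullback_fiberToSpecResidueField_of_isPullback (IsPullback.of_hasPullback fb u) s'
  set r : fb'.fiber s' ⟶ fb.fiber (u s') :=
    pullback.map _ _ _ _ p (Spec.map (u.residueFieldMap s')) u
      (IsPullback.of_hasPullback fb u).w.symm (by simp) with hr
  have hrι : r ≫ fb.fiberι (u s') = fb'.fiberι s' ≫ p := pullback.lift_fst _ _ _
  have hopen : UniversallyOpen r :=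
    MorphismProperty.of_isPullback (P := @UniversallyOpen) sq.flip inferInstance
  have hrO : IsOpenMap r := r.isOpenMap
  -- density in the fibre over `s`
  set D : Set (fb.fiber (u s')) := (fb.fiberι (u s')) ⁻¹' O with hD
  have hDdense : Dense D := by
    intro w
    rw [(fb.fiberι (u s')).isEmbedding.toIsInducing.closure_eq_preimage_closure_image]
    have hw : fb.fiberι (u s') w ∈ fb ⁻¹' {u s'} := by
      rw [← fb.range_fiberι]; exact ⟨w, rfl⟩
    have := hdense (u s') hw
    have himg : (fb.fiberι (u s')) '' D = O ∩ fb ⁻¹' {u s'} := by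
      rw [hD, Set.image_preimage_eq_inter_range, fb.range_fiberι]
    show fb.fiberι (u s') w ∈ closure ((fb.fiberι (u s')) '' D)
    rw [himg]
    exact this
  have hD' : Dense (r ⁻¹' D) := hDdense.preimage hrO
  intro z hz
  have hz' : z ∈ Set.range (fb'.fiberι s') := by rw [fb'.range_fiberι]; exact hz
  obtain ⟨w, rfl⟩ := hz'
  have h1 : fb'.fiberι s' w ∈ (fb'.fiberι s') '' closure (r ⁻¹' D) := ⟨w, hD' w, rfl⟩
  have h2 := image_closure_subset_closure_image (fb'.fiberι s').continuous h1
  refine closure_mono ?_ h2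
  rintro _ ⟨w', hw', rfl⟩
  refine ⟨?_, ?_⟩
  · show p (fb'.fiberι s' w') ∈ O
    have : p (fb'.fiberι s' w') = fb.fiberι (u s') (r w') := by
      rw [← Scheme.Hom.comp_apply, ← Scheme.Hom.comp_apply, hrι]
    rw [this]
    exact hw'
  · have : fb'.fiberι s' w' ∈ Set.range (fb'.fiberι s') := ⟨w', rfl⟩
    rwa [fb'.range_fiberι] at this

end Groth.Agent.Lib.Helper61.ElemFibBC
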