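import Mathlib.AlgebraicGeometry.IdealSheaf.Subscheme
import Mathlib.AlgebraicGeometry.Morphisms.ClosedImmersion
import Mathlib.AlgebraicGeometry.Noetherian
import Mathlib.AlgebraicGeometry.Stalk
import Mathlib.RingTheory.Filtration

/-! A closed subscheme containing all infinitesimal neighbourhoods of a fibre contains an open
neighbourhood of the fibre (locally Noetherian case; helper61). -/

set_option autoImplicit false
universe u
open CategoryTheory CategoryTheory.Limits AlgebraicGeometry Opposite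

namespace Groth.Agent.Lib.Helper61.FibreNhd

variable {X : Scheme.{u}}

theorem app_comp_appLE_aux {R R' : CommRingCat.{u}} (ψ : Spec R ⟶ X) (π : R ⟶ R') (V : X.Opens)
    (ρ : Γ(X, V) ⟶ R)
    (hψ : ψ.app V = ρ ≫ (Scheme.ΓSpecIso R).inv ≫ (Spec R).presheaf.map (homOfLE le_top).op)
    (e : (⊤ : (Spec R').Opens) ≤ Spec.map π ⁻¹ᵁ (ψ ⁻¹ᵁ V)) :
    ψ.app V ≫ (Spec.map π).appLE (ψ ⁻¹ᵁ V) ⊤ e = ρ ≫ π ≫ (Scheme.ΓSpecIso R').inv := by
  rw [hψ]
  simp only [Category.assoc, Scheme.Hom.map_appLE]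
  rw [Scheme.ΓSpecIso_inv_naturality]
  rfl

theorem appLE_comp_aux {R R' : CommRingCat.{u}} (ψ : Spec R ⟶ X) (π : R ⟶ R') (V : X.Opens)
    (ρ : Γ(X, V) ⟶ R)
    (hψ : ψ.app V = ρ ≫ (Scheme.ΓSpecIso R).inv ≫ (Spec R).presheaf.map (homOfLE le_top).op)
    (e : (⊤ : (Spec R').Opens) ≤ (Spec.map π ≫ ψ) ⁻¹ᵁ V) :
    (Spec.map π ≫ ψ).appLE V ⊤ e = ρ ≫ π ≫ (Scheme.ΓSpecIso R').inv :=
  (Scheme.Hom.comp_appLE _ _ _ _ e).trans (app_comp_appLE_aux ψ π V ρ hψ e)

theorem appLE_quot_fromSpecStalk (x : X) (J : Ideal (X.presheaf.stalk x)) (V : X.Opens)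
    (hxV : x ∈ V)
    (e : (⊤ : (Spec (CommRingCat.of (X.presheaf.stalk x ⧸ J))).Opens) ≤
      (Spec.map (CommRingCat.ofHom (Ideal.Quotient.mk J)) ≫ X.fromSpecStalk x) ⁻¹ᵁ V) :
    (Spec.map (CommRingCat.ofHom (Ideal.Quotient.mk J)) ≫ X.fromSpecStalk x).appLE V ⊤ e =
      X.presheaf.germ V x hxV ≫ CommRingCat.ofHom (Ideal.Quotient.mk J) ≫
        (Scheme.ΓSpecIso (CommRingCat.of (X.presheaf.stalk x ⧸ J))).inv :=
  appLE_comp_aux (X.fromSpecStalk x) (CommRingCat.ofHom (Ideal.Quotient.mk J)) V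
    (X.presheaf.germ V x hxV) (Scheme.fromSpecStalk_app hxV) e

/-- If `Spec (O_x / J) ⟶ X` factors through the closed subscheme `V(I)`, then the germs at `x` of
sections of `I` lie in `J`. -/
theorem germ_mem_of_factors (I : X.IdealSheafData) (x : X) (J : Ideal (X.presheaf.stalk x))
    (g : Spec (CommRingCat.of (X.presheaf.stalk x ⧸ J)) ⟶ I.subscheme)
    (hg : g ≫ I.subschemeι =
      Spec.map (CommRingCat.ofHom (Ideal.Quotient.mk J)) ≫ X.fromSpecStalk x)
    (V : X.affineOpens) (hxV : x ∈ V.1) (s : Γ(X, V.1)) (hs : s ∈ I.ideal V) :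
    X.presheaf.germ V.1 x hxV s ∈ J := by
  obtain ⟨φ, hφ⟩ : ∃ φ : Spec (CommRingCat.of (X.presheaf.stalk x ⧸ J)) ⟶ X,
    φ = Spec.map (CommRingCat.ofHom (Ideal.Quotient.mk J)) ≫ X.fromSpecStalk x := ⟨_, rfl⟩
  rw [← hφ] at hg
  have h1 : I ≤ φ.ker := by
    rw [← hg]
    conv_lhs => rw [← I.ker_subschemeι]
    exact Scheme.Hom.le_ker_comp g I.subschemeι
  have h2 : s ∈ RingHom.ker (φ.app V.1).hom := φ.ideal_ker_le V (h1 V hs)
  rw [RingHom.mem_ker] at h2
  -- the preimage of `V` is everything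
  have hW : φ ⁻¹ᵁ V.1 = ⊤ := by
    rw [eq_top_iff]
    intro z _
    have hz : φ z ⤳ x := by
      have : φ z ∈ Set.range (X.fromSpecStalk x) := by
        rw [hφ, Scheme.Hom.comp_apply]
        exact ⟨_, rfl⟩
      rw [Scheme.range_fromSpecStalk] at this
      exact this
    exact hz.mem_open V.1.2 hxV
  have e : (⊤ : (Spec (CommRingCat.of (X.presheaf.stalk x ⧸ J))).Opens) ≤ φ ⁻¹ᵁ V.1 := hW.ge
  have h3 : (φ.appLE V.1 ⊤ e).hom s = 0 := by
    rw [Scheme.Hom.appLE, CommRingCat.hom_comp, RingHom.comp_apply, h2, map_zero]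
  have h4 : φ.appLE V.1 ⊤ e = X.presheaf.germ V.1 x hxV ≫
      CommRingCat.ofHom (Ideal.Quotient.mk J) ≫
        (Scheme.ΓSpecIso (CommRingCat.of (X.presheaf.stalk x ⧸ J))).inv := by
    subst hφ
    exact appLE_quot_fromSpecStalk x J V.1 hxV e
  rw [h4] at h3
  simp only [CommRingCat.hom_comp, RingHom.comp_apply] at h3
  have h5 : Function.Injective
      (Scheme.ΓSpecIso (CommRingCat.of (X.presheaf.stalk x ⧸ J))).inv.hom :=
    (ConcreteCategory.bijective_of_isIso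
      (Scheme.ΓSpecIso (CommRingCat.of (X.presheaf.stalk x ⧸ J))).inv).1
  have h6 := h5 (h3.trans (map_zero _).symm)
  exact Ideal.Quotient.eq_zero_iff_mem.mp h6

variable {S : Scheme.{u}}

/-- If all infinitesimal neighbourhoods of the fibre through `x` factor through `V(I)`, the germs at
`x` of sections of `I` vanish. -/
theorem germ_eq_zero [IsLocallyNoetherian X] (p : X ⟶ S) (I : X.IdealSheafData) (x : X)
    (h : ∀ n : ℕ, ∃ g : pullback p (Spec.map (CommRingCat.ofHom (Ideal.Quotient.mk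
        (IsLocalRing.maximalIdeal ↑(S.presheaf.stalk (p.base x)) ^ (n + 1)))) ≫
          S.fromSpecStalk (p.base x)) ⟶ I.subscheme,
        g ≫ I.subschemeι = pullback.fst p _)
    (V : X.affineOpens) (hxV : x ∈ V.1) (s : Γ(X, V.1)) (hs : s ∈ I.ideal V) :
    X.presheaf.germ V.1 x hxV s = 0 := by
  have hmem : ∀ n : ℕ, X.presheaf.germ V.1 x hxV s ∈
      IsLocalRing.maximalIdeal (X.presheaf.stalk x) ^ (n + 1) := by
    intro n
    obtain ⟨g, hg⟩ := h n
    let 𝔪 := IsLocalRing.maximalIdeal ↑(S.presheaf.stalk (p.base x))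
    let J : Ideal (X.presheaf.stalk x) := Ideal.map (p.stalkMap x).hom (𝔪 ^ (n + 1))
    let ψ : (↑(S.presheaf.stalk (p.base x)) ⧸ 𝔪 ^ (n + 1)) →+* (↑(X.presheaf.stalk x) ⧸ J) :=
      Ideal.quotientMap J (p.stalkMap x).hom Ideal.le_comap_map
    have hsq : CommRingCat.ofHom (Ideal.Quotient.mk (𝔪 ^ (n + 1))) ≫ CommRingCat.ofHom ψ =
        p.stalkMap x ≫ CommRingCat.ofHom (Ideal.Quotient.mk J) := by
      ext a
      rfl
    have hcomm : (Spec.map (CommRingCat.ofHom (Ideal.Quotient.mk J)) ≫ X.fromSpecStalk x) ≫ p =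
        Spec.map (CommRingCat.ofHom ψ) ≫
          (Spec.map (CommRingCat.ofHom (Ideal.Quotient.mk (𝔪 ^ (n + 1)))) ≫
            S.fromSpecStalk (p.base x)) := by
      rw [Category.assoc, ← Scheme.SpecMap_stalkMap_fromSpecStalk, ← Category.assoc,
        ← Category.assoc, ← Spec.map_comp, ← Spec.map_comp, hsq]
      rfl
    let l := pullback.lift (Spec.map (CommRingCat.ofHom (Ideal.Quotient.mk J)) ≫ X.fromSpecStalk x)
      (Spec.map (CommRingCat.ofHom ψ)) hcomm
    have hl : (l ≫ g) ≫ I.subschemeι =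
        Spec.map (CommRingCat.ofHom (Ideal.Quotient.mk J)) ≫ X.fromSpecStalk x := by
      rw [Category.assoc, hg]
      exact pullback.lift_fst _ _ _
    have h1 := germ_mem_of_factors I x J (l ≫ g) hl V hxV s hs
    have h2 : J ≤ IsLocalRing.maximalIdeal (X.presheaf.stalk x) ^ (n + 1) := by
      change Ideal.map (p.stalkMap x).hom (𝔪 ^ (n + 1)) ≤ _
      rw [Ideal.map_pow]
      refine Ideal.pow_right_mono ?_ (n + 1)
      exact IsLocalRing.map_maximalIdeal_le (p.stalkMap x).hom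
    exact h2 h1
  have hkrull := Ideal.iInf_pow_eq_bot_of_isLocalRing
    (IsLocalRing.maximalIdeal (X.presheaf.stalk x))
    (IsLocalRing.maximalIdeal.isMaximal _).ne_top
  have : X.presheaf.germ V.1 x hxV s ∈
      ⨅ i, IsLocalRing.maximalIdeal (X.presheaf.stalk x) ^ i := by
    rw [Ideal.mem_iInf]
    intro i
    rcases i with _ | i
    · rw [pow_zero, Ideal.one_eq_top]; trivial
    · exact hmem i
  rw [hkrull] at this
  exact this

/-- If the germs at `x` of all sections of `I` vanish, `I` vanishes on an affine neighbourhood. -/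
theorem exists_affine_ideal_eq_bot [IsLocallyNoetherian X] (I : X.IdealSheafData) (x : X)
    (h : ∀ (V : X.affineOpens) (hxV : x ∈ V.1) (s : Γ(X, V.1)), s ∈ I.ideal V →
      X.presheaf.germ V.1 x hxV s = 0) :
    ∃ W : X.affineOpens, x ∈ W.1 ∧ I.ideal W = ⊥ := by
  classical
  obtain ⟨_, ⟨V, hV, rfl⟩, hxV, -⟩ :=
    X.isBasis_affineOpens.exists_subset_of_mem_open (Set.mem_univ x) isOpen_univ
  let V' : X.affineOpens := ⟨V, hV⟩
  have hN : IsNoetherianRing Γ(X, V) := IsLocallyNoetherian.component_noetherian V'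
  obtain ⟨T, hT⟩ := (isNoetherianRing_iff_ideal_fg _).mp hN (I.ideal V')
  have key : ∀ T' : Finset Γ(X, V), (∀ s ∈ T', s ∈ I.ideal V') →
      ∃ O : X.Opens, x ∈ O ∧ ∃ hO : O ≤ V, ∀ s ∈ T', X.presheaf.map (homOfLE hO).op s = 0 := by
    intro T'
    induction T' using Finset.induction_on with
    | empty =>
      intro _
      exact ⟨V, hxV, le_rfl, by simp⟩
    | insert a T' ha ih =>
      intro hmem
      obtain ⟨O, hxO, hO, hO0⟩ := ih (fun s hs => hmem s (Finset.mem_insert_of_mem hs))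
      have hg := h V' hxV a (hmem a (Finset.mem_insert_self _ _))
      obtain ⟨W, hxW, iU, iV, hW⟩ := X.presheaf.germ_eq x hxV hxV a 0 (by rw [hg, map_zero])
      rw [map_zero] at hW
      refine ⟨O ⊓ W, ⟨hxO, hxW⟩, inf_le_left.trans hO, ?_⟩
      intro s hs
      rcases Finset.mem_insert.mp hs with rfl | hs
      · have h1 : X.presheaf.map (homOfLE (inf_le_left.trans hO : O ⊓ W ≤ V)).op =
            X.presheaf.map iU.op ≫ X.presheaf.map (homOfLE (inf_le_right : O ⊓ W ≤ W)).op := by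
          rw [← Functor.map_comp]
          rfl
        rw [h1, CommRingCat.comp_apply, hW, map_zero]
      · have h1 : X.presheaf.map (homOfLE (inf_le_left.trans hO : O ⊓ W ≤ V)).op =
            X.presheaf.map (homOfLE hO).op ≫
              X.presheaf.map (homOfLE (inf_le_left : O ⊓ W ≤ O)).op := by
          rw [← Functor.map_comp]
          rfl
        rw [h1, CommRingCat.comp_apply, hO0 s hs, map_zero]
  obtain ⟨O, hxO, hO, hO0⟩ := key T (fun s hs => hT ▸ Ideal.subset_span hs)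
  obtain ⟨_, ⟨W, hW, rfl⟩, hxW, hWO⟩ :=
    X.isBasis_affineOpens.exists_subset_of_mem_open hxO O.2
  refine ⟨⟨W, hW⟩, hxW, ?_⟩
  have hWV : (⟨W, hW⟩ : X.affineOpens) ≤ V' := (show W ≤ O from hWO).trans hO
  rw [← I.map_ideal hWV, ← hT, Ideal.map_span, Ideal.span_eq_bot]
  rintro _ ⟨s, hs, rfl⟩
  have h1 : X.presheaf.map (homOfLE hWV).op =
      X.presheaf.map (homOfLE hO).op ≫ X.presheaf.map (homOfLE (show W ≤ O from hWO)).op := by
    rw [← Functor.map_comp]
    rfl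
  rw [h1, CommRingCat.hom_comp, RingHom.comp_apply, hO0 s hs, map_zero]

/-- An open subscheme on which `I` vanishes locally factors through `V(I)`. -/
theorem exists_lift_of_ideal_eq_bot (I : X.IdealSheafData) (U : X.Opens)
    (hU : ∀ x ∈ U, ∃ W : X.affineOpens, x ∈ W.1 ∧ I.ideal W = ⊥) :
    ∃ g : (U : Scheme.{u}) ⟶ I.subscheme, g ≫ I.subschemeι = U.ι := by
  have hle : I.subschemeι.ker ≤ U.ι.ker := by
    rw [I.ker_subschemeι]
    refine Scheme.IdealSheafData.le_ofIdeals_iff.mpr ?_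
    intro V s hs
    rw [RingHom.mem_ker]
    have hle' : U.ι ''ᵁ U.ι ⁻¹ᵁ V.1 ≤ V.1 := Set.image_preimage_subset _ _
    have h0 : (U.ι.app V.1).hom s = X.presheaf.map (homOfLE hle').op s := rfl
    rw [h0]
    apply TopCat.Presheaf.section_ext X.sheaf (U.ι ''ᵁ U.ι ⁻¹ᵁ V.1)
    intro y hy
    refine Eq.trans ?_ (map_zero _).symm
    have hyU : y ∈ U := by
      obtain ⟨z, -, rfl⟩ := hy
      exact z.2
    have hyV : y ∈ V.1 := hle' hy
    obtain ⟨W, hyW, hW⟩ := hU y hyU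
    obtain ⟨_, ⟨D, hD, rfl⟩, hyD, hDVW⟩ :=
      X.isBasis_affineOpens.exists_subset_of_mem_open (show y ∈ (V.1 ⊓ W.1 : X.Opens) from
        ⟨hyV, hyW⟩) (V.1 ⊓ W.1).2
    have hDV : (⟨D, hD⟩ : X.affineOpens) ≤ V := fun z hz => (hDVW hz).1
    have hDW : (⟨D, hD⟩ : X.affineOpens) ≤ W := fun z hz => (hDVW hz).2
    have h1 : X.presheaf.map (homOfLE hDV).op s ∈ I.ideal ⟨D, hD⟩ :=
      I.ideal_le_comap_ideal hDV hs
    rw [← I.map_ideal hDW, hW, Ideal.map_bot, Ideal.mem_bot] at h1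
    refine (X.presheaf.germ_res_apply (homOfLE hle') y hy s).trans ?_
    have h2 : X.presheaf.germ D y hyD (X.presheaf.map (homOfLE hDV).op s) = 0 := by
      rw [h1, map_zero]
    exact (X.presheaf.germ_res_apply (homOfLE hDV) y hyD s).symm.trans h2
  exact ⟨IsClosedImmersion.lift I.subschemeι U.ι hle, IsClosedImmersion.lift_fac _ _ _⟩

end Groth.Agent.Lib.Helper61.FibreNhd
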