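import Mathlib.AlgebraicGeometry.Morphisms.Finite
import Mathlib.AlgebraicGeometry.Morphisms.QuasiSeparated
import Mathlib.RingTheory.Ideal.GoingUp

/-! Fibre of a finite morphism `g : Z ⟶ X` over `x` versus maximal ideals of `(g_* O_Z)_x`
(helper61). -/

set_option autoImplicit false
universe u

open CategoryTheory AlgebraicGeometry TopologicalSpace

namespace Groth.Agent.Lib.Helper61.FiniteFibre

variable {Z X : Scheme.{u}} (g : Z ⟶ X)

/-- The canonical map `(g_* O_Z)_x ⟶ O_{Z,z}` for `z` over `x`. -/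
noncomputable def psi (x : X) (z : Z) (hz : g.base z = x) :
    (g.base _* Z.presheaf).stalk x ⟶ Z.presheaf.stalk z :=
  ((g.base _* Z.presheaf).stalkCongr (Inseparable.of_eq hz)).inv ≫
    TopCat.Presheaf.stalkPushforward CommRingCat g.base Z.presheaf z

lemma mem_preimage_of_eq {x : X} {z : Z} (hz : g.base z = x) {W : X.Opens} (hxW : x ∈ W) :
    z ∈ g ⁻¹ᵁ W := by
  subst hz; exact hxW

lemma germ_psi (x : X) (z : Z) (hz : g.base z = x) (W : X.Opens) (hxW : x ∈ W)
    (s : Γ(Z, g ⁻¹ᵁ W)) :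
    (psi g x z hz).hom ((g.base _* Z.presheaf).germ W x hxW s) =
      Z.presheaf.germ (g ⁻¹ᵁ W) z (mem_preimage_of_eq g hz hxW) s := by
  subst hz
  have h1 := TopCat.Presheaf.stalkPushforward_germ CommRingCat g.base Z.presheaf W z hxW
  have h2 : (g.base _* Z.presheaf).germ W (g.base z) hxW ≫ psi g (g.base z) z rfl =
      Z.presheaf.germ (g ⁻¹ᵁ W) z hxW := by
    rw [psi, TopCat.Presheaf.stalkCongr_inv, ← Category.assoc]
    erw [TopCat.Presheaf.germ_stalkSpecializes]
    exact h1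
  exact ConcreteCategory.congr_hom h2 s

/-- Membership of a germ in the comap of the maximal ideal. -/
lemma germ_mem_comap_iff (x : X) (z : Z) (hz : g.base z = x) (W : X.Opens) (hxW : x ∈ W)
    (s : Γ(Z, g ⁻¹ᵁ W)) :
    (g.base _* Z.presheaf).germ W x hxW s ∈
        Ideal.comap (psi g x z hz).hom (IsLocalRing.maximalIdeal (Z.presheaf.stalk z)) ↔
      z ∉ Z.basicOpen s := by
  rw [Ideal.mem_comap, germ_psi, IsLocalRing.mem_maximalIdeal, mem_nonunits_iff,
    Scheme.mem_basicOpen _ _ _ (mem_preimage_of_eq g hz hxW)]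

/-- The structure map `O_{X,x} ⟶ (g_* O_Z)_x`. -/
noncomputable def theta (x : X) : X.presheaf.stalk x ⟶ (g.base _* Z.presheaf).stalk x :=
  (TopCat.Presheaf.stalkFunctor CommRingCat x).map g.c

lemma theta_germ (x : X) (W : X.Opens) (hxW : x ∈ W) (a : Γ(X, W)) :
    (theta g x).hom (X.presheaf.germ W x hxW a) =
      (g.base _* Z.presheaf).germ W x hxW ((g.app W).hom a) := by
  have h := TopCat.Presheaf.stalkFunctor_map_germ W x hxW g.c
  exact ConcreteCategory.congr_hom h a

lemma theta_isIntegral [IsIntegralHom g] (x : X) : (theta g x).hom.IsIntegral := by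
  intro c
  obtain ⟨W, hxW, s, rfl⟩ := TopCat.Presheaf.exists_germ_eq (g.base _* Z.presheaf) c
  obtain ⟨W', hW', hxW', hW'W⟩ := (Opens.isBasis_iff_nbhd.mp X.isBasis_affineOpens) hxW
  have hs : (g.base _* Z.presheaf).germ W x hxW s =
      (g.base _* Z.presheaf).germ W' x hxW' ((g.base _* Z.presheaf).map (homOfLE hW'W).op s) :=
    (TopCat.Presheaf.germ_res_apply _ (homOfLE hW'W) x hxW' s).symm
  rw [hs]
  generalize (g.base _* Z.presheaf).map (homOfLE hW'W).op s = s'
  have hint : (g.app W').hom.IsIntegralElem s' := g.isIntegral_app W' hW' s'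
  have h1 := hint.map ((g.base _* Z.presheaf).germ W' x hxW').hom
  have h2 : (((g.base _* Z.presheaf).germ W' x hxW').hom.comp (g.app W').hom) =
      (theta g x).hom.comp (X.presheaf.germ W' x hxW').hom := by
    ext a
    exact (theta_germ g x W' hxW' a).symm
  rw [h2] at h1
  exact h1.of_comp

lemma comap_theta_comap_psi (x : X) (z : Z) (hz : g.base z = x) :
    Ideal.comap (theta g x).hom
        (Ideal.comap (psi g x z hz).hom (IsLocalRing.maximalIdeal (Z.presheaf.stalk z))) =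
      IsLocalRing.maximalIdeal (X.presheaf.stalk x) := by
  ext a
  obtain ⟨W, hxW, a', rfl⟩ := TopCat.Presheaf.exists_germ_eq X.presheaf a
  rw [Ideal.mem_comap, theta_germ, germ_mem_comap_iff, ← Scheme.preimage_basicOpen,
    IsLocalRing.mem_maximalIdeal, mem_nonunits_iff, ← Scheme.mem_basicOpen _ _ _ hxW]
  subst hz
  rfl

lemma isMaximal_comap_psi [IsIntegralHom g] (x : X) (z : Z) (hz : g.base z = x) :
    (Ideal.comap (psi g x z hz).hom (IsLocalRing.maximalIdeal (Z.presheaf.stalk z))).IsMaximal := by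
  haveI : (Ideal.comap (psi g x z hz).hom
      (IsLocalRing.maximalIdeal (Z.presheaf.stalk z))).IsPrime := Ideal.comap_isPrime _ _
  apply Ideal.isMaximal_of_isIntegral_of_isMaximal_comap' (theta g x).hom (theta_isIntegral g x)
  rw [comap_theta_comap_psi]
  exact IsLocalRing.maximalIdeal.isMaximal _

lemma comap_theta_of_isMaximal [IsIntegralHom g] (x : X)
    (n : Ideal ((g.base _* Z.presheaf).stalk x)) [n.IsMaximal] :
    Ideal.comap (theta g x).hom n = IsLocalRing.maximalIdeal (X.presheaf.stalk x) :=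
  IsLocalRing.eq_maximalIdeal
    (Ideal.isMaximal_comap_of_isIntegral_of_isMaximal' (theta g x).hom (theta_isIntegral g x) n)

lemma exists_basicOpen_separating {V : Z.Opens} (hV : IsAffineOpen V) {z z' : Z}
    (hz : z ∈ V) (hz' : z' ∈ V) (hne : z ≠ z') :
    ∃ b : Γ(Z, V), ¬ (z ∈ Z.basicOpen b ↔ z' ∈ Z.basicOpen b) := by
  by_contra h
  push Not at h
  apply hne
  apply Inseparable.eq
  rw [inseparable_iff_forall_isOpen]
  intro O hO
  constructor
  · intro hzO
    obtain ⟨f, hf1, hf2⟩ := hV.exists_basicOpen_le (V := ⟨O, hO⟩) ⟨z, hzO⟩ hz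
    exact hf1 ((h f).mp hf2)
  · intro hzO
    obtain ⟨f, hf1, hf2⟩ := hV.exists_basicOpen_le (V := ⟨O, hO⟩) ⟨z', hzO⟩ hz'
    exact hf1 ((h f).mpr hf2)

lemma comap_psi_injective [IsAffineHom g] (x : X) (z z' : Z) (hz : g.base z = x)
    (hz' : g.base z' = x)
    (h : Ideal.comap (psi g x z hz).hom (IsLocalRing.maximalIdeal (Z.presheaf.stalk z)) =
      Ideal.comap (psi g x z' hz').hom (IsLocalRing.maximalIdeal (Z.presheaf.stalk z'))) :
    z = z' := by
  by_contra hne
  obtain ⟨U, hU, hxU, -⟩ :=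
    (Opens.isBasis_iff_nbhd.mp X.isBasis_affineOpens) (show x ∈ (⊤ : X.Opens) from trivial)
  have hV : IsAffineOpen (g ⁻¹ᵁ U) := hU.preimage g
  obtain ⟨b, hb⟩ := exists_basicOpen_separating hV (mem_preimage_of_eq g hz hxU)
    (mem_preimage_of_eq g hz' hxU) hne
  apply hb
  rw [← not_iff_not, ← germ_mem_comap_iff g x z hz U hxU b,
    ← germ_mem_comap_iff g x z' hz' U hxU b, h]

/-- Every element of `(g_* O_Z)_x` is a fraction `b / a^k` with `a` a function on an affine
neighbourhood `U` of `x` not vanishing at `x`, and `b` a function on `g⁻¹ U`. -/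
lemma exists_repr [IsAffineHom g] (x : X) (U : X.Opens) (hU : IsAffineOpen U) (hxU : x ∈ U)
    (c : (g.base _* Z.presheaf).stalk x) :
    ∃ (a : Γ(X, U)) (b : Γ(Z, g ⁻¹ᵁ U)) (k : ℕ), x ∈ X.basicOpen a ∧
      c * ((g.base _* Z.presheaf).germ U x hxU ((g.app U).hom a)) ^ k =
        (g.base _* Z.presheaf).germ U x hxU b := by
  obtain ⟨W, hxW, s, rfl⟩ := TopCat.Presheaf.exists_germ_eq (g.base _* Z.presheaf) c
  obtain ⟨a, haW, hxa⟩ := hU.exists_basicOpen_le ⟨x, hxW⟩ hxU
  have hV : IsAffineOpen (g ⁻¹ᵁ U) := hU.preimage g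
  have haU : X.basicOpen a ≤ U := X.basicOpen_le a
  have e' : Z.basicOpen ((g.app U).hom a) = g ⁻¹ᵁ X.basicOpen a :=
    (Scheme.preimage_basicOpen g a).symm
  set t' : Γ(Z, g ⁻¹ᵁ X.basicOpen a) := (g.base _* Z.presheaf).map (homOfLE haW).op s with ht'
  obtain ⟨k, b, hb⟩ := exists_eq_pow_mul_of_isAffineOpen Z (g ⁻¹ᵁ U) hV ((g.app U).hom a)
    (Z.presheaf.map (eqToHom e').op t')
  refine ⟨a, b, k, hxa, ?_⟩
  have h1 : (g.base _* Z.presheaf).germ W x hxW s =
      (g.base _* Z.presheaf).germ (X.basicOpen a) x hxa t' :=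
    (TopCat.Presheaf.germ_res_apply _ (homOfLE haW) x hxa s).symm
  have h2 : ∀ r : Γ(Z, g ⁻¹ᵁ U), (g.base _* Z.presheaf).germ U x hxU r =
      (g.base _* Z.presheaf).germ (X.basicOpen a) x hxa
        ((g.base _* Z.presheaf).map (homOfLE haU).op r) :=
    fun r => (TopCat.Presheaf.germ_res_apply (g.base _* Z.presheaf) (homOfLE haU) x hxa r).symm
  rw [h1, h2, h2, ← map_pow, ← map_mul]
  congr 1
  have hb' := congrArg (Z.presheaf.map (eqToHom e'.symm).op).hom hb
  rw [map_mul, map_pow] at hb'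
  have h3 : ∀ r : Γ(Z, g ⁻¹ᵁ U), (Z.presheaf.map (eqToHom e'.symm).op).hom
      (r |_ Z.basicOpen ((g.app U).hom a)) = (g.base _* Z.presheaf).map (homOfLE haU).op r := by
    intro r
    change (Z.presheaf.map (eqToHom e'.symm).op).hom ((Z.presheaf.map _).hom r) = _
    rw [← CommRingCat.comp_apply, ← Functor.map_comp]
    rfl
  have h4 : (Z.presheaf.map (eqToHom e'.symm).op).hom
      ((Z.presheaf.map (eqToHom e').op).hom t') = t' := by
    rw [← CommRingCat.comp_apply, ← Functor.map_comp]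
    have : (eqToHom e').op ≫ (eqToHom e'.symm).op = 𝟙 _ := rfl
    rw [this, Z.presheaf.map_id]
    rfl
  rw [h3, h3, h4] at hb'
  rw [hb', mul_comm]

lemma exists_point_of_isMaximal [IsIntegralHom g] (x : X)
    (n : Ideal ((g.base _* Z.presheaf).stalk x)) [hn : n.IsMaximal] :
    ∃ (z : Z) (hz : g.base z = x),
      Ideal.comap (psi g x z hz).hom (IsLocalRing.maximalIdeal (Z.presheaf.stalk z)) = n := by
  obtain ⟨U, hU, hxU, -⟩ :=
    (Opens.isBasis_iff_nbhd.mp X.isBasis_affineOpens) (show x ∈ (⊤ : X.Opens) from trivial)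
  have hV : IsAffineOpen (g ⁻¹ᵁ U) := hU.preimage g
  set germU := ((g.base _* Z.presheaf).germ U x hxU) with hgermU
  set q : Ideal Γ(Z, g ⁻¹ᵁ U) := Ideal.comap germU.hom n with hq
  haveI : q.IsPrime := Ideal.comap_isPrime _ _
  set z : Z := hV.fromSpec.base ⟨q, inferInstance⟩ with hz_def
  have hzV : z ∈ g ⁻¹ᵁ U := by
    have : z ∈ Set.range hV.fromSpec.base := ⟨_, rfl⟩
    rw [hV.range_fromSpec] at this; exact this
  have hzb : ∀ b : Γ(Z, g ⁻¹ᵁ U), z ∈ Z.basicOpen b ↔ b ∉ q := by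
    intro b
    have : (⟨q, inferInstance⟩ : PrimeSpectrum _) ∈ hV.fromSpec ⁻¹ᵁ Z.basicOpen b ↔ b ∉ q := by
      rw [hV.fromSpec_preimage_basicOpen]; rfl
    exact this
  have hgz : g.base z = x := by
    by_contra hne
    obtain ⟨a, ha⟩ := exists_basicOpen_separating (Z := X) hU (show g.base z ∈ U from hzV) hxU hne
    apply ha
    have h1 : g.base z ∈ X.basicOpen a ↔ z ∈ Z.basicOpen ((g.app U).hom a) := by
      rw [← Scheme.preimage_basicOpen]; rfl
    rw [h1, hzb, hq, Ideal.mem_comap, ← theta_germ g x U hxU a, ← Ideal.mem_comap,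
      comap_theta_of_isMaximal, IsLocalRing.mem_maximalIdeal, mem_nonunits_iff, not_not,
      ← Scheme.mem_basicOpen _ _ _ hxU]
  refine ⟨z, hgz, ?_⟩
  have hmax := isMaximal_comap_psi g x z hgz
  symm
  apply hn.eq_of_le hmax.ne_top
  intro c hc
  obtain ⟨a, b, k, hxa, hcab⟩ := exists_repr g x U hU hxU c
  have hb : germU.hom b ∈ n := by rw [← hcab]; exact Ideal.mul_mem_right _ _ hc
  have hbq : b ∈ q := hb
  have hzb' : z ∉ Z.basicOpen b := by rw [hzb]; exact not_not.mpr hbq
  have hb2 := (germ_mem_comap_iff g x z hgz U hxU b).mpr hzb'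
  rw [← hcab] at hb2
  rcases hmax.isPrime.mem_or_mem hb2 with h | h
  · exact h
  · exfalso
    have h' := hmax.isPrime.mem_of_pow_mem _ h
    rw [germ_mem_comap_iff] at h'
    apply h'
    rw [← Scheme.preimage_basicOpen]
    change g.base z ∈ X.basicOpen a
    rw [hgz]; exact hxa

theorem bijOn [IsFinite g] (x : X) :
    Set.BijOn (fun z : {z : Z // g.base z = x} =>
        Ideal.comap (((g.base _* Z.presheaf).stalkCongr (Inseparable.of_eq z.2)).inv ≫
            TopCat.Presheaf.stalkPushforward CommRingCat g.base Z.presheaf z.1).hom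
          (IsLocalRing.maximalIdeal (Z.presheaf.stalk z.1)))
      Set.univ {I : Ideal ((g.base _* Z.presheaf).stalk x) | I.IsMaximal} := by
  refine ⟨?_, ?_, ?_⟩
  · intro z _
    exact isMaximal_comap_psi g x z.1 z.2
  · intro z _ z' _ h
    exact Subtype.ext (comap_psi_injective g x z.1 z'.1 z.2 z'.2 h)
  · intro n hn
    haveI : n.IsMaximal := hn
    obtain ⟨z, hz, h⟩ := exists_point_of_isMaximal g x n
    exact ⟨⟨z, hz⟩, trivial, h⟩

end Groth.Agent.Lib.Helper61.FiniteFibre
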