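import Mathlib
import Groth.Agent.Lib.Helper31.PureIdeal

/-!
# Flat closed subschemes and generization-stable closed subsets (Stacks 04PW)

Scheme version of the bijection between pure ideals and closed subsets stable under generalization.
-/

set_option autoImplicit false
universe u
open CategoryTheory AlgebraicGeometry TopologicalSpace

namespace Groth.Agent.Lib.Helper61.FlatClosed

open Groth.Agent.Lib.Helper31.PureIdeal

section Alg
variable {R S : Type u} [CommRing R] [CommRing S]

/-- Pure ideals extend to pure ideals. -/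
theorem pure_map (φ : R →+* S) (I : Ideal R) (hI : I.Pure) : (I.map φ).Pure := by
  have := hI
  apply pure_of_forall_exists_eq_mul
  have : I.map φ ≤ idealOf (I.map φ) := by
    rw [Ideal.map_le_iff_le_comap]
    intro a ha
    obtain ⟨y, hy, hay⟩ := Ideal.exists_eq_mul_of_pure (I := I) ha
    exact ⟨φ y, Ideal.mem_map_of_mem φ hy, by rw [← map_mul, ← hay]⟩
  intro x hx
  exact this hx

theorem flat_mk_iff_pure (I : Ideal R) : (Ideal.Quotient.mk I).Flat ↔ I.Pure := by
  rw [← Ideal.Quotient.algebraMap_eq, RingHom.flat_algebraMap_iff]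

end Alg

variable {X : Scheme.{u}}

theorem pure_ideal_of_flat (I : X.IdealSheafData) [Flat I.subschemeι] (U : X.affineOpens) :
    (I.ideal U).Pure := by
  have h1 : (I.subschemeι.appLE U (I.subschemeι ⁻¹ᵁ U) le_rfl).hom.Flat :=
    Scheme.Hom.flat_appLE I.subschemeι U.2 (U.2.preimage I.subschemeι) le_rfl
  rw [Scheme.Hom.appLE_eq_app, I.subschemeι_app U] at h1
  rw [← flat_mk_iff_pure]
  rw [CommRingCat.hom_comp] at h1
  rwa [RingHom.Flat.comp_iff_of_bijective_left] at h1
  exact (ConcreteCategory.bijective_of_isIso (I.subschemeObjIso U).inv)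


theorem flat_of_pure_ideal (I : X.IdealSheafData) (h : ∀ U : X.affineOpens, (I.ideal U).Pure) :
    Flat I.subschemeι := by
  have hQ : RingHom.StableUnderCompositionWithLocalizationAwaySource RingHom.Flat := by
    intro R S T _ _ _ _ r _ f hf
    exact (RingHom.Flat.holdsForLocalizationAway S r).comp hf
  rw [HasRingHomProperty.iff_exists_appLE (P := @Flat) hQ]
  intro x
  obtain ⟨_, ⟨U, hU, rfl⟩, hxU, -⟩ :=
    X.isBasis_affineOpens.exists_subset_of_mem_open (Set.mem_univ (I.subschemeι x)) isOpen_univ
  refine ⟨⟨U, hU⟩, ⟨I.subschemeι ⁻¹ᵁ U, hU.preimage I.subschemeι⟩, hxU, le_rfl, ?_⟩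
  rw [Scheme.Hom.appLE_eq_app, I.subschemeι_app ⟨U, hU⟩, CommRingCat.hom_comp,
    RingHom.Flat.comp_iff_of_bijective_left
      (ConcreteCategory.bijective_of_isIso (I.subschemeObjIso ⟨U, hU⟩).inv)]
  exact (flat_mk_iff_pure _).mpr (h ⟨U, hU⟩)

/-- Zero locus of `I.ideal U` in `Spec Γ(X, U)` is the preimage of the support. -/
theorem zeroLocus_ideal_eq (I : X.IdealSheafData) (U : X.affineOpens) :
    PrimeSpectrum.zeroLocus (I.ideal U : Set Γ(X, U)) = U.2.fromSpec ⁻¹' (I.support : Set X) := by
  rw [← U.2.fromSpec_preimage_zeroLocus]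
  ext p
  have hp : U.2.fromSpec p ∈ U.1 := by
    have := U.2.range_fromSpec ▸ Set.mem_range_self (f := U.2.fromSpec) p
    exact this
  simp only [Set.mem_preimage, SetLike.mem_coe]
  rw [I.mem_support_iff_of_mem hp]

theorem eq_of_flat_of_support_eq (I J : X.IdealSheafData) [Flat I.subschemeι] [Flat J.subschemeι]
    (h : I.support = J.support) : I = J := by
  ext U : 2
  have := pure_ideal_of_flat I U
  have := pure_ideal_of_flat J U
  rw [← Ideal.zeroLocus_inj_of_pure, zeroLocus_ideal_eq, zeroLocus_ideal_eq, h]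


section Construct

variable (Z : Set X) (hZ : IsClosed Z) (hgen : StableUnderGeneralization Z)

include hZ hgen in
theorem exists_pure_ideal (U : X.affineOpens) : ∃ I : Ideal Γ(X, U), I.Pure ∧
    PrimeSpectrum.zeroLocus (I : Set Γ(X, U)) = U.2.fromSpec ⁻¹' Z :=
  exists_pure_zeroLocus_eq _ (hZ.preimage U.2.fromSpec.continuous)
    (hgen.preimage U.2.fromSpec.continuous)

/-- The pure ideal on the affine open `U` cutting out `Z ∩ U`. -/
noncomputable def idealFun (U : X.affineOpens) : Ideal Γ(X, U) :=
  (exists_pure_ideal Z hZ hgen U).choose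

theorem idealFun_pure (U : X.affineOpens) : (idealFun Z hZ hgen U).Pure :=
  (exists_pure_ideal Z hZ hgen U).choose_spec.1

theorem zeroLocus_idealFun (U : X.affineOpens) :
    PrimeSpectrum.zeroLocus (idealFun Z hZ hgen U : Set Γ(X, U)) = U.2.fromSpec ⁻¹' Z :=
  (exists_pure_ideal Z hZ hgen U).choose_spec.2

theorem idealFun_map_of_le (U V : X.affineOpens) (h : V.1 ≤ U.1) :
    (idealFun Z hZ hgen U).map (X.presheaf.map (homOfLE h).op).hom = idealFun Z hZ hgen V := by
  have h1 := pure_map (X.presheaf.map (homOfLE h).op).hom _ (idealFun_pure Z hZ hgen U)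
  have h2 := idealFun_pure Z hZ hgen V
  rw [← Ideal.zeroLocus_inj_of_pure, zeroLocus_idealFun, Ideal.map, PrimeSpectrum.zeroLocus_span,
    ← PrimeSpectrum.preimage_comap_zeroLocus, zeroLocus_idealFun]
  have := U.2.map_fromSpec V.2 (homOfLE h).op
  rw [← this]
  rfl

theorem idealFun_map (U : X.affineOpens) (f : Γ(X, U)) :
    (idealFun Z hZ hgen U).map (X.presheaf.map (homOfLE <| X.basicOpen_le f).op).hom =
      idealFun Z hZ hgen (X.affineBasicOpen f) :=
  idealFun_map_of_le Z hZ hgen U (X.affineBasicOpen f) (X.basicOpen_le f)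

/-- The ideal sheaf of the flat closed subscheme structure on a closed subset stable under
generalization. -/
noncomputable def idealSheaf : X.IdealSheafData :=
  Scheme.IdealSheafData.mkOfMemSupportIff (idealFun Z hZ hgen) (idealFun_map Z hZ hgen) Z (by
    intro U x hxU
    obtain ⟨p, rfl⟩ : x ∈ Set.range U.2.fromSpec := U.2.range_fromSpec ▸ hxU
    have := zeroLocus_idealFun Z hZ hgen U
    rw [← U.2.fromSpec_preimage_zeroLocus] at this
    exact (Set.ext_iff.mp this p).symm)

theorem flat_idealSheaf : Flat (idealSheaf Z hZ hgen).subschemeι :=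
  flat_of_pure_ideal _ (fun U => idealFun_pure Z hZ hgen U)

theorem coe_support_idealSheaf : ((idealSheaf Z hZ hgen).support : Set X) = Z := rfl

end Construct

/-- A flat surjective closed immersion is an isomorphism. -/
theorem isIso_of_flat_of_surjective_of_isClosedImmersion {P Y : Scheme.{u}} (f : P ⟶ Y)
    [IsClosedImmersion f] [Flat f] [Surjective f] : IsIso f := by
  rw [IsClosedImmersion.isIso_iff_ker_eq_bot]
  have h1 : Flat f.ker.subschemeι := by
    have : f.imageι = inv f.toImage ≫ f := by simp
    change Flat f.imageι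
    rw [this]
    infer_instance
  have h2 : Flat (⊥ : Y.IdealSheafData).subschemeι := inferInstance
  apply eq_of_flat_of_support_eq
  apply TopologicalSpace.Closeds.ext
  rw [Scheme.Hom.support_ker, Scheme.IdealSheafData.support_bot, f.surjective.range_eq]
  simp

/-- Morphisms landing set-theoretically in a flat closed subscheme factor through it. -/
theorem exists_lift_of_flat (I : X.IdealSheafData) [Flat I.subschemeι] {Y : Scheme.{u}} (g : Y ⟶ X)
    (hg : Set.range g ⊆ (I.support : Set X)) : ∃ g' : Y ⟶ I.subscheme, g' ≫ I.subschemeι = g := by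
  have : Surjective (Limits.pullback.snd I.subschemeι g) := by
    constructor
    intro y
    have hy : g y ∈ Set.range I.subschemeι := by
      rw [I.range_subschemeι]; exact hg ⟨y, rfl⟩
    obtain ⟨z, hz⟩ := hy
    obtain ⟨w, -, hw⟩ := Scheme.Pullback.exists_preimage_pullback z y hz
    exact ⟨w, hw⟩
  have : IsIso (Limits.pullback.snd I.subschemeι g) :=
    isIso_of_flat_of_surjective_of_isClosedImmersion _
  refine ⟨inv (Limits.pullback.snd I.subschemeι g) ≫ Limits.pullback.fst I.subschemeι g, ?_⟩
  rw [Category.assoc, Limits.pullback.condition, IsIso.inv_hom_id_assoc]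

end Groth.Agent.Lib.Helper61.FlatClosed
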