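import Mathlib
import Groth.Agent.Lib.Helper61.GU5

/-!
# Kernels of localizations of flat quasi-finite reduced algebras over a domain (helper61)

`exists_not_mem_forall_mul_eq_zero`: if `C` is flat, quasi-finite and reduced over a domain `A`
(e.g. étale), then for any prime `𝔮` of `C`, the kernel of `C → C_𝔮` is killed by a single element
`h ∉ 𝔮`. (`C` has only finitely many minimal primes, all lying over `(0)`.)
-/

set_option autoImplicit false
set_option linter.style.haveILetI false
universe u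

namespace Groth.Agent.Lib.Helper61.GU

open TensorProduct IsLocalRing

theorem exists_not_mem_forall_mul_eq_zero {A C : Type u} [CommRing A] [IsDomain A] [CommRing C]
    [Algebra A C] [Module.Flat A C] [Algebra.QuasiFinite A C] [IsReduced C]
    (𝔮 : Ideal C) [𝔮.IsPrime] :
    ∃ h : C, h ∉ 𝔮 ∧ ∀ x : C, (∃ s : C, s ∉ 𝔮 ∧ s * x = 0) → h * x = 0 := by
  classical
  have hfin : ((⊥ : Ideal A).primesOver C).Finite := Algebra.QuasiFinite.finite_primesOver ⊥
  let T : Finset (Ideal C) := hfin.toFinset.filter (fun P => ¬ P ≤ 𝔮)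
  have hch : ∀ P : Ideal C, ¬ P ≤ 𝔮 → ∃ y ∈ P, y ∉ 𝔮 := fun P hP => by
    simpa [SetLike.le_def] using hP
  choose! c hcP hcq using hch
  refine ⟨∏ P ∈ T, c P, ?_, ?_⟩
  · intro hmem
    obtain ⟨P, hPT, hP⟩ := (Ideal.IsPrime.prod_mem_iff (hp := ‹𝔮.IsPrime›)).mp hmem
    exact hcq P (Finset.mem_filter.mp hPT).2 hP
  · rintro x ⟨s, hs, hsx⟩
    have hnil : (∏ P ∈ T, c P) * x ∈ nilradical C := by
      rw [nilradical_eq_sInf, Ideal.mem_sInf]
      intro Q hQ
      haveI : Q.IsPrime := hQ
      haveI : Q.LiesOver (Q.under A) := ⟨rfl⟩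
      obtain ⟨P, hPQ, hPprime, hPover⟩ :=
        Ideal.exists_ideal_le_liesOver_of_le (p := (⊥ : Ideal A)) (q := Q.under A) Q bot_le
      by_cases hle : P ≤ 𝔮
      · have : s * x ∈ P := hsx ▸ P.zero_mem
        rcases hPprime.mem_or_mem this with h1 | h1
        · exact absurd (hle h1) hs
        · exact Q.mul_mem_left _ (hPQ h1)
      · have hPT : P ∈ T := by
          refine Finset.mem_filter.mpr ⟨?_, hle⟩
          rw [Set.Finite.mem_toFinset]
          exact ⟨hPprime, hPover⟩
        have h1 : c P ∈ P := hcP P hle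
        have h2 : (∏ P ∈ T, c P) ∈ P := Ideal.mem_of_dvd _ (Finset.dvd_prod_of_mem c hPT) h1
        exact Q.mul_mem_right _ (hPQ h2)
    rw [nilradical_eq_zero] at hnil
    exact hnil

end Groth.Agent.Lib.Helper61.GU
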