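import Mathlib
import Groth.Agent.S2136
import Groth.Agent.Lib.Helper14.EtaleNhd
import Groth.Agent.Lib.Helper24.SmoothNormalStalk

/-!
# Unramified + injective on stalks over a geometrically unibranch point of an integral scheme
(helper61)

Scheme-level consequence of `Groth.Agent.S2136.result` (finite type only, no finite presentation):
`exists_etale_nhd_of_stalkMap_of_geomUnibranch`.
-/

set_option autoImplicit false
universe u
open CategoryTheory CategoryTheory.Limits AlgebraicGeometry TopologicalSpace

namespace Groth.Agent.Lib.Helper61.GU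

/-- Ring-hom form of `Groth.Agent.S2136.result`. -/
theorem exists_etale_away_of_localRingHom_of_isGeomUnibranch {R B : Type u} [CommRing R]
    [IsDomain R] [CommRing B]
    (φ : R →+* B) (hφ : φ.FiniteType) (Q : Ideal B) [Q.IsPrime] (p : Ideal R) [p.IsPrime]
    (hpQ : p = Q.comap φ) (hgu : CAlg2.IsGeomUnibranch (Localization.AtPrime p))
    (hinj : Function.Injective (Localization.localRingHom p Q φ hpQ))
    (hun : (Localization.localRingHom p Q φ hpQ).FormallyUnramified) :
    ∃ b ∉ Q, ((algebraMap B (Localization.Away b)).comp φ).Etale := by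
  algebraize [φ]
  have hcomp : algebraMap R (Localization.AtPrime Q) =
      (Localization.localRingHom p Q φ hpQ).comp (algebraMap R (Localization.AtPrime p)) := by
    ext x
    rw [RingHom.comp_apply, Localization.localRingHom_to_map,
      IsScalarTower.algebraMap_apply R B (Localization.AtPrime Q)]
    rfl
  have h2 : Algebra.IsUnramifiedAt R Q := by
    show Algebra.FormallyUnramified R (Localization.AtPrime Q)
    rw [← RingHom.formallyUnramified_algebraMap, hcomp]
    refine RingHom.FormallyUnramified.comp ?_ hun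
    rw [RingHom.formallyUnramified_algebraMap]
    exact Algebra.FormallyUnramified.of_isLocalization p.primeCompl
  have h3 : Q.LiesOver p := ⟨hpQ⟩
  have h4 : Algebra.FiniteType R B := hφ
  obtain ⟨b, hbQ, hb⟩ := Groth.Agent.S2136.result Q p hgu hinj
  refine ⟨b, hbQ, ?_⟩
  have : (algebraMap B (Localization.Away b)).comp φ = algebraMap R (Localization.Away b) := by
    rw [IsScalarTower.algebraMap_eq R B (Localization.Away b)]
    rfl
  rw [this, RingHom.etale_algebraMap]
  exact hb

set_option backward.isDefEq.respectTransparency.types false in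
/-- Let `Y` be integral, `f : X ⟶ Y` locally of finite type, `x` a point such that the local ring
of `Y` at `f x` is geometrically unibranch, and the stalk map at `x` is injective and formally
unramified. Then `f` is étale on an open neighbourhood of `x`. -/
theorem exists_etale_nhd_of_stalkMap_of_isGeomUnibranch {X Y : Scheme.{u}} (f : X ⟶ Y)
    [IsIntegral Y] [LocallyOfFiniteType f] (x : X)
    (hY : CAlg2.IsGeomUnibranch (Y.presheaf.stalk (f x)))
    (hinj : Function.Injective (f.stalkMap x).hom)
    (hun : (f.stalkMap x).hom.FormallyUnramified) :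
    ∃ V : X.Opens, x ∈ V ∧ Etale (V.ι ≫ f) := by
  obtain ⟨U, hU, hyU, -⟩ := Opens.isBasis_iff_nbhd.mp Y.isBasis_affineOpens
    (Opens.mem_top (f x))
  obtain ⟨W, hW, hyW, e⟩ := Opens.isBasis_iff_nbhd.mp X.isBasis_affineOpens
    (show x ∈ f ⁻¹ᵁ U from hyU)
  have iso := IsAffineOpen.arrowStalkMapIso f U hU W hW e hyW
  have hun' := (RingHom.FormallyUnramified.respectsIso.arrow_mk_iso_iff iso).1 hun
  have hinj' := (RingHom.injective_respectsIso.arrow_mk_iso_iff iso).1 hinj
  have hft : (f.appLE U W e).hom.FiniteType := f.finiteType_appLE hU hW e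
  have : Nonempty U := ⟨⟨f x, hyU⟩⟩
  have hdomU : IsDomain Γ(Y, U) := inferInstance
  obtain ⟨e1⟩ := Groth.Agent.Lib.Helper24.stalk_ringEquiv_atPrime hU (f x) (e hyW)
  have hdomp : IsDomain (Localization.AtPrime (hU.primeIdealOf ⟨f x, e hyW⟩).asIdeal) :=
    inferInstance
  have hdoms : IsDomain (Y.presheaf.stalk (f x)) := e1.toMulEquiv.isDomain _
  have hgu : CAlg2.IsGeomUnibranch
      (Localization.AtPrime (hU.primeIdealOf ⟨f x, e hyW⟩).asIdeal) :=
    Groth.Agent.Lib.Helper61.GU.isGeomUnibranch_of_ringEquiv e1 hY
  obtain ⟨b, hbQ, hb⟩ := exists_etale_away_of_localRingHom_of_isGeomUnibranch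
    (f.appLE U W e).hom hft
    (hW.primeIdealOf ⟨x, hyW⟩).asIdeal (hU.primeIdealOf ⟨f x, e hyW⟩).asIdeal
    (congr($(IsAffineOpen.comap_primeIdealOf_appLE U hU W hW e hyW).1).symm) hgu hinj' hun'
  refine ⟨X.basicOpen b, ?_, ?_⟩
  · have h1 : hW.primeIdealOf ⟨x, hyW⟩ ∈ hW.fromSpec ⁻¹ᵁ X.basicOpen b := by
      rw [hW.fromSpec_preimage_basicOpen]; exact hbQ
    have h2 : hW.fromSpec (hW.primeIdealOf ⟨x, hyW⟩) ∈ X.basicOpen b := h1
    rwa [hW.fromSpec_primeIdealOf ⟨x, hyW⟩] at h2
  · have hV : IsAffineOpen (X.basicOpen b) := hW.basicOpen b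
    have e' : X.basicOpen b ≤ f ⁻¹ᵁ U := (X.basicOpen_le b).trans e
    rw [← Scheme.Hom.resLE_comp_ι f e']
    suffices Etale (f.resLE U (X.basicOpen b) e') from inferInstance
    have : IsAffine U := hU
    have : IsAffine (X.basicOpen b) := hV
    rw [HasRingHomProperty.iff_of_isAffine (P := @Etale),
      RingHom.Etale.respectsIso.arrow_mk_iso_iff (arrowResLEAppIso f U (X.basicOpen b) e')]
    have hloc := hW.isLocalization_basicOpen b
    have := RingHom.Etale.respectsIso.1 _ (IsLocalization.algEquiv (Submonoid.powers b)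
      (Localization.Away b) Γ(X, X.basicOpen b)).toRingEquiv hb
    convert this using 1
    ext x
    rw [← Scheme.Hom.appLE_map f e (homOfLE (X.basicOpen_le b)).op]
    exact ((IsLocalization.algEquiv (Submonoid.powers b) (Localization.Away b)
      Γ(X, X.basicOpen b)).commutes _).symm

/-- On an integral scheme the specialization maps between stalks are injective. -/
theorem stalkSpecializes_injective_of_isIntegral {Y : Scheme.{u}} [IsIntegral Y] {y' y : Y}
    (h : y' ⤳ y) : Function.Injective (Y.presheaf.stalkSpecializes h).hom := by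
  rw [injective_iff_map_eq_zero]
  intro t ht
  obtain ⟨U, hyU, s, rfl⟩ := Y.presheaf.exists_germ_eq (x := y) t
  have hy'U : y' ∈ U := h.mem_open U.2 hyU
  have h1 : (Y.presheaf.germ U y' hy'U).hom s = 0 := by
    rw [← ht, ← CommRingCat.comp_apply, TopCat.Presheaf.germ_stalkSpecializes]
  have hs : s = 0 := germ_injective_of_isIntegral Y y' hy'U (by rw [h1, map_zero])
  rw [hs, map_zero]

/-- If some generization of `x` maps to the generic point of the integral scheme `Y`, then the
stalk map at `x` is injective. -/
theorem stalkMap_injective_of_exists_generization {X Y : Scheme.{u}} (f : X ⟶ Y) [IsIntegral Y]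
    (x : X) (hsp : ∃ x' : X, x' ⤳ x ∧ f x' = genericPoint ↑Y) :
    Function.Injective (f.stalkMap x).hom := by
  obtain ⟨x', hx'x, hx'η⟩ := hsp
  have key : ∀ y : Y, y = genericPoint Y → ∀ (R : CommRingCat.{u}) [Nontrivial R]
      (g : Y.presheaf.stalk y ⟶ R), Function.Injective g.hom := by
    rintro y rfl R _ g
    exact (g.hom : Y.functionField →+* R).injective
  have hsq := Scheme.Hom.stalkSpecializes_stalkMap f x' x hx'x
  have h1 := stalkSpecializes_injective_of_isIntegral (f.base.hom.map_specializes hx'x)
  have h2 : Function.Injective (f.stalkMap x').hom := key _ hx'η _ _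
  have h3 : Function.Injective (f.stalkMap x ≫ X.presheaf.stalkSpecializes hx'x).hom := by
    rw [← hsq]
    exact h2.comp h1
  exact Function.Injective.of_comp h3

end Groth.Agent.Lib.Helper61.GU
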