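import Mathlib

set_option autoImplicit false
universe u
open CategoryTheory AlgebraicGeometry TopologicalSpace

namespace Groth.Agent.Lib.Helper61.GeomFibUnram

/-- A reduced finite type algebra with discrete spectrum over an algebraically closed field is
formally unramified. -/
theorem formallyUnramified_of_isReduced_of_discrete (K A : Type u) [Field K] [IsAlgClosed K]
    [CommRing A] [Algebra K A] [Algebra.FiniteType K A] [IsReduced A]
    [DiscreteTopology (PrimeSpectrum A)] : Algebra.FormallyUnramified K A := by
  have hN : IsNoetherianRing A := Algebra.FiniteType.isNoetherianRing K A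
  have hd : Ring.KrullDimLE 0 A :=
    (PrimeSpectrum.discreteTopology_iff_finite_and_krullDimLE_zero.mp inferInstance).2
  have hA : IsArtinianRing A := isArtinianRing_iff_isNoetherianRing_krullDimLE_zero.mpr ⟨hN, hd⟩
  have hfin : Module.Finite K A := (Module.finite_iff_isArtinianRing K A).mpr hA
  let e := (IsArtinianRing.equivPi A).restrictScalars K
  let _ (m : MaximalSpectrum A) : Field (A ⧸ m.asIdeal) := Ideal.Quotient.field m.asIdeal
  have (m : MaximalSpectrum A) : Algebra.FormallyUnramified K (A ⧸ m.asIdeal) := by
    have : Module.Finite K (A ⧸ m.asIdeal) := inferInstance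
    have : Algebra.IsSeparable K (A ⧸ m.asIdeal) := inferInstance
    exact Algebra.FormallyUnramified.of_isSeparable K _
  exact Algebra.FormallyUnramified.of_equiv e.symm

/-- A finite type formally unramified algebra over a field is reduced with discrete spectrum. -/
theorem isReduced_and_discrete_of_formallyUnramified (K A : Type u) [Field K]
    [CommRing A] [Algebra K A] [Algebra.FiniteType K A] [Algebra.FormallyUnramified K A] :
    IsReduced A ∧ DiscreteTopology (PrimeSpectrum A) := by
  have h1 := Algebra.FormallyUnramified.isReduced_of_field K A
  have h2 := Algebra.FormallyUnramified.finite_of_free K A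
  have : IsArtinianRing A := isArtinian_of_tower K inferInstance
  exact ⟨h1, inferInstance⟩

end Groth.Agent.Lib.Helper61.GeomFibUnram
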