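import Mathlib
import Groth.Agent.Lib.Helper61.GeomFibUnram1

set_option autoImplicit false
universe u
open CategoryTheory CategoryTheory.Limits AlgebraicGeometry TopologicalSpace

namespace Groth.Agent.Lib.Helper61.GeomFibUnram

set_option backward.isDefEq.respectTransparency.types false in
/-- A scheme locally of finite type and formally unramified over a field is reduced and
discrete. -/
theorem isReduced_and_discrete_of_formallyUnramified_field (K : Type u) [Field K]
    {Z : Scheme.{u}} (g : Z ⟶ Spec (CommRingCat.of K)) [LocallyOfFiniteType g]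
    [FormallyUnramified g] : IsReduced Z ∧ DiscreteTopology Z := by
  let 𝒰 := Z.affineOpenCover
  have key : ∀ i : 𝒰.I₀, IsReduced (Spec (𝒰.X i)) ∧ DiscreteTopology (Spec (𝒰.X i)) := by
    intro i
    have : IsOpenImmersion (𝒰.f i) := 𝒰.map_prop i
    let φ := Spec.preimage (𝒰.f i ≫ g)
    have hφ : Spec.map φ = 𝒰.f i ≫ g := Spec.map_preimage _
    have h1 : FormallyUnramified (Spec.map φ) := by
      rw [hφ]; exact IsZariskiLocalAtSource.comp (P := @FormallyUnramified) inferInstance _
    have h2 : LocallyOfFiniteType (Spec.map φ) := by rw [hφ]; infer_instance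
    have h1' : φ.hom.FormallyUnramified :=
      (HasRingHomProperty.Spec_iff (P := @FormallyUnramified)).mp h1
    have h2' : φ.hom.FiniteType := (HasRingHomProperty.Spec_iff (P := @LocallyOfFiniteType)).mp h2
    algebraize [φ.hom]
    obtain ⟨hr, hd⟩ := isReduced_and_discrete_of_formallyUnramified K (𝒰.X i)
    exact ⟨(affine_isReduced_iff _).mpr hr, hd⟩
  constructor
  · have : ∀ i, IsReduced (𝒰.openCover.X i) := fun i => (key i).1
    exact IsReduced.of_openCover Z 𝒰.openCover
  · rw [discreteTopology_iff_isOpen_singleton]
    intro z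
    obtain ⟨y, hy⟩ := 𝒰.openCover.covers z
    have : DiscreteTopology ↥(𝒰.openCover.X (𝒰.openCover.idx z)) := (key (𝒰.openCover.idx z)).2
    have : IsOpenImmersion (𝒰.openCover.f (𝒰.openCover.idx z)) := 𝒰.openCover.map_prop _
    have h := (𝒰.openCover.f (𝒰.openCover.idx z)).isOpenEmbedding.isOpenMap _
      (isOpen_discrete {y})
    rwa [Set.image_singleton, hy] at h

set_option backward.isDefEq.respectTransparency.types false in
/-- A reduced discrete scheme locally of finite type over an algebraically closed field is
formally unramified. -/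
theorem formallyUnramified_of_isReduced_of_discrete_field (K : Type u) [Field K] [IsAlgClosed K]
    {Z : Scheme.{u}} (g : Z ⟶ Spec (CommRingCat.of K)) [LocallyOfFiniteType g]
    [IsReduced Z] [DiscreteTopology Z] : FormallyUnramified g := by
  let 𝒰 := Z.affineOpenCover
  refine IsZariskiLocalAtSource.of_openCover (P := @FormallyUnramified) 𝒰.openCover fun i => ?_
  have : IsOpenImmersion (𝒰.f i) := 𝒰.map_prop i
  change FormallyUnramified (𝒰.f i ≫ g)
  let φ := Spec.preimage (𝒰.f i ≫ g)
  have hφ : Spec.map φ = 𝒰.f i ≫ g := Spec.map_preimage _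
  have h2 : LocallyOfFiniteType (Spec.map φ) := by rw [hφ]; infer_instance
  have h2' : φ.hom.FiniteType := (HasRingHomProperty.Spec_iff (P := @LocallyOfFiniteType)).mp h2
  rw [← hφ, HasRingHomProperty.Spec_iff (P := @FormallyUnramified)]
  algebraize [φ.hom]
  have hr : IsReduced (𝒰.X i) := by
    have : IsReduced (Spec (𝒰.X i)) := isReduced_of_isOpenImmersion (𝒰.f i)
    exact (affine_isReduced_iff _).mp this
  have hd : DiscreteTopology (PrimeSpectrum (𝒰.X i)) :=
    DiscreteTopology.of_continuous_injective (𝒰.f i).continuous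
      (𝒰.f i).isOpenEmbedding.injective
  exact formallyUnramified_of_isReduced_of_discrete K (𝒰.X i)

end Groth.Agent.Lib.Helper61.GeomFibUnram
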