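import Mathlib

/-!
# Lifting along local square-zero thickenings and stalk maps (helper61)

* `PB I g₀`: the pullback algebra `C ×_{S/I} S` of `g₀ : C →ₐ S ⧸ I`; it is local when `C` is and
  `I` is nilpotent, `p₁ : PB → C` is surjective with square-zero kernel when `I ^ 2 = ⊥`, and lifts
  of `g₀` to `S` are the same as sections of `p₁`.
* scheme glue: morphisms `Spec R ⟶ X` from a local ring through `X.fromSpecStalk x`.
-/

set_option autoImplicit false
universe u

namespace Groth.Agent.Lib.Helper61.LocalLift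

open IsLocalRing

section general

/-- units lift along a surjection with nilpotent kernel. -/
theorem isUnit_of_isUnit_map {P C : Type*} [CommRing P] [CommRing C] (π : P →+* C)
    (hπ : Function.Surjective π) (hk : IsNilpotent (RingHom.ker π)) {z : P}
    (hz : IsUnit (π z)) : IsUnit z := by
  obtain ⟨c, hc⟩ := hz.exists_right_inv
  obtain ⟨w, rfl⟩ := hπ c
  have hmem : z * w - 1 ∈ RingHom.ker π := by
    rw [RingHom.mem_ker, map_sub, map_mul, hc, map_one, sub_self]
  obtain ⟨n, hn⟩ := hk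
  have hnil : IsNilpotent (z * w - 1) := by
    refine ⟨n, ?_⟩
    have := Ideal.pow_mem_pow hmem n
    rw [hn] at this
    simpa using this
  have hu : IsUnit (z * w) := by
    have := hnil.isUnit_add_one
    simpa using this
  exact isUnit_of_mul_isUnit_left hu

/-- a ring surjecting onto a local ring with nilpotent kernel is local. -/
theorem isLocalRing_of_surjective_of_isNilpotent_ker {P C : Type*} [CommRing P] [CommRing C]
    [IsLocalRing C] (π : P →+* C) (hπ : Function.Surjective π)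
    (hk : IsNilpotent (RingHom.ker π)) : IsLocalRing P := by
  have : Nontrivial P := by
    refine ⟨⟨0, 1, fun h => ?_⟩⟩
    have := congrArg π h
    rw [map_zero, map_one] at this
    exact zero_ne_one this
  refine IsLocalRing.of_isUnit_or_isUnit_one_sub_self fun a => ?_
  rcases IsLocalRing.isUnit_or_isUnit_one_sub_self (π a) with h | h
  · exact Or.inl (isUnit_of_isUnit_map π hπ hk h)
  · refine Or.inr (isUnit_of_isUnit_map π hπ hk ?_)
    rwa [map_sub, map_one]

/-- a surjection of local rings is a local homomorphism. -/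
theorem isLocalHom_of_surjective {P C : Type*} [CommRing P] [CommRing C]
    [IsLocalRing P] [IsLocalRing C] (π : P →+* C) (hπ : Function.Surjective π) :
    IsLocalHom π := by
  refine ⟨fun a ha => ?_⟩
  by_contra hna
  have hmem : a ∈ maximalIdeal P := (mem_maximalIdeal a).mpr hna
  obtain ⟨c, hc⟩ := ha.exists_right_inv
  obtain ⟨w, rfl⟩ := hπ c
  have h1 : a * w ∈ maximalIdeal P := Ideal.mul_mem_right _ _ hmem
  have h2 : IsUnit (1 - a * w) := by
    by_contra h
    have h3 : 1 - a * w ∈ maximalIdeal P := (mem_maximalIdeal _).mpr h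
    have : (1 : P) ∈ maximalIdeal P := by
      have := Ideal.add_mem _ h3 h1
      simp at this
    exact (maximalIdeal.isMaximal P).ne_top ((Ideal.eq_top_iff_one _).mpr this)
  have h4 : π (1 - a * w) = 0 := by rw [map_sub, map_mul, hc, map_one, sub_self]
  have := h2.map π
  rw [h4] at this
  exact not_isUnit_zero this

end general

section pullback

variable {A₀ C S : Type u} [CommRing A₀] [CommRing C] [CommRing S] [Algebra A₀ C] [Algebra A₀ S]
  (I : Ideal S) (g₀ : C →ₐ[A₀] S ⧸ I)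

/-- the pullback algebra `C ×_{S/I} S`. -/
def PB : Subalgebra A₀ (C × S) :=
  AlgHom.equalizer (g₀.comp (AlgHom.fst A₀ C S))
    ((Ideal.Quotient.mkₐ A₀ I).comp (AlgHom.snd A₀ C S))

theorem mem_PB (z : C × S) : z ∈ PB I g₀ ↔ g₀ z.1 = Ideal.Quotient.mk I z.2 := Iff.rfl

/-- first projection. -/
def p₁ : PB I g₀ →ₐ[A₀] C := (AlgHom.fst A₀ C S).comp (PB I g₀).val

/-- second projection. -/
def p₂ : PB I g₀ →ₐ[A₀] S := (AlgHom.snd A₀ C S).comp (PB I g₀).val

theorem p₁_apply (z : PB I g₀) : p₁ I g₀ z = z.1.1 := rfl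
theorem p₂_apply (z : PB I g₀) : p₂ I g₀ z = z.1.2 := rfl

theorem mk_p₂ (z : PB I g₀) : Ideal.Quotient.mk I (p₂ I g₀ z) = g₀ (p₁ I g₀ z) := z.2.symm

theorem p₁_surjective : Function.Surjective (p₁ I g₀) := fun c => by
  obtain ⟨s, hs⟩ := Ideal.Quotient.mk_surjective (g₀ c)
  exact ⟨⟨(c, s), hs.symm⟩, rfl⟩

theorem snd_mem_of_mem_ker {a : PB I g₀} (ha : a ∈ RingHom.ker (p₁ I g₀ : PB I g₀ →+* C)) :
    a.1.2 ∈ I := by
  have h1 : a.1.1 = 0 := ha
  have h2 := a.2
  rw [mem_PB, h1, map_zero] at h2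
  exact Ideal.Quotient.eq_zero_iff_mem.mp h2.symm

theorem ker_p₁_sq (hI : I ^ 2 = ⊥) : RingHom.ker (p₁ I g₀ : PB I g₀ →+* C) ^ 2 = ⊥ := by
  rw [eq_bot_iff, pow_two, Ideal.mul_le]
  intro a ha b hb
  rw [Ideal.mem_bot]
  have ha1 : a.1.1 = 0 := ha
  apply Subtype.ext
  apply Prod.ext
  · show a.1.1 * b.1.1 = 0
    rw [ha1, zero_mul]
  · show a.1.2 * b.1.2 = 0
    have : a.1.2 * b.1.2 ∈ I ^ 2 := by
      rw [pow_two]
      exact Ideal.mul_mem_mul (snd_mem_of_mem_ker I g₀ ha) (snd_mem_of_mem_ker I g₀ hb)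
    rw [hI] at this
    exact this

theorem isNilpotent_ker_p₁ (hI : I ^ 2 = ⊥) :
    IsNilpotent (RingHom.ker (p₁ I g₀ : PB I g₀ →+* C)) := ⟨2, ker_p₁_sq I g₀ hI⟩

theorem isLocalRing_PB [IsLocalRing C] (hI : I ^ 2 = ⊥) : IsLocalRing (PB I g₀) :=
  isLocalRing_of_surjective_of_isNilpotent_ker (p₁ I g₀ : PB I g₀ →+* C)
    (p₁_surjective I g₀) (isNilpotent_ker_p₁ I g₀ hI)

/-- the section of `p₁` attached to a lift of `g₀`. -/
def sec (g : C →ₐ[A₀] S) (hg : (Ideal.Quotient.mkₐ A₀ I).comp g = g₀) : C →ₐ[A₀] PB I g₀ :=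
  AlgHom.codRestrict ((AlgHom.id A₀ C).prod g) (PB I g₀) (fun c => by
    rw [mem_PB, ← hg]
    rfl)

theorem p₁_sec (g : C →ₐ[A₀] S) (hg : (Ideal.Quotient.mkₐ A₀ I).comp g = g₀) (c : C) :
    p₁ I g₀ (sec I g₀ g hg c) = c := rfl

theorem p₂_sec (g : C →ₐ[A₀] S) (hg : (Ideal.Quotient.mkₐ A₀ I).comp g = g₀) (c : C) :
    p₂ I g₀ (sec I g₀ g hg c) = g c := rfl

end pullback

section scheme

open AlgebraicGeometry CategoryTheory

variable {X : Scheme.{u}}

theorem exists_stalk_hom {R : CommRingCat.{u}} [IsLocalRing R] (γ : Spec R ⟶ X) (x : X)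
    (h : γ (closedPoint R) = x) :
    ∃ g : X.presheaf.stalk x ⟶ R, Spec.map g ≫ X.fromSpecStalk x = γ := by
  subst h
  exact ⟨_, Scheme.Spec_stalkClosedPointTo_fromSpecStalk γ⟩

theorem stalk_hom_cancel {R : CommRingCat.{u}} {x : X} {g₁ g₂ : X.presheaf.stalk x ⟶ R}
    (h : Spec.map g₁ ≫ X.fromSpecStalk x = Spec.map g₂ ≫ X.fromSpecStalk x) : g₁ = g₂ :=
  Spec.map_injective ((cancel_mono _).mp h)

end scheme

end Groth.Agent.Lib.Helper61.LocalLift
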