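/-
Helper library (helper61): modules over a pinching (Milnor) square `A → B`, `A → A'` with
`A → A'` surjective with kernel `I`, `ker (A → B) ∩ I = 0` and `I B = image of I`.
-/
import Mathlib

set_option autoImplicit false
universe u
open TensorProduct

namespace Groth.Agent.Lib.Helper61.MilnorMod

variable {A B A' : Type u} [CommRing A] [CommRing B] [CommRing A'] [Algebra A B] [Algebra A A']
  (h1 : RingHom.ker (algebraMap A B) ⊓ RingHom.ker (algebraMap A A') = ⊥)
  (h2 : ∀ a ∈ Ideal.map (algebraMap A B) (RingHom.ker (algebraMap A A')),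
    ∃ i ∈ RingHom.ker (algebraMap A A'), algebraMap A B i = a)

include h1 in
theorem eq_of_map_eq {x y : A} (hx : x ∈ RingHom.ker (algebraMap A A'))
    (hy : y ∈ RingHom.ker (algebraMap A A')) (hxy : algebraMap A B x = algebraMap A B y) :
    x = y := by
  have h : x - y ∈ RingHom.ker (algebraMap A B) ⊓ RingHom.ker (algebraMap A A') := by
    refine ⟨?_, Ideal.sub_mem _ hx hy⟩
    show x - y ∈ RingHom.ker (algebraMap A B)
    rw [RingHom.mem_ker, map_sub, hxy, sub_self]
  rw [h1] at h
  exact sub_eq_zero.mp h

include h2 in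
theorem exists_lift (i : A) (hi : i ∈ RingHom.ker (algebraMap A A')) (b : B) :
    ∃ x ∈ RingHom.ker (algebraMap A A'), algebraMap A B x = algebraMap A B i * b :=
  h2 _ (Ideal.mul_mem_right _ _ (Ideal.mem_map_of_mem _ hi))

/-- The `A`-linear map `B → A`, `b ↦ (the element of I mapping to i b)`. -/
noncomputable def liftMap (i : A) (hi : i ∈ RingHom.ker (algebraMap A A')) : B →ₗ[A] A where
  toFun b := (exists_lift h2 i hi b).choose
  map_add' b c := by
    have hb := (exists_lift h2 i hi b).choose_spec
    have hc := (exists_lift h2 i hi c).choose_spec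
    have hbc := (exists_lift h2 i hi (b + c)).choose_spec
    refine eq_of_map_eq h1 hbc.1 (Ideal.add_mem _ hb.1 hc.1) ?_
    rw [hbc.2, map_add, hb.2, hc.2, mul_add]
  map_smul' a b := by
    have hb := (exists_lift h2 i hi b).choose_spec
    have hab := (exists_lift h2 i hi (a • b)).choose_spec
    refine eq_of_map_eq h1 hab.1 (Ideal.mul_mem_left _ _ hb.1) ?_
    rw [hab.2, RingHom.id_apply, smul_eq_mul, map_mul, hb.2, Algebra.smul_def]
    ring

theorem liftMap_one (i : A) (hi : i ∈ RingHom.ker (algebraMap A A')) :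
    liftMap h1 h2 i hi 1 = i := by
  have h := (exists_lift h2 i hi 1).choose_spec
  exact eq_of_map_eq h1 h.1 hi (h.2.trans (mul_one _))

variable (M : Type u) [AddCommGroup M] [Module A M]

include h1 h2 in
/-- If `B ⊗ M = 0` then `I M = 0`. -/
theorem smul_eq_zero_of_subsingleton (hB : Subsingleton (B ⊗[A] M)) (i : A)
    (hi : i ∈ RingHom.ker (algebraMap A A')) (m : M) : i • m = 0 := by
  let θ : B ⊗[A] M →ₗ[A] M := TensorProduct.lift ((LinearMap.lsmul A M).comp (liftMap h1 h2 i hi))
  have h0 : (1 : B) ⊗ₜ[A] m = 0 := Subsingleton.elim _ _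
  have h3 : θ ((1 : B) ⊗ₜ[A] m) = i • m := by
    simp only [θ, TensorProduct.lift.tmul, LinearMap.comp_apply, LinearMap.lsmul_apply,
      liftMap_one]
  rw [← h3, h0, map_zero]

include h1 h2 in
/-- A module over the pinched ring whose base changes to `B` and `A'` vanish is zero. -/
theorem subsingleton_of_subsingleton_tensor (hsurj : Function.Surjective (algebraMap A A'))
    (hB : Subsingleton (B ⊗[A] M)) (hA' : Subsingleton (A' ⊗[A] M)) : Subsingleton M := by
  have hI := smul_eq_zero_of_subsingleton h1 h2 M hB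
  let s : A' → A := Function.surjInv hsurj
  have hs : ∀ a', algebraMap A A' (s a') = a' := Function.surjInv_eq hsurj
  have key : ∀ (x y : A), algebraMap A A' x = algebraMap A A' y → ∀ m : M, x • m = y • m := by
    intro x y hxy m
    have : (x - y) • m = 0 := hI (x - y) (by rw [RingHom.mem_ker, map_sub, hxy, sub_self]) m
    rwa [sub_smul, sub_eq_zero] at this
  let h : A' →ₗ[A] M →ₗ[A] M :=
    { toFun := fun a' => (s a') • LinearMap.id
      map_add' := fun a' b' => by
        ext m
        simp only [LinearMap.smul_apply, LinearMap.id_apply, LinearMap.add_apply]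
        rw [← add_smul]
        exact key _ _ (by rw [hs, map_add, hs, hs]) m
      map_smul' := fun a a' => by
        ext m
        simp only [LinearMap.smul_apply, LinearMap.id_apply, RingHom.id_apply]
        rw [← mul_smul]
        exact key _ _ (by rw [hs, map_mul, hs, Algebra.smul_def]) m }
  let θ : A' ⊗[A] M →ₗ[A] M := TensorProduct.lift h
  refine ⟨fun m m' => ?_⟩
  have hz : ∀ m : M, m = 0 := by
    intro m
    have h0 : (1 : A') ⊗ₜ[A] m = 0 := Subsingleton.elim _ _
    have h3 : θ ((1 : A') ⊗ₜ[A] m) = m := by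
      simp only [θ, h, TensorProduct.lift.tmul, LinearMap.coe_mk, AddHom.coe_mk,
        LinearMap.smul_apply, LinearMap.id_apply]
      rw [key (s 1) 1 (by rw [hs, map_one]) m, one_smul]
    rw [← h3, h0, map_zero]
  rw [hz m, hz m']

end Groth.Agent.Lib.Helper61.MilnorMod
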