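/-
Helper library (helper61): finiteness of modules over a pinching (Milnor) square is detected on
the two base changes.
-/
import Mathlib
import Groth.Agent.Lib.Helper61.MilnorMod1

set_option autoImplicit false
universe u
open TensorProduct

namespace Groth.Agent.Lib.Helper61.MilnorMod

/-- A finite base change `B ⊗ M` is generated by finitely many elements `1 ⊗ m`. -/
theorem exists_finset_span_one_tmul {A B : Type u} [CommRing A] [CommRing B] [Algebra A B]
    (M : Type u) [AddCommGroup M] [Module A M] [Module.Finite B (B ⊗[A] M)] :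
    ∃ S : Finset M, Submodule.span B ((fun m : M => (1 : B) ⊗ₜ[A] m) '' (S : Set M)) = ⊤ := by
  classical
  have htop : Submodule.span B (Set.range fun m : M => (1 : B) ⊗ₜ[A] m) = ⊤ := by
    rw [eq_top_iff]
    rintro x -
    induction x using TensorProduct.induction_on with
    | zero => exact Submodule.zero_mem _
    | tmul b m =>
      have : b ⊗ₜ[A] m = b • ((1 : B) ⊗ₜ[A] m) := by
        rw [TensorProduct.smul_tmul', smul_eq_mul, mul_one]
      rw [this]
      exact Submodule.smul_mem _ _ (Submodule.subset_span ⟨m, rfl⟩)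
    | add x y hx hy => exact Submodule.add_mem _ hx hy
  have hfg : (Submodule.span B (Set.range fun m : M => (1 : B) ⊗ₜ[A] m)).FG := by
    rw [htop]; exact Module.Finite.fg_top
  obtain ⟨T, hT, hspan⟩ := (Submodule.fg_span_iff_fg_span_finset_subset _).mp hfg
  choose! g hg using fun t (ht : t ∈ (T : Set (B ⊗[A] M))) => hT ht
  refine ⟨T.image g, ?_⟩
  rw [eq_top_iff, ← htop, hspan]
  apply Submodule.span_mono
  intro t ht
  refine ⟨g t, ?_, hg t ht⟩
  simp only [Finset.coe_image]
  exact ⟨t, ht, rfl⟩

variable {A B A' : Type u} [CommRing A] [CommRing B] [CommRing A'] [Algebra A B] [Algebra A A']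
  (h1 : RingHom.ker (algebraMap A B) ⊓ RingHom.ker (algebraMap A A') = ⊥)
  (h2 : ∀ a ∈ Ideal.map (algebraMap A B) (RingHom.ker (algebraMap A A')),
    ∃ i ∈ RingHom.ker (algebraMap A A'), algebraMap A B i = a)

/-- If the images `1 ⊗ s` span `B ⊗ M`, then `B ⊗ (M / span S) = 0`. -/
theorem subsingleton_tensor_quotient {A B : Type u} [CommRing A] [CommRing B] [Algebra A B]
    (M : Type u) [AddCommGroup M] [Module A M] (N : Submodule A M) (S : Set M) (hS : S ⊆ N)
    (hspan : Submodule.span B ((fun m : M => (1 : B) ⊗ₜ[A] m) '' S) = ⊤) :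
    Subsingleton (B ⊗[A] (M ⧸ N)) := by
  have hker : ∀ x : B ⊗[A] M, (N.mkQ.baseChange B) x = 0 := by
    intro x
    have hx : x ∈ Submodule.span B ((fun m : M => (1 : B) ⊗ₜ[A] m) '' S) := by
      rw [hspan]; trivial
    induction hx using Submodule.span_induction with
    | mem y hy =>
      obtain ⟨s, hs, rfl⟩ := hy
      rw [LinearMap.baseChange_tmul, Submodule.mkQ_apply,
        (Submodule.Quotient.mk_eq_zero N).mpr (hS hs), TensorProduct.tmul_zero]
    | zero => exact map_zero _
    | add y z _ _ hy hz => rw [map_add, hy, hz, add_zero]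
    | smul b y _ hy => rw [map_smul, hy, smul_zero]
  have hz : ∀ x : B ⊗[A] (M ⧸ N), x = 0 := by
    intro x
    induction x using TensorProduct.induction_on with
    | zero => rfl
    | tmul b q =>
      obtain ⟨m, rfl⟩ := Submodule.Quotient.mk_surjective N q
      have := hker (b ⊗ₜ[A] m)
      rwa [LinearMap.baseChange_tmul] at this
    | add x y hx hy => rw [hx, hy, add_zero]
  exact ⟨fun x y => by rw [hz x, hz y]⟩

include h1 h2 in
/-- Over a pinching square, a module is finite as soon as its two base changes are. -/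
theorem finite_of_finite_tensor (hsurj : Function.Surjective (algebraMap A A'))
    (M : Type u) [AddCommGroup M] [Module A M]
    [Module.Finite B (B ⊗[A] M)] [Module.Finite A' (A' ⊗[A] M)] : Module.Finite A M := by
  classical
  obtain ⟨S₁, hS₁⟩ := exists_finset_span_one_tmul (A := A) (B := B) M
  obtain ⟨S₂, hS₂⟩ := exists_finset_span_one_tmul (A := A) (B := A') M
  let N : Submodule A M := Submodule.span A ((S₁ ∪ S₂ : Finset M) : Set M)
  have hB : Subsingleton (B ⊗[A] (M ⧸ N)) :=
    subsingleton_tensor_quotient M N (S₁ : Set M)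
      (fun s hs => Submodule.subset_span (by simp [Finset.mem_coe.mp hs])) hS₁
  have hA' : Subsingleton (A' ⊗[A] (M ⧸ N)) :=
    subsingleton_tensor_quotient M N (S₂ : Set M)
      (fun s hs => Submodule.subset_span (by simp [Finset.mem_coe.mp hs])) hS₂
  have hQ : Subsingleton (M ⧸ N) :=
    subsingleton_of_subsingleton_tensor h1 h2 (M ⧸ N) hsurj hB hA'
  have hN : N = ⊤ := Submodule.Quotient.subsingleton_iff.mp hQ
  exact ⟨⟨S₁ ∪ S₂, hN⟩⟩

end Groth.Agent.Lib.Helper61.MilnorMod
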