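/-
Helper library (helper61): sections of a normal integral scheme are integrally closed in the
function field; the stalks of a relative normalization `f.normalization` of `Y` in a normal
integral scheme `X` are integrally closed.
(The first lemma is adapted from helper97's `NormalSch.isIntegrallyClosed_sections`.)
-/
import Mathlib

set_option autoImplicit false
universe u
open CategoryTheory AlgebraicGeometry TopologicalSpace

namespace Groth.Agent.Lib.Helper61.NormBir

/-- Sections of a normal integral scheme over a nonempty open are integrally closed in the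
function field. -/
theorem isIntegrallyClosedIn_sections {Z : Scheme.{u}} [IsIntegral Z]
    (hN : ∀ z : Z, IsIntegrallyClosed (Z.presheaf.stalk z)) (U : Z.Opens) [Nonempty U] :
    IsIntegrallyClosedIn Γ(Z, U) Z.functionField := by
  have hinj : Function.Injective (algebraMap Γ(Z, U) Z.functionField) :=
    Z.germToFunctionField_injective U
  rw [isIntegrallyClosedIn_iff]
  refine ⟨hinj, fun {x} hx => ?_⟩
  have hη : ∀ V : Z.Opens, (V : Set Z).Nonempty → genericPoint Z ∈ V := fun V hV =>
    ((genericPoint_spec Z).mem_open_set_iff V.isOpen).mpr (by simpa [Set.univ_inter] using hV)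
  have hloc : ∀ z : U, ∃ (V : Z.Opens) (hV : genericPoint Z ∈ V), z.1 ∈ V ∧ V ≤ U ∧
      ∃ s : Γ(Z, V), Z.presheaf.germ V (genericPoint Z) hV s = x := by
    intro z
    have hx' : IsIntegral (Z.presheaf.stalk z.1) x := hx.tower_top
    have := hN z.1
    obtain ⟨g, hg⟩ := IsIntegrallyClosed.algebraMap_eq_of_integral hx'
    obtain ⟨V, hzV, s, hs⟩ := Z.presheaf.exists_germ_eq g
    have hzVU : z.1 ∈ V ⊓ U := ⟨hzV, z.2⟩
    have : Nonempty (V ⊓ U : Z.Opens).toScheme := ⟨⟨z.1, hzVU⟩⟩
    refine ⟨V ⊓ U, hη _ ⟨z.1, hzVU⟩, hzVU, inf_le_right,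
      Z.presheaf.map (homOfLE inf_le_left).op s, ?_⟩
    have h1 := Z.algebraMap_germ_eq_germToFunctionField (U := V ⊓ U) (x := z.1) hzVU
      (Z.presheaf.map (homOfLE inf_le_left).op s)
    rw [TopCat.Presheaf.germ_res_apply, hs, hg] at h1
    exact h1.symm
  choose V hVη hzV hVU s hs using hloc
  have compat : TopCat.Presheaf.IsCompatible Z.sheaf.1 V s := by
    intro z z'
    apply germ_injective_of_isIntegral Z (genericPoint Z) (⟨hVη z, hVη z'⟩ : _ ∈ V z ⊓ V z')
    have e1 := Z.presheaf.germ_res_apply (Opens.infLELeft (V z) (V z')) (genericPoint Z)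
      ⟨hVη z, hVη z'⟩ (s z)
    have e2 := Z.presheaf.germ_res_apply (Opens.infLERight (V z) (V z')) (genericPoint Z)
      ⟨hVη z, hVη z'⟩ (s z')
    exact (e1.trans ((hs z).trans (hs z').symm)).trans e2.symm
  obtain ⟨t, ht, -⟩ := Z.sheaf.existsUnique_gluing' V U (fun z => homOfLE (hVU z))
    (fun y hy => Opens.mem_iSup.mpr ⟨⟨y, hy⟩, hzV ⟨y, hy⟩⟩) s compat
  refine ⟨t, ?_⟩
  obtain ⟨⟨z0, hz0⟩⟩ := ‹Nonempty U›
  let z : U := ⟨z0, hz0⟩
  have h1 : Z.presheaf.map (homOfLE (hVU z)).op t = s z := ht z
  have h2 := Z.presheaf.germ_res_apply (homOfLE (hVU z)) (genericPoint Z) (hVη z) t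
  rw [h1, hs] at h2
  rw [h2]
  rfl

/-- Sections of a normal integral scheme over a nonempty open form an integrally closed domain. -/
theorem isIntegrallyClosed_sections {Z : Scheme.{u}} [IsIntegral Z]
    (hN : ∀ z : Z, IsIntegrallyClosed (Z.presheaf.stalk z)) (U : Z.Opens) [Nonempty U] :
    IsIntegrallyClosed Γ(Z, U) := by
  have hinj : Function.Injective (algebraMap Γ(Z, U) Z.functionField) :=
    Z.germToFunctionField_injective U
  have : FaithfulSMul Γ(Z, U) Z.functionField :=
    (faithfulSMul_iff_algebraMap_injective _ _).mpr hinj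
  have := isIntegrallyClosedIn_sections hN U
  exact IsIntegrallyClosed.of_isIntegrallyClosedIn Γ(Z, U) Z.functionField

end Groth.Agent.Lib.Helper61.NormBir
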