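import Mathlib
import Groth.Agent.Lib.Helper61.NormBir1

set_option autoImplicit false
universe u
open CategoryTheory AlgebraicGeometry TopologicalSpace

namespace Groth.Agent.Lib.Helper61.NormBir

variable {X Y : Scheme.{u}}

/-- the image of the generic point under a dominant morphism of irreducible schemes. -/
theorem map_genericPoint_of_isDominant [IrreducibleSpace X] [IrreducibleSpace Y] (g : X ⟶ Y)
    [IsDominant g] : g (genericPoint X) = genericPoint Y := by
  apply (IsGenericPoint.eq · (genericPoint_spec Y))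
  have h1 := (genericPoint_spec X).image g.continuous
  rw [Set.image_univ, g.denseRange.closure_range] at h1
  exact h1

theorem isIntegrallyClosed_stalk_normalization [IsIntegral X]
    (hN : ∀ x : X, IsIntegrallyClosed (X.presheaf.stalk x)) (f : X ⟶ Y)
    [QuasiCompact f] [QuasiSeparated f] (y' : f.normalization) :
    IsIntegrallyClosed (f.normalization.presheaf.stalk y') := by
  obtain ⟨_, ⟨U, hU : IsAffineOpen U, rfl⟩, hyU, -⟩ :=
    Y.isBasis_affineOpens.exists_subset_of_mem_open (Set.mem_univ (f.fromNormalization y'))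
      isOpen_univ
  have hy' : y' ∈ f.fromNormalization ⁻¹ᵁ U := hyU
  have hgen : f.toNormalization (genericPoint X) ∈ f.fromNormalization ⁻¹ᵁ U := by
    rw [map_genericPoint_of_isDominant]
    exact ((genericPoint_spec f.normalization).mem_open_set_iff
      (f.fromNormalization ⁻¹ᵁ U).isOpen).mpr ⟨y', Set.mem_univ _, hy'⟩
  have hgen' : genericPoint X ∈ f ⁻¹ᵁ U := by
    have : f.toNormalization ≫ f.fromNormalization = f := f.toNormalization_fromNormalization
    rw [← this]
    exact hgen
  have hne : Nonempty (f ⁻¹ᵁ U) := ⟨⟨_, hgen'⟩⟩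
  have hne' : Nonempty (f.fromNormalization ⁻¹ᵁ U) := ⟨⟨_, hy'⟩⟩
  let _ : Algebra Γ(Y, U) Γ(X, f ⁻¹ᵁ U) := (f.app U).hom.toAlgebra
  have hB : IsIntegrallyClosed Γ(X, f ⁻¹ᵁ U) := isIntegrallyClosed_sections hN _
  have hA' : IsIntegrallyClosed (integralClosure Γ(Y, U) Γ(X, f ⁻¹ᵁ U)) :=
    IsIntegrallyClosed.of_isIntegrallyClosed_of_isIntegrallyClosedIn _ Γ(X, f ⁻¹ᵁ U)
  let e := (f.normalizationObjIso hU).commRingCatIsoToRingEquiv
  have hΓ : IsIntegrallyClosed Γ(f.normalization, f.fromNormalization ⁻¹ᵁ U) :=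
    IsIntegrallyClosed.of_equiv e.symm
  have hV : IsAffineOpen (f.fromNormalization ⁻¹ᵁ U) := hU.preimage f.fromNormalization
  let _ := TopCat.Presheaf.algebra_section_stalk f.normalization.presheaf
    (⟨y', hy'⟩ : ↥(f.fromNormalization ⁻¹ᵁ U))
  have hloc := hV.isLocalization_stalk ⟨y', hy'⟩
  exact isIntegrallyClosed_of_isLocalization _ (hV.primeIdealOf ⟨y', hy'⟩).asIdeal.primeCompl
    (Ideal.primeCompl_le_nonZeroDivisors _)

end Groth.Agent.Lib.Helper61.NormBir
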