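import Mathlib
import Groth.Agent.Lib.Helper61.NormBir2

set_option autoImplicit false
universe u
open CategoryTheory AlgebraicGeometry TopologicalSpace

namespace Groth.Agent.Lib.Helper61.NormBir

/-- Ring-level core: if `KX` is quasi-finite over the fraction field `KY` of `A` and every element
of `KX` integral over `A` comes from `B`, then every element of `KX` is a quotient `b / a` with
`b ∈ B` integral over `A` and `a ∈ A`. -/
theorem exists_integral_multiple_core {A B KY KX : Type*} [CommRing A] [IsDomain A] [CommRing B]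
    [CommRing KY] [Field KX] [Algebra A KY] [IsFractionRing A KY]
    (φ : A →+* B) (γX : B →+* KX) (τ : KY →+* KX) (hτ : τ.QuasiFinite)
    (hcomm : τ.comp (algebraMap A KY) = γX.comp φ) (hγX : Function.Injective γX)
    (hcl : ∀ k : KX, (γX.comp φ).IsIntegralElem k → ∃ b : B, γX b = k) (k : KX) :
    ∃ (b : B) (a : A), φ.IsIntegralElem b ∧ γX (φ a) ≠ 0 ∧ γX b = γX (φ a) * k := by
  let _ : Field KY := IsFractionRing.toField A
  have hτi : Function.Injective τ := RingHom.injective τ
  let _ : Algebra KY KX := τ.toAlgebra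
  let _ : Algebra A KX := (γX.comp φ).toAlgebra
  have : IsScalarTower A KY KX := .of_algebraMap_eq' hcomm.symm
  have : Algebra.QuasiFinite KY KX := hτ
  have : Module.Finite KY KX := Module.Finite.of_quasiFinite
  have hk : IsIntegral KY k := Algebra.IsIntegral.isIntegral k
  obtain ⟨m, hm⟩ := IsIntegral.exists_multiple_integral_of_isLocalization (nonZeroDivisors A) k hk
  obtain ⟨b, hb⟩ := hcl (m • k) hm
  refine ⟨b, m.1, ?_, ?_, ?_⟩
  · obtain ⟨p, hp, hpe⟩ := hm
    refine ⟨p, hp, hγX ?_⟩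
    rw [map_zero, Polynomial.hom_eval₂, hb]
    exact hpe
  · have h1 : γX (φ m.1) = τ (algebraMap A KY m.1) := (congr($hcomm m.1)).symm
    rw [h1]
    intro h0
    have h2 : algebraMap A KY m.1 = 0 := hτi (h0.trans (map_zero τ).symm)
    exact nonZeroDivisors.ne_zero m.2
      (IsFractionRing.injective A KY (h2.trans (map_zero _).symm))
  · rw [hb, Submonoid.smul_def, Algebra.smul_def]
    rfl

variable {X Y : Scheme.{u}}

theorem isIso_stalkMap_toNormalization_genericPoint [IsIntegral X] [IsIntegral Y]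
    (hN : ∀ x : X, IsIntegrallyClosed (X.presheaf.stalk x)) (f : X ⟶ Y) [IsDominant f]
    [LocallyQuasiFinite f] [QuasiCompact f] [QuasiSeparated f] :
    IsIso (f.toNormalization.stalkMap (genericPoint X)) := by
  set η := genericPoint X with hη
  set g := f.toNormalization with hg
  set h := f.fromNormalization with hh
  have hgh : g ≫ h = f := f.toNormalization_fromNormalization
  have hfη : f η = genericPoint Y := map_genericPoint_of_isDominant f
  have hgη : g η = genericPoint f.normalization := map_genericPoint_of_isDominant g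
  obtain ⟨_, ⟨U, hU : IsAffineOpen U, rfl⟩, hfηU, -⟩ :=
    Y.isBasis_affineOpens.exists_subset_of_mem_open (Set.mem_univ (f η)) isOpen_univ
  have hηU : η ∈ f ⁻¹ᵁ U := hfηU
  have hgηU : g η ∈ h ⁻¹ᵁ U := by
    change h (g η) ∈ U
    rw [← Scheme.Hom.comp_apply, hgh]; exact hfηU
  have hle : f ⁻¹ᵁ U ≤ g ⁻¹ᵁ h ⁻¹ᵁ U := by
    rw [← Scheme.Hom.comp_preimage, hgh]
  have hneU : Nonempty U := ⟨⟨_, hfηU⟩⟩
  have hne : Nonempty (f ⁻¹ᵁ U) := ⟨⟨_, hηU⟩⟩
  let _ : Algebra Γ(Y, U) Γ(X, f ⁻¹ᵁ U) := (f.app U).hom.toAlgebra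
  -- the fraction field structure on the stalk at `f η`
  let _ : Algebra Γ(Y, U) (Y.presheaf.stalk (f η)) :=
    (Y.presheaf.germ U (f η) hfηU).hom.toAlgebra
  have hfrac : IsFractionRing Γ(Y, U) (Y.presheaf.stalk (f η)) := by
    have key : ∀ (y : Y) (_ : y = genericPoint Y) (hyU : y ∈ U),
        @IsFractionRing Γ(Y, U) _ (Y.presheaf.stalk y) _
          (Y.presheaf.germ U y hyU).hom.toAlgebra := by
      rintro y rfl hyU
      exact functionField_isFractionRing_of_isAffineOpen Y U hU
    exact key _ hfη hfηU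
  have hdom : IsDomain Γ(Y, U) := inferInstance
  have hcl : ∀ k : X.presheaf.stalk η,
      ((X.germToFunctionField (f ⁻¹ᵁ U)).hom.comp (f.app U).hom).IsIntegralElem k →
      ∃ b : Γ(X, f ⁻¹ᵁ U), (X.germToFunctionField (f ⁻¹ᵁ U)).hom b = k := by
    intro k hk
    have := isIntegrallyClosedIn_sections hN (f ⁻¹ᵁ U)
    have hk' : IsIntegral Γ(X, f ⁻¹ᵁ U) k := by
      obtain ⟨p, hp, hpe⟩ := hk
      refine ⟨p.map (f.app U).hom, hp.map _, ?_⟩
      rw [Polynomial.eval₂_map]
      exact hpe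
    exact IsIntegrallyClosedIn.algebraMap_eq_of_integral hk'
  have hcomm : (f.stalkMap η).hom.comp (algebraMap Γ(Y, U) (Y.presheaf.stalk (f η))) =
      (X.germToFunctionField (f ⁻¹ᵁ U)).hom.comp (f.app U).hom := by
    have := f.germ_stalkMap U η hfηU
    exact congr($(this).hom)
  have core := exists_integral_multiple_core (A := Γ(Y, U)) (B := Γ(X, f ⁻¹ᵁ U))
    (KY := Y.presheaf.stalk (f η)) (KX := X.presheaf.stalk η) (f.app U).hom
    (X.germToFunctionField (f ⁻¹ᵁ U)).hom (f.stalkMap η).hom (f.quasiFiniteAt η) hcomm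
    (X.germToFunctionField_injective (f ⁻¹ᵁ U)) hcl
  -- the stalk at `g η` is a field
  have hfield : IsField (f.normalization.presheaf.stalk (g η)) := by
    have key : ∀ (z : f.normalization), z = genericPoint f.normalization →
        IsField (f.normalization.presheaf.stalk z) := by
      rintro z rfl
      exact Field.toIsField f.normalization.functionField
    exact key _ hgη
  rw [ConcreteCategory.isIso_iff_bijective]
  constructor
  · let _ : Field (f.normalization.presheaf.stalk (g η)) := hfield.toField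
    exact RingHom.injective (g.stalkMap η).hom
  · intro k
    obtain ⟨b, a, hb, ha, hba⟩ := core k
    let b' : integralClosure Γ(Y, U) Γ(X, f ⁻¹ᵁ U) := ⟨b, hb⟩
    let s : Γ(f.normalization, h ⁻¹ᵁ U) := (f.normalizationObjIso hU).inv b'
    let t : Γ(f.normalization, h ⁻¹ᵁ U) := h.app U a
    have hs : g.appLE (h ⁻¹ᵁ U) (f ⁻¹ᵁ U) hle s = b := by
      have e1 := f.normalizationObjIso_hom_val hU
      have e2 := congr($(e1).hom s)
      rw [← e2]
      simp [s, b']
    have ht : g.appLE (h ⁻¹ᵁ U) (f ⁻¹ᵁ U) hle t = f.app U a := by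
      have e1 : h.app U ≫ g.appLE (h ⁻¹ᵁ U) (f ⁻¹ᵁ U) hle = f.app U := by
        rw [Scheme.Hom.app_eq_appLE, Scheme.Hom.appLE_comp_appLE]
        simp [g, h, Scheme.Hom.app_eq_appLE]
      exact congr($(e1).hom a)
    have hgerm : ∀ r : Γ(f.normalization, h ⁻¹ᵁ U),
        g.stalkMap η (f.normalization.presheaf.germ (h ⁻¹ᵁ U) (g η) hgηU r) =
          X.presheaf.germ (f ⁻¹ᵁ U) η hηU (g.appLE (h ⁻¹ᵁ U) (f ⁻¹ᵁ U) hle r) := by
      intro r
      rw [Scheme.Hom.germ_stalkMap_apply, Scheme.Hom.appLE, CommRingCat.comp_apply,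
        TopCat.Presheaf.germ_res_apply]
    have hσs := hgerm s
    have hσt := hgerm t
    rw [hs] at hσs
    rw [ht] at hσt
    have hu : IsUnit (f.normalization.presheaf.germ (h ⁻¹ᵁ U) (g η) hgηU t) := by
      have : IsUnit (g.stalkMap η (f.normalization.presheaf.germ (h ⁻¹ᵁ U) (g η) hgηU t)) := by
        rw [hσt]
        exact isUnit_iff_ne_zero.mpr ha
      exact isUnit_of_map_unit (g.stalkMap η).hom _ this
    obtain ⟨u, hu'⟩ := hu
    refine ⟨f.normalization.presheaf.germ (h ⁻¹ᵁ U) (g η) hgηU s * ↑u⁻¹, ?_⟩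
    have h3 : g.stalkMap η (↑u⁻¹ : f.normalization.presheaf.stalk (g η)) *
        X.presheaf.germ (f ⁻¹ᵁ U) η hηU (f.app U a) = 1 := by
      rw [← hσt, ← hu', ← map_mul, Units.inv_mul, map_one]
    rw [map_mul, hσs]
    change X.presheaf.germ (f ⁻¹ᵁ U) η hηU b * _ = k
    have hba' : X.presheaf.germ (f ⁻¹ᵁ U) η hηU b =
        X.presheaf.germ (f ⁻¹ᵁ U) η hηU (f.app U a) * k := hba
    rw [hba', mul_comm, ← mul_assoc, h3, one_mul]

end Groth.Agent.Lib.Helper61.NormBir
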