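import Mathlib.RingTheory.Jacobson.Ring
import Mathlib.FieldTheory.IsAlgClosed.Basic
import Mathlib.RingTheory.FiniteType

/-!
# Weak Nullstellensatz for finitely generated algebras over an algebraically closed field (helper61)
-/

set_option autoImplicit false
universe u v

namespace Groth.Agent.Lib.Helper61

variable {k : Type u} [Field k] [IsAlgClosed k] {R : Type v} [CommRing R] [Algebra k R]
  [Algebra.FiniteType k R]

/-- Every maximal ideal of a finitely generated algebra over an algebraically closed field is the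
kernel of a `k`-point. -/
theorem exists_algHom_ker_eq_of_isMaximal (𝔫 : Ideal R) [h𝔫 : 𝔫.IsMaximal] :
    ∃ x : R →ₐ[k] k, RingHom.ker x = 𝔫 := by
  let _ : Field (R ⧸ 𝔫) := Ideal.Quotient.field 𝔫
  have hft : Algebra.FiniteType k (R ⧸ 𝔫) :=
    Algebra.FiniteType.of_surjective (Ideal.Quotient.mkₐ k 𝔫) (Ideal.Quotient.mkₐ_surjective k 𝔫)
  have hfin : Module.Finite k (R ⧸ 𝔫) := finite_of_finite_type_of_isJacobsonRing k (R ⧸ 𝔫)
  have hint : Algebra.IsIntegral k (R ⧸ 𝔫) := Algebra.IsIntegral.of_finite k (R ⧸ 𝔫)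
  have hbij : Function.Bijective (algebraMap k (R ⧸ 𝔫)) :=
    IsAlgClosed.algebraMap_bijective_of_isIntegral
  let e : k ≃ₐ[k] (R ⧸ 𝔫) := AlgEquiv.ofBijective (Algebra.ofId k (R ⧸ 𝔫)) hbij
  refine ⟨e.symm.toAlgHom.comp (Ideal.Quotient.mkₐ k 𝔫), ?_⟩
  ext f
  rw [RingHom.mem_ker]
  show e.symm (Ideal.Quotient.mk 𝔫 f) = 0 ↔ f ∈ 𝔫
  rw [EmbeddingLike.map_eq_zero_iff]
  exact Ideal.Quotient.eq_zero_iff_mem

/-- A proper ideal of a finitely generated algebra over an algebraically closed field has a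
`k`-point vanishing on it. -/
theorem exists_algHom_of_ne_top (J : Ideal R) (hJ : J ≠ ⊤) :
    ∃ x : R →ₐ[k] k, ∀ f ∈ J, x f = 0 := by
  obtain ⟨𝔫, h𝔫, hle⟩ := Ideal.exists_le_maximal J hJ
  obtain ⟨x, hx⟩ := exists_algHom_ker_eq_of_isMaximal (k := k) 𝔫
  refine ⟨x, fun f hf => ?_⟩
  have : f ∈ RingHom.ker x := by rw [hx]; exact hle hf
  exact this

end Groth.Agent.Lib.Helper61
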