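import Mathlib.AlgebraicGeometry.ProjectiveSpectrum.Basic
import Mathlib.AlgebraicGeometry.Morphisms.Immersion
import Mathlib.AlgebraicGeometry.Morphisms.ClosedImmersion
import Mathlib.AlgebraicGeometry.Morphisms.Affine

/-! Homogeneous prime avoidance inside an ideal for `ℕ`-graded rings, and affine opens containing
finite sets of points in subschemes of `Proj` (helper61; avoidance adapted from helper87). -/

set_option autoImplicit false
universe u

namespace Groth.Agent.Lib.Helper61.ProjAvoid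

section Avoid

variable {σ A : Type*} [CommRing A] [SetLike σ A] [AddSubgroupClass σ A] (𝒜 : ℕ → σ)
  [GradedRing 𝒜]

theorem exists_aux_y (𝔞 : Ideal A) (Q : Ideal A) [hQp : Q.IsPrime]
    (hQ : ∃ (e : ℕ) (y : A), 0 < e ∧ y ∈ 𝒜 e ∧ y ∈ 𝔞 ∧ y ∉ Q) (S' : Finset (Ideal A)) :
    ∃ (e : ℕ) (y : A), 0 < e ∧ y ∈ 𝒜 e ∧ y ∈ 𝔞 ∧ y ∉ Q ∧
      ∀ P ∈ S', (∃ (j : ℕ) (y' : A), y' ∈ 𝒜 j ∧ y' ∈ P ∧ y' ∉ Q) → y ∈ P := by
  classical
  induction S' using Finset.induction_on with
  | empty =>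
    obtain ⟨e, y, he, hye, hya, hyQ⟩ := hQ
    exact ⟨e, y, he, hye, hya, hyQ, fun P hP => absurd hP (Finset.notMem_empty P)⟩
  | insert P S' _ ih =>
    obtain ⟨e, y, he, hye, hya, hyQ, hyP⟩ := ih
    by_cases hex : ∃ (j : ℕ) (y' : A), y' ∈ 𝒜 j ∧ y' ∈ P ∧ y' ∉ Q
    · obtain ⟨j, y', hy'j, hy'P, hy'Q⟩ := hex
      refine ⟨e + j, y * y', by omega, SetLike.GradedMul.mul_mem hye hy'j,
        Ideal.mul_mem_right _ _ hya, ?_, ?_⟩
      · intro h
        rcases hQp.mem_or_mem h with h | h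
        · exact hyQ h
        · exact hy'Q h
      · intro P' hP' hex'
        rcases Finset.mem_insert.mp hP' with rfl | hP'
        · exact Ideal.mul_mem_left _ _ hy'P
        · exact Ideal.mul_mem_right _ _ (hyP P' hP' hex')
    · refine ⟨e, y, he, hye, hya, hyQ, ?_⟩
      intro P' hP' hex'
      rcases Finset.mem_insert.mp hP' with rfl | hP'
      · exact absurd hex' hex
      · exact hyP P' hP' hex'

/-- Homogeneous prime avoidance inside an ideal. -/
theorem exists_homogeneous_notMem (𝔞 : Ideal A) (S : Finset (Ideal A))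
    (hS : ∀ P ∈ S, P.IsPrime ∧ ∃ (e : ℕ) (y : A), 0 < e ∧ y ∈ 𝒜 e ∧ y ∈ 𝔞 ∧ y ∉ P) :
    ∃ (d : ℕ) (x : A), 0 < d ∧ x ∈ 𝒜 d ∧ x ∈ 𝔞 ∧ ∀ P ∈ S, x ∉ P := by
  classical
  induction S using Finset.induction_on with
  | empty =>
    exact ⟨1, 0, one_pos, zero_mem _, zero_mem _, fun P hP => absurd hP (Finset.notMem_empty P)⟩
  | insert Q S' _ ih =>
    obtain ⟨d, x, hd, hxd, hxa, hxS⟩ := ih (fun P hP => hS P (Finset.mem_insert_of_mem hP))
    haveI hQp : Q.IsPrime := (hS Q (Finset.mem_insert_self _ _)).1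
    have hQ := (hS Q (Finset.mem_insert_self _ _)).2
    by_cases hxQ : x ∈ Q
    · obtain ⟨e, y, he, hye, hya, hyQ, hyP⟩ := exists_aux_y 𝒜 𝔞 Q hQ S'
      have hxe : x ^ e ∈ 𝒜 (d * e) := by
        have := SetLike.pow_mem_graded e hxd
        rwa [smul_eq_mul, mul_comm] at this
      have hyd : y ^ d ∈ 𝒜 (d * e) := by
        have := SetLike.pow_mem_graded d hye
        rwa [smul_eq_mul] at this
      have he' : e ≠ 0 := by omega
      have hd' : d ≠ 0 := by omega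
      refine ⟨d * e, x ^ e + y ^ d, Nat.mul_pos hd he, add_mem hxe hyd,
        add_mem (Ideal.pow_mem_of_mem _ hxa _ (Nat.pos_of_ne_zero he'))
          (Ideal.pow_mem_of_mem _ hya _ (Nat.pos_of_ne_zero hd')), ?_⟩
      have hzQ : x ^ e + y ^ d ∉ Q := by
        intro h
        have h1 : x ^ e ∈ Q := Ideal.pow_mem_of_mem _ hxQ _ (Nat.pos_of_ne_zero he')
        have h2 : y ^ d ∈ Q := (Ideal.add_mem_iff_right _ h1).mp h
        exact hyQ (hQp.mem_of_pow_mem _ h2)
      intro P hP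
      rcases Finset.mem_insert.mp hP with rfl | hP
      · exact hzQ
      · haveI hPp : P.IsPrime := (hS P (Finset.mem_insert_of_mem hP)).1
        by_cases hex : ∃ (j : ℕ) (y' : A), y' ∈ 𝒜 j ∧ y' ∈ P ∧ y' ∉ Q
        · have hyP' : y ∈ P := hyP P hP hex
          intro h
          have h2 : y ^ d ∈ P := Ideal.pow_mem_of_mem _ hyP' _ (Nat.pos_of_ne_zero hd')
          have h1 : x ^ e ∈ P := (Ideal.add_mem_iff_left _ h2).mp h
          exact hxS P hP (hPp.mem_of_pow_mem _ h1)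
        · intro h
          exact hex ⟨d * e, _, add_mem hxe hyd, h, hzQ⟩
    · refine ⟨d, x, hd, hxd, hxa, fun P hP => ?_⟩
      rcases Finset.mem_insert.mp hP with rfl | hP
      · exact hxQ
      · exact hxS P hP

end Avoid

section Geom

open AlgebraicGeometry CategoryTheory

variable {σ : Type*} {A : Type u} [CommRing A] [SetLike σ A] [AddSubgroupClass σ A] (𝒜 : ℕ → σ)
  [GradedRing 𝒜]

/-- For a point `p` of `Proj` outside a closed set `Z`, there is a homogeneous element of positive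
degree in the vanishing ideal of `Z` which is not in `p`. -/
theorem exists_pos_homogeneous_of_notMem_closed (Z : Set (ProjectiveSpectrum 𝒜)) (hZ : IsClosed Z)
    (p : ProjectiveSpectrum 𝒜) (hp : p ∉ Z) :
    ∃ (e : ℕ) (y : A), 0 < e ∧ y ∈ 𝒜 e ∧ y ∈ (ProjectiveSpectrum.vanishingIdeal Z).toIdeal ∧
      y ∉ p.asHomogeneousIdeal.toIdeal := by
  classical
  have h1 : p ∉ ProjectiveSpectrum.zeroLocus 𝒜 (ProjectiveSpectrum.vanishingIdeal Z : Set A) := by
    rw [ProjectiveSpectrum.zeroLocus_vanishingIdeal_eq_closure, hZ.closure_eq]; exact hp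
  rw [ProjectiveSpectrum.mem_zeroLocus, Set.not_subset] at h1
  obtain ⟨a, ha, hap⟩ := h1
  obtain ⟨i, hi⟩ : ∃ i, (DirectSum.decompose 𝒜 a i : A) ∉ p.asHomogeneousIdeal.toIdeal := by
    by_contra hcon
    push_neg at hcon
    apply hap
    rw [← DirectSum.sum_support_decompose 𝒜 a]
    exact Ideal.sum_mem _ (fun i _ => hcon i)
  have hai : (DirectSum.decompose 𝒜 a i : A) ∈ (ProjectiveSpectrum.vanishingIdeal Z).toIdeal :=
    (ProjectiveSpectrum.vanishingIdeal Z).isHomogeneous i ha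
  have h2 := p.not_irrelevant_le
  rw [HomogeneousIdeal.irrelevant_le] at h2
  push_neg at h2
  obtain ⟨j, hj, h2⟩ := h2
  obtain ⟨b, hb, hbp⟩ := SetLike.not_le_iff_exists.mp h2
  refine ⟨i + j, (DirectSum.decompose 𝒜 a i : A) * b, by omega,
    SetLike.GradedMul.mul_mem (SetLike.coe_mem _) hb, Ideal.mul_mem_right _ _ hai, ?_⟩
  intro h
  rcases p.isPrime.mem_or_mem h with h | h
  · exact hi h
  · exact hbp h

/-- A finite set of points of a scheme immersed in `Proj` lies in an affine open. -/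
theorem exists_affineOpen {X : Scheme.{u}} (ι : X ⟶ Proj 𝒜) [IsImmersion ι]
    (E : Set X) (hE : E.Finite) :
    ∃ U : X.Opens, IsAffineOpen U ∧ E ⊆ U := by
  classical
  set W : (Proj 𝒜).Opens := ι.coborderRange with hW
  set Zc : Set (ProjectiveSpectrum 𝒜) := ((W : Set (Proj 𝒜))ᶜ : Set (Proj 𝒜)) with hZc
  have hZcl : IsClosed Zc := W.isOpen.isClosed_compl
  set 𝔞 := ProjectiveSpectrum.vanishingIdeal Zc with h𝔞
  set S : Finset (Ideal A) :=
    hE.toFinset.image (fun e => (show ProjectiveSpectrum 𝒜 from ι.base e).asHomogeneousIdeal.toIdeal)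
    with hS
  have hS' : ∀ P ∈ S, P.IsPrime ∧ ∃ (e : ℕ) (y : A), 0 < e ∧ y ∈ 𝒜 e ∧ y ∈ 𝔞.toIdeal ∧ y ∉ P := by
    intro P hP
    rw [hS, Finset.mem_image] at hP
    obtain ⟨x, hx, rfl⟩ := hP
    refine ⟨ProjectiveSpectrum.isPrime _, ?_⟩
    apply exists_pos_homogeneous_of_notMem_closed 𝒜 Zc hZcl
    intro hcon
    apply hcon
    exact subset_coborder ⟨x, rfl⟩
  obtain ⟨d, f, hd, hfd, hfa, hfS⟩ := exists_homogeneous_notMem 𝒜 𝔞.toIdeal S hS'
  set D := Proj.basicOpen 𝒜 f with hD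
  have hDaff : IsAffineOpen D := Proj.isAffineOpen_basicOpen 𝒜 f hfd hd
  have hDW : D ≤ W := by
    intro q hq
    by_contra hqW
    have hq' : (show ProjectiveSpectrum 𝒜 from q) ∈ Zc := hqW
    have := (ProjectiveSpectrum.mem_vanishingIdeal Zc f).mp hfa _ hq'
    exact (Proj.mem_basicOpen 𝒜 f q).mp hq this
  refine ⟨ι ⁻¹ᵁ D, ?_, ?_⟩
  · have h1 : ι ⁻¹ᵁ D = ι.liftCoborder ⁻¹ᵁ (W.ι ⁻¹ᵁ D) := by
      rw [← Scheme.Hom.comp_preimage, Scheme.Hom.liftCoborder_ι]
    rw [h1]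
    have h2 : IsAffineOpen (W.ι ⁻¹ᵁ D) := by
      rw [← Scheme.Hom.isAffineOpen_iff_of_isOpenImmersion W.ι]
      rw [Scheme.Hom.image_preimage_eq_opensRange_inf, Scheme.Opens.opensRange_ι]
      rwa [inf_eq_right.mpr hDW]
    exact h2.preimage ι.liftCoborder
  · intro x hx
    have hxS : (show ProjectiveSpectrum 𝒜 from ι.base x).asHomogeneousIdeal.toIdeal ∈ S := by
      rw [hS, Finset.mem_image]
      exact ⟨x, hE.mem_toFinset.mpr hx, rfl⟩
    exact hfS _ hxS

end Geom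

end Groth.Agent.Lib.Helper61.ProjAvoid
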