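import Groth.Agent.Lib.Helper61.ProjAvoid
import Mathlib.Topology.KrullDimension
import Mathlib.Topology.NoetherianSpace
import Mathlib.Topology.Sober

/-! Covering a finite-dimensional subspace of `Proj` by `dim + 1` basic opens `D₊(h)` with `h` in a
prescribed homogeneous ideal (helper61). -/

set_option autoImplicit false
universe u

open TopologicalSpace Topology

namespace Groth.Agent.Lib.Helper61.ProjCover

section Top

/-- Dimension drops on a closed subset containing no irreducible component. -/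
theorem dim_lt_of_closed_of_components {S : Type*} [TopologicalSpace S] (Z : Set S) (hZ : IsClosed Z)
    (hcomp : ∀ C ∈ irreducibleComponents S, ¬ C ⊆ Z) (m : ℕ)
    (hdim : topologicalKrullDim S < ((m + 1 : ℕ) : WithBot ℕ∞)) :
    topologicalKrullDim ↥Z < ((m : ℕ) : WithBot ℕ∞) := by
  rw [topologicalKrullDim, Order.krullDim_lt_coe_iff] at hdim ⊢
  intro l
  have hind : IsInducing (Subtype.val : ↥Z → S) := IsInducing.subtypeVal
  let l' : LTSeries (IrreducibleCloseds S) :=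
    l.map (IrreducibleCloseds.map Subtype.val continuous_subtype_val)
      (IrreducibleCloseds.map_strictMono_of_isInducing hind)
  have hlast : (l'.last : Set S) ⊆ Z := by
    have : (l'.last : Set S) = closure (Subtype.val '' (l.last : Set ↥Z)) := by
      rw [LTSeries.last_map]; rfl
    rw [this]
    apply hZ.closure_subset_iff.mpr
    rintro _ ⟨z, -, rfl⟩
    exact z.2
  obtain ⟨u, hu1, hu2, hu3⟩ :=
    exists_preirreducible (l'.last : Set S) l'.last.isIrreducible.isPreirreducible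
  have hu_irr : IsIrreducible u := ⟨l'.last.isIrreducible.nonempty.mono hu2, hu1⟩
  have hu_comp : u ∈ irreducibleComponents S := by
    refine ⟨hu_irr, fun v hv huv => ?_⟩
    exact (hu3 v hv.isPreirreducible huv).le
  let C' : IrreducibleCloseds S := ⟨u, hu_irr, isClosed_of_mem_irreducibleComponents u hu_comp⟩
  have hlt : l'.last < C' := by
    refine lt_of_le_of_ne hu2 ?_
    intro heq
    apply hcomp u hu_comp
    have : (l'.last : Set S) = u := congrArg (fun c : IrreducibleCloseds S => (c : Set S)) heq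
    rw [← this]
    exact hlast
  have := hdim (l'.snoc C' hlt)
  rw [RelSeries.snoc_length] at this
  have hl' : l'.length = l.length := rfl
  omega

/-- A space with no chains at all is empty. -/
theorem isEmpty_of_dim_lt_zero {S : Type*} [TopologicalSpace S]
    (hdim : topologicalKrullDim S < ((0 : ℕ) : WithBot ℕ∞)) : IsEmpty S := by
  rw [topologicalKrullDim, Order.krullDim_lt_coe_iff] at hdim
  refine ⟨fun s => ?_⟩
  let c : IrreducibleCloseds S := ⟨closure {s}, isIrreducible_singleton.closure, isClosed_closure⟩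
  have := hdim (RelSeries.singleton _ c)
  simp at this

end Top

section ProjPart

open AlgebraicGeometry CategoryTheory Groth.Agent.Lib.Helper61.ProjAvoid

variable {σ : Type*} {A : Type u} [CommRing A] [SetLike σ A] [AddSubgroupClass σ A] (𝒜 : ℕ → σ)
  [GradedRing 𝒜]

theorem exists_pos_homogeneous_of_notMem_zeroLocus (𝔞 : HomogeneousIdeal 𝒜)
    (p : ProjectiveSpectrum 𝒜) (hp : p ∉ ProjectiveSpectrum.zeroLocus 𝒜 (𝔞 : Set A)) :
    ∃ (e : ℕ) (y : A), 0 < e ∧ y ∈ 𝒜 e ∧ y ∈ 𝔞.toIdeal ∧ y ∉ p.asHomogeneousIdeal.toIdeal := by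
  classical
  rw [ProjectiveSpectrum.mem_zeroLocus, Set.not_subset] at hp
  obtain ⟨a, ha, hap⟩ := hp
  obtain ⟨i, hi⟩ : ∃ i, (DirectSum.decompose 𝒜 a i : A) ∉ p.asHomogeneousIdeal.toIdeal := by
    by_contra hcon
    push Not at hcon
    apply hap
    rw [← DirectSum.sum_support_decompose 𝒜 a]
    exact Ideal.sum_mem _ (fun i _ => hcon i)
  have hai : (DirectSum.decompose 𝒜 a i : A) ∈ 𝔞.toIdeal := 𝔞.isHomogeneous i ha
  have h2 := p.not_irrelevant_le
  rw [HomogeneousIdeal.irrelevant_le] at h2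
  push Not at h2
  obtain ⟨j, hj, h2⟩ := h2
  obtain ⟨b, hb, hbp⟩ := SetLike.not_le_iff_exists.mp h2
  refine ⟨i + j, (DirectSum.decompose 𝒜 a i : A) * b, by omega,
    SetLike.GradedMul.mul_mem (SetLike.coe_mem _) hb, Ideal.mul_mem_right _ _ hai, ?_⟩
  intro h
  rcases p.isPrime.mem_or_mem h with h | h
  · exact hi h
  · exact hbp h

/-- A space of dimension `< m` mapping inducingly to `Proj 𝒜` away from `V(𝔞)` is covered by the
preimages of `m` basic opens `D₊(h j)` with `h j ∈ 𝔞` homogeneous of positive degree. -/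
theorem exists_cover [NoetherianSpace (Proj 𝒜)] (𝔞 : HomogeneousIdeal 𝒜) :
    ∀ (m : ℕ) (S : Type u) [TopologicalSpace S] (φ : S → Proj 𝒜) (_ : IsInducing φ)
      (_ : ∀ s, φ s ∉ ProjectiveSpectrum.zeroLocus 𝒜 (𝔞 : Set A))
      (_ : topologicalKrullDim S < ((m : ℕ) : WithBot ℕ∞)),
      ∃ h : Fin m → A, (∀ j, ∃ d, 0 < d ∧ h j ∈ 𝒜 d) ∧ (∀ j, h j ∈ 𝔞.toIdeal) ∧
        ∀ s, ∃ j, φ s ∈ Proj.basicOpen 𝒜 (h j) := by
  intro m
  induction m with
  | zero =>
    intro S _ φ hφ hdisj hdim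
    have := isEmpty_of_dim_lt_zero hdim
    exact ⟨Fin.elim0, fun j => j.elim0, fun j => j.elim0, fun s => isEmptyElim s⟩
  | succ m ih =>
    intro S _ φ hφ hdisj hdim
    classical
    have : NoetherianSpace S := hφ.noetherianSpace
    have hfin : (irreducibleComponents S).Finite := NoetherianSpace.finite_irreducibleComponents
    have := hfin.fintype
    let ξ : irreducibleComponents S → Proj 𝒜 :=
      fun C => (C.2.1.image φ hφ.continuous.continuousOn).genericPoint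
    have hξ : ∀ C, IsGenericPoint (ξ C) (closure (φ '' C.1)) :=
      fun C => IsIrreducible.isGenericPoint_genericPoint_closure _
    have hξ_mem : ∀ (C : irreducibleComponents S) (Y : Set (Proj 𝒜)), IsClosed Y →
        (ξ C ∈ Y ↔ φ '' C.1 ⊆ Y) := by
      intro C Y hY
      rw [(hξ C).mem_closed_set_iff hY, hY.closure_subset_iff]
    let Sfin : Finset (Ideal A) := Finset.univ.image
      (fun C : irreducibleComponents S =>
        (show ProjectiveSpectrum 𝒜 from ξ C).asHomogeneousIdeal.toIdeal)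
    have hS' : ∀ P ∈ Sfin, P.IsPrime ∧
        ∃ (e : ℕ) (y : A), 0 < e ∧ y ∈ 𝒜 e ∧ y ∈ 𝔞.toIdeal ∧ y ∉ P := by
      intro P hP
      obtain ⟨C, -, rfl⟩ := Finset.mem_image.mp hP
      refine ⟨ProjectiveSpectrum.isPrime _, ?_⟩
      apply exists_pos_homogeneous_of_notMem_zeroLocus 𝒜 𝔞
      intro hmem
      have := (hξ_mem C _ (ProjectiveSpectrum.isClosed_zeroLocus 𝒜 (𝔞 : Set A))).mp hmem
      obtain ⟨s, hs⟩ := C.2.1.nonempty
      exact hdisj s (this ⟨s, hs, rfl⟩)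
    obtain ⟨d, f, hd, hfd, hfa, hfS⟩ := exists_homogeneous_notMem 𝒜 𝔞.toIdeal Sfin hS'
    let Z : Set S := φ ⁻¹' (ProjectiveSpectrum.zeroLocus 𝒜 ({f} : Set A))
    have hZ : IsClosed Z := (ProjectiveSpectrum.isClosed_zeroLocus 𝒜 _).preimage hφ.continuous
    have hcomp : ∀ C ∈ irreducibleComponents S, ¬ C ⊆ Z := by
      intro C hC hCZ
      have h1 : φ '' C ⊆ ProjectiveSpectrum.zeroLocus 𝒜 ({f} : Set A) := by
        rintro _ ⟨s, hs, rfl⟩
        exact hCZ hs
      have h2 := (hξ_mem ⟨C, hC⟩ _ (ProjectiveSpectrum.isClosed_zeroLocus 𝒜 _)).mpr h1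
      have h3 : f ∈ (show ProjectiveSpectrum 𝒜 from ξ ⟨C, hC⟩).asHomogeneousIdeal.toIdeal :=
        h2 (Set.mem_singleton f)
      exact hfS _ (Finset.mem_image.mpr ⟨⟨C, hC⟩, Finset.mem_univ _, rfl⟩) h3
    have hdim' := dim_lt_of_closed_of_components Z hZ hcomp m hdim
    obtain ⟨h', hh'1, hh'2, hh'3⟩ := ih (↥Z) (φ ∘ Subtype.val) (hφ.comp IsInducing.subtypeVal)
      (fun s => hdisj s.1) hdim'
    refine ⟨Fin.cons f h', ?_, ?_, ?_⟩
    · intro j
      refine Fin.cases ?_ (fun j => ?_) j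
      · exact ⟨d, hd, by simpa using hfd⟩
      · simpa using hh'1 j
    · intro j
      refine Fin.cases ?_ (fun j => ?_) j
      · simpa using hfa
      · simpa using hh'2 j
    · intro s
      by_cases hs : s ∈ Z
      · obtain ⟨j, hj⟩ := hh'3 ⟨s, hs⟩
        exact ⟨j.succ, by simpa using hj⟩
      · refine ⟨0, ?_⟩
        rw [Fin.cons_zero, Proj.mem_basicOpen]
        intro hmem
        apply hs
        change φ s ∈ ProjectiveSpectrum.zeroLocus 𝒜 ({f} : Set A)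
        exact (ProjectiveSpectrum.mem_zeroLocus 𝒜 (show ProjectiveSpectrum 𝒜 from φ s) _).mpr
          (Set.singleton_subset_iff.mpr hmem)

end ProjPart

section Apps

open AlgebraicGeometry CategoryTheory Groth.Agent.Lib.Helper61.ProjAvoid

variable {σ : Type*} {A : Type u} [CommRing A] [SetLike σ A] [AddSubgroupClass σ A] (𝒜 : ℕ → σ)
  [GradedRing 𝒜]

/-- For an immersion `ι : X ⟶ Proj 𝒜` and homogeneous `f` of positive degree vanishing on the
complement of the coborder of the image, `ι⁻¹ D₊(f)` is affine. -/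
theorem isAffineOpen_preimage_basicOpen {X : Scheme.{u}} (ι : X ⟶ Proj 𝒜) [IsImmersion ι] (f : A)
    {d : ℕ} (hd : 0 < d) (hfd : f ∈ 𝒜 d)
    (hfa : f ∈ (ProjectiveSpectrum.vanishingIdeal (𝒜 := 𝒜)
      (((ι.coborderRange : (Proj 𝒜).Opens) : Set (Proj 𝒜))ᶜ)).toIdeal) :
    IsAffineOpen (ι ⁻¹ᵁ Proj.basicOpen 𝒜 f) := by
  set W : (Proj 𝒜).Opens := ι.coborderRange with hW
  set D := Proj.basicOpen 𝒜 f with hD
  have hDaff : IsAffineOpen D := Proj.isAffineOpen_basicOpen 𝒜 f hfd hd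
  have hDW : D ≤ W := by
    intro q hq
    by_contra hqW
    have hq' : (show ProjectiveSpectrum 𝒜 from q) ∈ ((W : Set (Proj 𝒜))ᶜ : Set (Proj 𝒜)) := hqW
    have := (ProjectiveSpectrum.mem_vanishingIdeal _ f).mp hfa _ hq'
    exact (Proj.mem_basicOpen 𝒜 f q).mp hq this
  have h1 : ι ⁻¹ᵁ D = ι.liftCoborder ⁻¹ᵁ (W.ι ⁻¹ᵁ D) := by
    rw [← Scheme.Hom.comp_preimage, Scheme.Hom.liftCoborder_ι]
  rw [h1]
  have h2 : IsAffineOpen (W.ι ⁻¹ᵁ D) := by
    rw [← Scheme.Hom.isAffineOpen_iff_of_isOpenImmersion W.ι]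
    rw [Scheme.Hom.image_preimage_eq_opensRange_inf, Scheme.Opens.opensRange_ι]
    rwa [inf_eq_right.mpr hDW]
  exact h2.preimage ι.liftCoborder

/-- A scheme of dimension `r` immersed in `Proj 𝒜` (Noetherian) is covered by `r + 1` affine
opens. -/
theorem exists_affine_cover [NoetherianSpace (Proj 𝒜)] {X : Scheme.{u}} (ι : X ⟶ Proj 𝒜)
    [IsImmersion ι] (r : ℕ) (hX : topologicalKrullDim ↥X = r) :
    ∃ U : Fin (r + 1) → X.Opens, (∀ i, IsAffineOpen (U i)) ∧ ⨆ i, U i = ⊤ := by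
  set W : (Proj 𝒜).Opens := ι.coborderRange with hW
  set Zc : Set (ProjectiveSpectrum 𝒜) := ((W : Set (Proj 𝒜))ᶜ : Set (Proj 𝒜)) with hZc
  have hZcl : IsClosed Zc := W.isOpen.isClosed_compl
  set 𝔞 := ProjectiveSpectrum.vanishingIdeal Zc with h𝔞
  have hzl : ProjectiveSpectrum.zeroLocus 𝒜 (𝔞 : Set A) = Zc := by
    rw [ProjectiveSpectrum.zeroLocus_vanishingIdeal_eq_closure, hZcl.closure_eq]
  have hdisj : ∀ x : X, ι.base x ∉ ProjectiveSpectrum.zeroLocus 𝒜 (𝔞 : Set A) := by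
    intro x hx
    rw [hzl] at hx
    exact hx (subset_coborder ⟨x, rfl⟩)
  have hdim : topologicalKrullDim ↥X < ((r + 1 : ℕ) : WithBot ℕ∞) := by
    rw [hX]
    exact_mod_cast Nat.lt_succ_self r
  obtain ⟨h, hh1, hh2, hh3⟩ := exists_cover 𝒜 𝔞 (r + 1) X ι.base ι.isEmbedding.isInducing
    hdisj hdim
  refine ⟨fun i => ι ⁻¹ᵁ Proj.basicOpen 𝒜 (h i), fun i => ?_, ?_⟩
  · obtain ⟨d, hd, hfd⟩ := hh1 i
    exact isAffineOpen_preimage_basicOpen 𝒜 ι (h i) hd hfd (hh2 i)
  · rw [eq_top_iff]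
    intro x _
    obtain ⟨j, hj⟩ := hh3 x
    exact TopologicalSpace.Opens.mem_iSup.mpr ⟨j, hj⟩

/-- `r + 1` hypersurfaces through a closed `Y` whose complements cover `X ∖ Y`, for closed
`X` of dimension `r` in `Proj 𝒜`. -/
theorem exists_hypersurfaces [NoetherianSpace (Proj 𝒜)] {X Y : Scheme.{u}} (iX : X ⟶ Proj 𝒜)
    (iY : Y ⟶ Proj 𝒜) [IsClosedImmersion iX] [IsClosedImmersion iY] (r : ℕ)
    (hX : topologicalKrullDim ↥X = r) :
    ∃ (h : Fin (r + 1) → A),
      (∀ j, ∃ d : ℕ, 0 < d ∧ h j ∈ 𝒜 d) ∧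
      (∀ j, Set.range iY.base ⊆ ((Proj.basicOpen 𝒜 (h j) : (Proj 𝒜).Opens) : Set (Proj 𝒜))ᶜ) ∧
      (Set.range iX.base \ Set.range iY.base ⊆
        ⋃ j, ((Proj.basicOpen 𝒜 (h j) : (Proj 𝒜).Opens) : Set (Proj 𝒜))) ∧
      ∀ j, IsAffineOpen (iX ⁻¹ᵁ (Proj.basicOpen 𝒜 (h j))) := by
  set RY : Set (ProjectiveSpectrum 𝒜) := Set.range iY.base with hRY
  have hRYcl : IsClosed RY := iY.isClosedEmbedding.isClosed_range
  set 𝔞 := ProjectiveSpectrum.vanishingIdeal RY with h𝔞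
  have hzl : ProjectiveSpectrum.zeroLocus 𝒜 (𝔞 : Set A) = RY := by
    rw [ProjectiveSpectrum.zeroLocus_vanishingIdeal_eq_closure, hRYcl.closure_eq]
  let T : Set X := (iX.base ⁻¹' RY)ᶜ
  have hdisj : ∀ s : ↥T, (iX.base ∘ Subtype.val) s ∉
      ProjectiveSpectrum.zeroLocus 𝒜 (𝔞 : Set A) := by
    intro s hs
    rw [hzl] at hs
    exact s.2 hs
  have hdim : topologicalKrullDim ↥T < ((r + 1 : ℕ) : WithBot ℕ∞) := by
    refine lt_of_le_of_lt (topologicalKrullDim_subspace_le X T) ?_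
    rw [hX]
    exact_mod_cast Nat.lt_succ_self r
  obtain ⟨h, hh1, hh2, hh3⟩ := exists_cover 𝒜 𝔞 (r + 1) ↥T (iX.base ∘ Subtype.val)
    (iX.isEmbedding.isInducing.comp IsInducing.subtypeVal) hdisj hdim
  refine ⟨h, hh1, ?_, ?_, ?_⟩
  · intro j y hy hyD
    have := (ProjectiveSpectrum.mem_vanishingIdeal _ (h j)).mp (hh2 j) _ hy
    exact (Proj.mem_basicOpen 𝒜 (h j) y).mp hyD this
  · rintro _ ⟨⟨x, rfl⟩, hxY⟩
    obtain ⟨j, hj⟩ := hh3 ⟨x, hxY⟩
    exact Set.mem_iUnion.mpr ⟨j, hj⟩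
  · intro j
    obtain ⟨d, hd, hfd⟩ := hh1 j
    exact (Proj.isAffineOpen_basicOpen 𝒜 (h j) hfd hd).preimage iX

end Apps

end Groth.Agent.Lib.Helper61.ProjCover
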