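/-
Helper library (helper61): affine charts for quasi-coherent modules and their pullbacks.
-/
import Mathlib
import Groth.Agent.Lib.Helper11.TildePullback
import Groth.Agent.Lib.Helper13.OmegaZero

set_option autoImplicit false
universe u
open CategoryTheory CategoryTheory.Limits AlgebraicGeometry TensorProduct

namespace Groth.Agent.Lib.Helper61.QCohChart

/-- On an affine open, a quasi-coherent module is the `tilde` of a module. -/
theorem exists_tilde_iso {Y : Scheme.{u}} (G : Y.Modules) [G.IsQuasicoherent] {V : Y.Opens}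
    (hV : IsAffineOpen V) :
    ∃ M : ModuleCat.{u} Γ(Y, V), Nonempty ((Scheme.Modules.pullback hV.fromSpec).obj G ≅ tilde M) := by
  have h1 : ((Scheme.Modules.restrictFunctor hV.fromSpec).obj G).IsQuasicoherent := inferInstance
  have h2 : (tilde.functor Γ(Y, V)).essImage ((Scheme.Modules.restrictFunctor hV.fromSpec).obj G) := by
    rw [essImage_tilde]
    exact h1
  obtain ⟨M, ⟨e⟩⟩ := h2
  exact ⟨M, ⟨((Scheme.Modules.restrictFunctorIsoPullback hV.fromSpec).app G).symm ≪≫ e.symm⟩⟩

/-- The chart of a pullback: over affine opens `U ⊆ f⁻¹ V`, the pullback of `G` is the `tilde` of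
the base change of the module of `G` on `V`. -/
theorem chart_pullback {X Y : Scheme.{u}} (f : X ⟶ Y) (G : Y.Modules) {V : Y.Opens}
    (hV : IsAffineOpen V) {U : X.Opens} (hU : IsAffineOpen U) (e : U ≤ f ⁻¹ᵁ V)
    (M : ModuleCat.{u} Γ(Y, V)) (i : (Scheme.Modules.pullback hV.fromSpec).obj G ≅ tilde M) :
    letI := (f.appLE V U e).hom.toAlgebra
    Nonempty ((Scheme.Modules.pullback hU.fromSpec).obj ((Scheme.Modules.pullback f).obj G) ≅
      tilde (ModuleCat.of Γ(X, U) (Γ(X, U) ⊗[Γ(Y, V)] M))) := by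
  letI := (f.appLE V U e).hom.toAlgebra
  have hcomm : Spec.map (f.appLE V U e) ≫ hV.fromSpec = hU.fromSpec ≫ f :=
    IsAffineOpen.SpecMap_appLE_fromSpec f hV hU e
  let e1 : (Scheme.Modules.pullback hU.fromSpec).obj ((Scheme.Modules.pullback f).obj G) ≅
      (Scheme.Modules.pullback (hU.fromSpec ≫ f)).obj G :=
    (Scheme.Modules.pullbackComp hU.fromSpec f).app G
  let e2 : (Scheme.Modules.pullback (hU.fromSpec ≫ f)).obj G ≅
      (Scheme.Modules.pullback (Spec.map (f.appLE V U e) ≫ hV.fromSpec)).obj G :=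
    (Scheme.Modules.pullbackCongr hcomm.symm).app G
  let e3 : (Scheme.Modules.pullback (Spec.map (f.appLE V U e) ≫ hV.fromSpec)).obj G ≅
      (Scheme.Modules.pullback (Spec.map (f.appLE V U e))).obj
        ((Scheme.Modules.pullback hV.fromSpec).obj G) :=
    ((Scheme.Modules.pullbackComp (Spec.map (f.appLE V U e)) hV.fromSpec).app G).symm
  let e4 := (Scheme.Modules.pullback (Spec.map (f.appLE V U e))).mapIso i
  obtain ⟨e5⟩ := Groth.Agent.Lib.Helper11.nonempty_pullback_tilde_iso Γ(Y, V) Γ(X, U) M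
  exact ⟨e1 ≪≫ e2 ≪≫ e3 ≪≫ e4 ≪≫ e5⟩

/-- If the pullback of `G` along `f` vanishes then so do the base changes of its chart modules. -/
theorem subsingleton_of_isZero_pullback {X Y : Scheme.{u}} (f : X ⟶ Y) (G : Y.Modules)
    {V : Y.Opens} (hV : IsAffineOpen V) {U : X.Opens} (hU : IsAffineOpen U) (e : U ≤ f ⁻¹ᵁ V)
    (M : ModuleCat.{u} Γ(Y, V)) (i : (Scheme.Modules.pullback hV.fromSpec).obj G ≅ tilde M)
    (h : IsZero ((Scheme.Modules.pullback f).obj G)) :
    letI := (f.appLE V U e).hom.toAlgebra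
    Subsingleton (Γ(X, U) ⊗[Γ(Y, V)] M) := by
  letI := (f.appLE V U e).hom.toAlgebra
  obtain ⟨j⟩ := chart_pullback f G hV hU e M i
  have h1 : IsZero ((Scheme.Modules.pullback hU.fromSpec).obj ((Scheme.Modules.pullback f).obj G)) :=
    (Scheme.Modules.pullback hU.fromSpec).map_isZero h
  have h2 := h1.of_iso j.symm
  exact (Groth.Agent.Lib.Helper13.OmegaZero.isZero_tilde_iff _).mp h2

end Groth.Agent.Lib.Helper61.QCohChart
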