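import Mathlib

/-!
# Glue for quasi-finite slices through a closed point of a fibre (helper61)
-/

set_option autoImplicit false
universe u

open AlgebraicGeometry CategoryTheory Limits IsLocalRing

namespace Groth.Agent.Lib.Helper61.QFSlice

set_option backward.isDefEq.respectTransparency.types false in
/-- A point closed in its fibre of a morphism locally of finite type has residue field finite over
that of its image. -/
theorem finite_residueFieldMap_of_isClosed_fibre {X S : Scheme.{u}} (f : X ⟶ S)
    [LocallyOfFiniteType f] (x : X)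
    (hcl : IsClosed (Subtype.val ⁻¹' {x} : Set ↑(f ⁻¹' {f x}))) :
    (f.residueFieldMap x).hom.Finite := by
  have hcl' : IsClosed ({f.asFiber x} : Set ↥(f.fiber (f x))) := by
    have h1 : ({f.asFiber x} : Set ↥(f.fiber (f x))) =
        (f.fiberHomeo (f x)) ⁻¹' (Subtype.val ⁻¹' {x}) := by
      ext y
      simp only [Set.mem_singleton_iff, Set.mem_preimage]
      constructor
      · rintro rfl
        simp
      · intro h
        apply (f.fiberHomeo (f x)).injective
        apply Subtype.ext
        rw [h]
        simp [Scheme.Hom.asFiber]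
    rw [h1]
    exact hcl.preimage (f.fiberHomeo (f x)).continuous
  have h2 : IsClosedImmersion (f.asFiberHom x) :=
    .of_isPreimmersion _ (by rw [Scheme.Hom.range_asFiberHom]; exact hcl')
  have h3 : LocallyOfFiniteType (f.fiberToSpecResidueField (f x)) :=
    MorphismProperty.pullback_snd _ _ inferInstance
  have h4 : LocallyOfFiniteType (f.asFiberHom x ≫ f.fiberToSpecResidueField (f x)) :=
    inferInstance
  rw [Scheme.Hom.asFiberHom_fiberToSpecResidueField,
    HasRingHomProperty.Spec_iff (P := @LocallyOfFiniteType)] at h4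
  exact (RingHom.finite_iff_finiteType_of_isJacobsonRing).mpr h4


/-- Sections not invertible at `z` lie in the vanishing ideal of the closure of `z`. -/
theorem mem_vanishingIdeal_closure_of_notMem_basicOpen {X : Scheme.{u}} (z : X)
    (U : X.affineOpens) (s : Γ(X, U.1)) (hzs : z ∉ X.basicOpen s) :
    s ∈ (Scheme.IdealSheafData.vanishingIdeal (X := X) (.closure {z})).ideal U := by
  rw [Scheme.IdealSheafData.vanishingIdeal_ideal, PrimeSpectrum.mem_vanishingIdeal]
  intro p hp
  by_contra hsp
  have h1 : p ∈ (PrimeSpectrum.basicOpen s : Set _) := hsp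
  have h2 : U.2.fromSpec p ∈ X.basicOpen s := by
    rw [← U.2.fromSpec_image_basicOpen]
    exact ⟨p, h1, rfl⟩
  have h3 : z ⤳ U.2.fromSpec p := by
    have : U.2.fromSpec p ∈ closure ({z} : Set X) := hp
    exact specializes_iff_mem_closure.mpr this
  exact hzs (h3.mem_open (X.basicOpen s).isOpen h2)

/-- Germs at a point of a closed subscheme that vanish at `z` die in the subscheme, provided the
ideal sheaf contains all sections vanishing at `z`. -/
theorem stalkMap_subschemeι_eq_zero {X : Scheme.{u}} (z : X) (I : X.IdealSheafData)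
    (hI : ∀ (U : X.affineOpens) (s : Γ(X, U.1)), z ∉ X.basicOpen s → s ∈ I.ideal U)
    (x₀ : ↥I.subscheme) (hzx : z ⤳ I.subschemeι x₀)
    (g : X.presheaf.stalk (I.subschemeι x₀))
    (hg : X.presheaf.stalkSpecializes hzx g ∈ maximalIdeal (X.presheaf.stalk z)) :
    (I.subschemeι.stalkMap x₀) g = 0 := by
  -- represent `g` on an affine open
  obtain ⟨U', hxU', s', rfl⟩ := X.presheaf.exists_germ_eq g
  obtain ⟨_, ⟨U, hU : IsAffineOpen U, rfl⟩, hxU, hUU'⟩ :=
    X.isBasis_affineOpens.exists_subset_of_mem_open hxU' U'.isOpen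
  let s : Γ(X, U) := X.presheaf.map (homOfLE hUU').op s'
  have hs : X.presheaf.germ U _ hxU s = X.presheaf.germ U' _ hxU' s' :=
    X.presheaf.germ_res_apply (homOfLE hUU') _ hxU s'
  rw [← hs] at hg ⊢
  have hzU : z ∈ U := hzx.mem_open U.isOpen hxU
  have hgz : X.presheaf.stalkSpecializes hzx (X.presheaf.germ U _ hxU s) =
      X.presheaf.germ U z hzU s := by
    rw [← CommRingCat.comp_apply, X.presheaf.germ_stalkSpecializes]
  rw [hgz] at hg
  have hzs : z ∉ X.basicOpen s := by
    rw [Scheme.mem_basicOpen _ _ _ hzU]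
    exact hg
  have hsI : s ∈ I.ideal ⟨U, hU⟩ := hI ⟨U, hU⟩ s hzs
  have h0 : (I.subschemeι.app U).hom s = 0 := by
    have := I.ker_subschemeι_app ⟨U, hU⟩
    rw [← this] at hsI
    exact hsI
  have := I.subschemeι.germ_stalkMap_apply U x₀ hxU s
  rw [this]
  show (I.subscheme.presheaf.germ _ x₀ _) ((I.subschemeι.app U).hom s) = 0
  rw [h0, map_zero]

end Groth.Agent.Lib.Helper61.QFSlice
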