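import Mathlib
import Groth.Agent.S1394
import Groth.Agent.Lib.Helper61.QFSlice

/-!
# Quasi-finite slices through a point closed in its fibre (helper61)

`exists_quasiFinite_slice`: for `f : X ⟶ S` locally of finite type over a locally Noetherian base,
`x` closed in its fibre and `x' ⤳ x` a generization in an open `U` outside the fibre, the reduced
closure of a suitable point `z ∈ U` is quasi-finite over `S` at `x` (Stacks, More on Morphisms).
-/

set_option autoImplicit false
universe u

open AlgebraicGeometry CategoryTheory Limits IsLocalRing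
open Groth.Agent.Lib.Helper61.QFSlice

namespace Groth.Agent.Lib.Helper61.QFSlice2

/-- points of `Spec 𝒪_{X,x}` lying over the closed point of `Spec 𝒪_{S,f x}` are exactly those
mapping into the fibre of `f x`. -/
theorem comap_eq_maximalIdeal_iff {X S : Scheme.{u}} (f : X ⟶ S) (x : X)
    (q : PrimeSpectrum (X.presheaf.stalk x)) :
    q.asIdeal.comap (f.stalkMap x).hom = maximalIdeal (S.presheaf.stalk (f x)) ↔
      f (X.fromSpecStalk x q) = f x := by
  have hnat := Scheme.SpecMap_stalkMap_fromSpecStalk f (x := x)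
  have h1 : f (X.fromSpecStalk x q) =
      S.fromSpecStalk (f x) (Spec.map (f.stalkMap x) q) := by
    have := congrArg (fun g : Spec (X.presheaf.stalk x) ⟶ S => g q) hnat
    exact this.symm
  have h2 : S.fromSpecStalk (f x) (closedPoint (S.presheaf.stalk (f x))) = f x :=
    Scheme.fromSpecStalk_closedPoint
  have hinj : Function.Injective (S.fromSpecStalk (f x)) :=
    (S.fromSpecStalk (f x)).isEmbedding.injective
  have h3 : (Spec.map (f.stalkMap x) q) = closedPoint (S.presheaf.stalk (f x)) ↔
      q.asIdeal.comap (f.stalkMap x).hom = maximalIdeal (S.presheaf.stalk (f x)) := by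
    constructor
    · intro h
      exact congrArg PrimeSpectrum.asIdeal h
    · intro h
      exact PrimeSpectrum.ext h
  rw [← h3, h1]
  constructor
  · intro h; rw [h, h2]
  · intro h; exact hinj (h.trans h2.symm)

theorem asIdeal_eq_comap_stalkSpecializes {X : Scheme.{u}} (x z : X) (hzx : z ⤳ x)
    (q : PrimeSpectrum (X.presheaf.stalk x)) (hq : X.fromSpecStalk x q = z) :
    q.asIdeal = (maximalIdeal (X.presheaf.stalk z)).comap (X.presheaf.stalkSpecializes hzx).hom := by
  have h := Scheme.SpecMap_stalkSpecializes_fromSpecStalk hzx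
  have h1 := congrArg (fun g : Spec (X.presheaf.stalk z) ⟶ X => g (closedPoint _)) h
  have h2 : X.fromSpecStalk x (Spec.map (X.presheaf.stalkSpecializes hzx) (closedPoint _)) = z :=
    h1.trans Scheme.fromSpecStalk_closedPoint
  have hinj : Function.Injective (X.fromSpecStalk x) :=
    (X.fromSpecStalk x).isEmbedding.injective
  have h3 := hinj (hq.trans h2.symm)
  rw [h3]
  rfl


theorem quasiFiniteAt_subschemeι_comp {X S : Scheme.{u}} (f : X ⟶ S) (x : X)
    (q : PrimeSpectrum (X.presheaf.stalk x))
    (hqf : ((Ideal.Quotient.mk q.asIdeal).comp (f.stalkMap x).hom).QuasiFinite)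
    (I : X.IdealSheafData)
    (hI : ∀ (U : X.affineOpens) (s : Γ(X, U.1)), X.fromSpecStalk x q ∉ X.basicOpen s → s ∈ I.ideal U)
    (x₀ : ↥I.subscheme) (hx₀ : I.subschemeι x₀ = x) :
    (I.subschemeι ≫ f).QuasiFiniteAt x₀ := by
  subst hx₀
  set z : X := X.fromSpecStalk (I.subschemeι x₀) q with hz
  have hzx : z ⤳ I.subschemeι x₀ := by
    have : z ∈ Set.range (X.fromSpecStalk (I.subschemeι x₀)) := ⟨q, rfl⟩
    rw [Scheme.range_fromSpecStalk] at this
    exact this
  have hq := asIdeal_eq_comap_stalkSpecializes (I.subschemeι x₀) z hzx q rfl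
  have hker : ∀ g ∈ q.asIdeal, (I.subschemeι.stalkMap x₀).hom g = 0 := by
    intro g hg
    rw [hq] at hg
    exact stalkMap_subschemeι_eq_zero z I hI x₀ hzx g hg
  have hsurj : Function.Surjective (I.subschemeι.stalkMap x₀).hom :=
    I.subschemeι.stalkMap_surjective x₀
  let φ' : (X.presheaf.stalk (I.subschemeι x₀)) ⧸ q.asIdeal →+* I.subscheme.presheaf.stalk x₀ :=
    Ideal.Quotient.lift q.asIdeal (I.subschemeι.stalkMap x₀).hom hker
  have hφ' : Function.Surjective φ' := Ideal.Quotient.lift_surjective_of_surjective _ _ hsurj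
  have h1 : φ'.QuasiFinite := .of_finite (RingHom.Finite.of_surjective φ' hφ')
  have h2 := h1.comp hqf
  show ((I.subschemeι ≫ f).stalkMap x₀).hom.QuasiFinite
  rw [Scheme.Hom.stalkMap_comp]
  have heq : (f.stalkMap (I.subschemeι x₀) ≫ I.subschemeι.stalkMap x₀).hom =
      φ'.comp ((Ideal.Quotient.mk q.asIdeal).comp (f.stalkMap (I.subschemeι x₀)).hom) := by
    refine RingHom.ext fun a => ?_
    simp [φ']
  exact heq ▸ h2

set_option maxHeartbeats 400000 in
theorem exists_quasiFinite_slice {X S : Scheme.{u}} (f : X ⟶ S) [LocallyOfFiniteType f]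
    [IsLocallyNoetherian S] (x : X)
    (hcl : IsClosed (Subtype.val ⁻¹' {x} : Set ↑(f ⁻¹' {f x}))) (U : X.Opens)
    (x' : X) (hx'U : x' ∈ U) (hx'x : x' ⤳ x) (hfx' : f x' ≠ f x) :
    ∃ (I : X.IdealSheafData) (z₀ x₀ : ↑I.subscheme), I.subschemeι x₀ = x ∧
      (I.subschemeι ≫ f).QuasiFiniteAt x₀ ∧
      I.subschemeι z₀ ∈ U ∧ I.subschemeι z₀ ⤳ x ∧ f (I.subschemeι z₀) ≠ f x := by
  let A := S.presheaf.stalk (f x)
  let B := X.presheaf.stalk x
  algebraize [(f.stalkMap x).hom]
  have hloc : IsLocalHom (algebraMap A B) := inferInstanceAs (IsLocalHom (f.stalkMap x).hom)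
  have hess : Algebra.EssFiniteType A B := by
    rw [← RingHom.essFiniteType_algebraMap, RingHom.algebraMap_toAlgebra]
    exact LocallyOfFiniteType.stalkMap f x
  have hfin : Module.Finite (ResidueField A) (ResidueField B) := by
    have h := finite_residueFieldMap_of_isClosed_fibre f x hcl
    have halg : ((f.residueFieldMap x).hom.toAlgebra :
        Algebra (S.residueField (f x)) (X.residueField x)) =
        (inferInstance : Algebra (ResidueField A) (ResidueField B)) := by
      refine Algebra.algebra_ext _ _ fun y ↦ ?_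
      obtain ⟨y, rfl⟩ := IsLocalRing.residue_surjective y
      rfl
    have h' : @Module.Finite (S.residueField (f x)) (X.residueField x) _ _
        (f.residueFieldMap x).hom.toAlgebra.toModule := h
    rw [halg] at h'
    exact h'
  -- the open subset of `Spec B`
  let V : Set (PrimeSpectrum B) := (X.fromSpecStalk x) ⁻¹' (U : Set X)
  have hV : IsOpen V := U.isOpen.preimage (X.fromSpecStalk x).continuous
  have hne : ∃ q ∈ V, q.asIdeal.comap (algebraMap A B) ≠ maximalIdeal A := by
    have : x' ∈ Set.range (X.fromSpecStalk x) := by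
      rw [Scheme.range_fromSpecStalk]; exact hx'x
    obtain ⟨q', hq'⟩ := this
    refine ⟨q', ?_, ?_⟩
    · show X.fromSpecStalk x q' ∈ U
      rw [hq']; exact hx'U
    · intro h
      have := (comap_eq_maximalIdeal_iff f x q').mp h
      rw [hq'] at this
      exact hfx' this
  obtain ⟨q, hqV, hqne, hqf⟩ := Groth.Agent.S1394.result V hV hne
  let z : X := X.fromSpecStalk x q
  have hzU : z ∈ U := hqV
  have hzx : z ⤳ x := by
    have : z ∈ Set.range (X.fromSpecStalk x) := ⟨q, rfl⟩
    rw [Scheme.range_fromSpecStalk] at this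
    exact this
  have hfz : f z ≠ f x := fun h => hqne ((comap_eq_maximalIdeal_iff f x q).mpr h)
  let I : X.IdealSheafData := Scheme.IdealSheafData.vanishingIdeal (.closure {z})
  have hsupp : (I.support : Set X) = closure {z} :=
    Scheme.IdealSheafData.coe_support_vanishingIdeal _
  have hxr : x ∈ Set.range I.subschemeι := by
    rw [I.range_subschemeι, hsupp]; exact hzx.mem_closure
  have hzr : z ∈ Set.range I.subschemeι := by
    rw [I.range_subschemeι, hsupp]; exact subset_closure rfl
  obtain ⟨x₀, hx₀⟩ := hxr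
  obtain ⟨z₀, hz₀⟩ := hzr
  refine ⟨I, z₀, x₀, hx₀, ?_, hz₀ ▸ hzU, hz₀ ▸ hzx, hz₀ ▸ hfz⟩
  refine quasiFiniteAt_subschemeι_comp f x q (RingHom.quasiFinite_algebraMap.mpr hqf) I
    (fun U s h => mem_vanishingIdeal_closure_of_notMem_basicOpen z U s h) x₀ hx₀

end Groth.Agent.Lib.Helper61.QFSlice2
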