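import Mathlib
import Groth.Agent.Lib.Helper61.RadBir1

/-!
# Integral birational extensions: localization at a prime (helper61)

`IsBir R S` passes to the localizations at a prime `p` of `R`, and the local criterion of
`RadBir1` becomes a statement about the primes of `S` over `p`.
-/

set_option autoImplicit false
set_option linter.style.haveILetI false
universe u

open IsLocalRing

namespace Groth.Agent.Lib.Helper61.RadBir

section loc

variable {R S : Type u} [CommRing R] [CommRing S] [Algebra R S] (p : Ideal R) [p.IsPrime]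

local notation "M'" => Algebra.algebraMapSubmonoid S p.primeCompl
local notation "A" => Localization.AtPrime p
local notation "B" => Localization (Algebra.algebraMapSubmonoid S p.primeCompl)

theorem under_under (𝔔 : Ideal B) :
    ((𝔔.under A).under R) = (𝔔.under S).under R := by
  ext x
  simp only [Ideal.under, Ideal.mem_comap]
  rw [← IsScalarTower.algebraMap_apply R A B, ← IsScalarTower.algebraMap_apply R S B]

theorem under_le_of_ne_top (𝔓 : Ideal A) (h : 𝔓 ≠ ⊤) : 𝔓.under R ≤ p := by
  have := (IsLocalization.disjoint_under_iff p.primeCompl A 𝔓).mpr h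
  intro x hx
  by_contra hxp
  exact Set.disjoint_left.mp this hxp hx

theorem eq_of_under_eq {𝔓 𝔓' : Ideal A} (h : 𝔓.under R = 𝔓'.under R) : 𝔓 = 𝔓' := by
  rw [← IsLocalization.map_under p.primeCompl A 𝔓, ← IsLocalization.map_under p.primeCompl A 𝔓', h]

theorem eq_of_under_eq' {𝔔 𝔔' : Ideal B} (h : 𝔔.under S = 𝔔'.under S) : 𝔔 = 𝔔' := by
  rw [← IsLocalization.map_under M' B 𝔔, ← IsLocalization.map_under M' B 𝔔', h]

theorem mem_minimalPrimes_iff (𝔓 : Ideal A) :
    𝔓 ∈ minimalPrimes A ↔ 𝔓.under R ∈ minimalPrimes R := by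
  have := IsLocalization.minimalPrimes_map p.primeCompl A (⊥ : Ideal R)
  rw [Ideal.map_bot] at this
  show 𝔓 ∈ (⊥ : Ideal A).minimalPrimes ↔ _
  rw [this]
  rfl

theorem mem_minimalPrimes_iff' (𝔔 : Ideal B) :
    𝔔 ∈ minimalPrimes B ↔ 𝔔.under S ∈ minimalPrimes S := by
  have := IsLocalization.minimalPrimes_map M' B (⊥ : Ideal S)
  rw [Ideal.map_bot] at this
  show 𝔔 ∈ (⊥ : Ideal B).minimalPrimes ↔ _
  rw [this]
  rfl

theorem disjoint_of_under_le {Q : Ideal S} (h : Q.under R ≤ p) :
    Disjoint (M' : Set S) (Q : Set S) := by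
  rw [Set.disjoint_left]
  rintro _ ⟨m, hm, rfl⟩ hQ
  exact hm (h hQ)

/-- Birationality localizes. -/
theorem IsBir.localization (hbir : IsBir R S) : IsBir A B where
  comap_min 𝔔 h𝔔 := by
    rw [mem_minimalPrimes_iff]
    show (𝔔.under A).under R ∈ _
    rw [under_under]
    exact hbir.comap_min _ ((mem_minimalPrimes_iff' p 𝔔).mp h𝔔)
  exists_over 𝔓 h𝔓 := by
    have h𝔓p : 𝔓.IsPrime := h𝔓.1.1
    obtain ⟨Q, hQ, hQP⟩ := hbir.exists_over _ ((mem_minimalPrimes_iff p 𝔓).mp h𝔓)
    have hd : Disjoint (M' : Set S) (Q : Set S) :=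
      disjoint_of_under_le p (hQP.le.trans (under_le_of_ne_top p 𝔓 h𝔓p.ne_top))
    refine ⟨Q.map (algebraMap S B), IsLocalization.isPrime_of_isPrime_disjoint M' B Q hQ hd, ?_⟩
    apply eq_of_under_eq p
    show ((Q.map (algebraMap S B)).under A).under R = _
    rw [under_under, IsLocalization.under_map_of_isPrime_disjoint M' B hQ hd]
    exact hQP
  unique_over 𝔓 h𝔓 𝔔 𝔔' h𝔔 h𝔔' h1 h2 := by
    apply eq_of_under_eq' p
    refine hbir.unique_over _ ((mem_minimalPrimes_iff p 𝔓).mp h𝔓) _ _
      (Ideal.comap_isPrime _ _) (Ideal.comap_isPrime _ _) ?_ ?_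
    · show (𝔔.under S).under R = _
      rw [← under_under, ← h1]
    · show (𝔔'.under S).under R = _
      rw [← under_under, ← h2]
  frac 𝔓 h𝔓 𝔔 h𝔔 h𝔔𝔓 b := by
    have h𝔓p : 𝔓.IsPrime := h𝔓.1.1
    obtain ⟨⟨s, ⟨_, m, hm, rfl⟩⟩, hb⟩ := IsLocalization.surj M' b
    have hco : (𝔔.under S).under R = 𝔓.under R := by
      rw [← under_under, ← h𝔔𝔓]
    obtain ⟨a, r, hr, har⟩ := hbir.frac _ ((mem_minimalPrimes_iff p 𝔓).mp h𝔓) (𝔔.under S)
      (Ideal.comap_isPrime _ _) hco s
    have hPp : (𝔓.under R).IsPrime := Ideal.comap_isPrime _ _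
    refine ⟨algebraMap R A a, algebraMap R A (r * m), ?_, ?_⟩
    · intro h
      have h' : r * m ∈ 𝔓.under R := h
      rcases hPp.mem_or_mem h' with h1 | h1
      · exact hr h1
      · exact hm (under_le_of_ne_top p 𝔓 h𝔓p.ne_top h1)
    · have har' : algebraMap S B (algebraMap R S r * s - algebraMap R S a) ∈ 𝔔 := har
      have e1 : algebraMap A B (algebraMap R A (r * m)) * b - algebraMap A B (algebraMap R A a) =
          algebraMap S B (algebraMap R S r * s - algebraMap R S a) := by
        rw [← IsScalarTower.algebraMap_apply R A B, ← IsScalarTower.algebraMap_apply R A B,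
          IsScalarTower.algebraMap_apply R S B, IsScalarTower.algebraMap_apply R S B a,
          map_mul, map_mul, map_sub, map_mul, ← hb]
        ring
      rw [e1]
      exact har'

instance [Algebra.IsIntegral R S] : Algebra.IsIntegral A B :=
  algebraMap_isIntegral_iff.mp (isIntegral_localization (M := p.primeCompl) (Rₘ := A) (Sₘ := B))

/-- A prime of `S` over `p` gives a maximal ideal of `S_p`. -/
theorem map_isMaximal [Algebra.IsIntegral R S] (q : Ideal S) [hq : q.IsPrime]
    (hqp : q.under R = p) :
    (q.map (algebraMap S B)).IsMaximal ∧ (q.map (algebraMap S B)).under S = q := by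
  have hd : Disjoint (M' : Set S) (q : Set S) := disjoint_of_under_le p hqp.le
  have hpr : (q.map (algebraMap S B)).IsPrime :=
    IsLocalization.isPrime_of_isPrime_disjoint M' B q hq hd
  have hun : (q.map (algebraMap S B)).under S = q :=
    IsLocalization.under_map_of_isPrime_disjoint M' B hq hd
  refine ⟨?_, hun⟩
  have h1 : (q.map (algebraMap S B)).under A = maximalIdeal A := by
    apply eq_of_under_eq p
    rw [under_under, hun, hqp, IsLocalization.AtPrime.under_maximalIdeal A p]
  apply Ideal.isMaximal_of_isIntegral_of_isMaximal_comap (R := A) _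
  show ((q.map (algebraMap S B)).under A).IsMaximal
  rw [h1]
  infer_instance

/-- A maximal ideal of `S_p` contracts to a prime of `S` over `p`. -/
theorem under_under_of_isMaximal [Algebra.IsIntegral R S] (𝔫 : Ideal B) [h𝔫 : 𝔫.IsMaximal] :
    (𝔫.under S).under R = p := by
  have h1 : (𝔫.under A).IsMaximal := Ideal.isMaximal_comap_of_isIntegral_of_isMaximal (R := A) 𝔫
  have h2 : 𝔫.under A = maximalIdeal A := IsLocalRing.eq_maximalIdeal h1
  rw [← under_under, h2, IsLocalization.AtPrime.under_maximalIdeal A p]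

/-- If `S_p` is local, then it is the localization of `S` at the unique prime over `p`. -/
theorem isLocalization_atPrime_of_isLocalRing [Algebra.IsIntegral R S] [IsLocalRing B]
    (q : Ideal S) [hq : q.IsPrime] (hqp : q.under R = p) :
    (maximalIdeal B).under S = q ∧ IsLocalization.AtPrime B q := by
  obtain ⟨hmax, hun⟩ := map_isMaximal p q hqp
  have hm : q.map (algebraMap S B) = maximalIdeal B := IsLocalRing.eq_maximalIdeal hmax
  have hq' : (maximalIdeal B).under S = q := by rw [← hm, hun]
  refine ⟨hq', ?_⟩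
  have hd : Disjoint (M' : Set S) (q : Set S) := disjoint_of_under_le p hqp.le
  refine IsLocalization.of_le (M := M') q.primeCompl ?_ ?_
  · intro t ht htq
    exact Set.disjoint_left.mp hd ht htq
  · intro t ht
    by_contra hnu
    apply ht
    rw [← hq']
    exact (IsLocalRing.mem_maximalIdeal _).mpr hnu

/-- **Local criterion at a prime.** For `R → S` integral and birational and `p` a prime of `R`:
`R_p` is geometrically unibranch iff there is a single prime `q` of `S` over `p`, the residue
extension is purely inseparable and `S_q` is geometrically unibranch. -/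
theorem isGeomUnibranch_atPrime_iff [Algebra.IsIntegral R S] (hbir : IsBir R S) (e : ℕ)
    [ExpChar (ResidueField A) e] :
    CAlg2.IsGeomUnibranch A ↔
      (∀ q q' : Ideal S, q.IsPrime → q'.IsPrime → q.under R = p → q'.under R = p → q = q') ∧
      ∀ (q : Ideal S) [q.IsPrime], q.under R = p →
        (∀ s : S, ∃ (n : ℕ) (a r : R), r ∉ p ∧
          algebraMap R S r * s ^ e ^ n - algebraMap R S a ∈ q) ∧
        CAlg2.IsGeomUnibranch (Localization.AtPrime q) := by
  have hbirL : IsBir A B := hbir.localization p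
  constructor
  · intro hA
    obtain ⟨hBloc, hpi, hB⟩ := isGeomUnibranch_isBir hbirL hA e
    refine ⟨?_, ?_⟩
    · intro q q' hq hq' h1 h2
      rw [← (isLocalization_atPrime_of_isLocalRing p q h1).1,
        ← (isLocalization_atPrime_of_isLocalRing p q' h2).1]
    · intro q hq hqp
      obtain ⟨hq', hloc⟩ := isLocalization_atPrime_of_isLocalRing p q hqp
      refine ⟨?_, ?_⟩
      · intro s
        obtain ⟨n, a', ha'⟩ := hpi (algebraMap S B s)
        obtain ⟨⟨a, ⟨m, hm⟩⟩, ham⟩ := IsLocalization.surj p.primeCompl a'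
        refine ⟨n, a, m, hm, ?_⟩
        rw [← hq']
        show algebraMap S B (algebraMap R S m * s ^ e ^ n - algebraMap R S a) ∈ maximalIdeal B
        have ham' : a' * algebraMap R A m = algebraMap R A a := ham
        have key : algebraMap S B (algebraMap R S m * s ^ e ^ n - algebraMap R S a) =
            algebraMap A B (algebraMap R A m) *
              (algebraMap S B s ^ e ^ n - algebraMap A B a') := by
          rw [mul_sub, ← map_mul, mul_comm (algebraMap R A m) a', ham',
            ← IsScalarTower.algebraMap_apply R A B, ← IsScalarTower.algebraMap_apply R A B,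
            IsScalarTower.algebraMap_apply R S B, IsScalarTower.algebraMap_apply R S B a,
            map_sub, map_mul, map_pow]
        rw [key]
        exact Ideal.mul_mem_left _ _ ha'
      · have e1 : Localization.AtPrime q ≃+* B :=
          (IsLocalization.algEquiv q.primeCompl (Localization.AtPrime q) B).toRingEquiv
        exact GU.isGeomUnibranch_of_ringEquiv' e1.symm hB
  · rintro ⟨huniq, hall⟩
    have hker : (⊥ : Ideal S).comap (algebraMap R S) ≤ p := by
      intro x hx
      obtain ⟨P, hP, hPp⟩ := Ideal.exists_minimalPrimes_le (J := p) (I := ⊥) bot_le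
      obtain ⟨Q, hQ, hQP⟩ := hbir.exists_over P hP
      apply hPp
      rw [← hQP, Ideal.mem_comap]
      rw [Ideal.mem_comap, Ideal.mem_bot] at hx
      rw [hx]
      exact Q.zero_mem
    obtain ⟨q, -, hq, hqp⟩ := Ideal.exists_ideal_over_prime_of_isIntegral p (⊥ : Ideal S) hker
    obtain ⟨hpiS, hGU⟩ := hall q hqp
    obtain ⟨hmax, hun⟩ := map_isMaximal p q hqp
    haveI hBloc : IsLocalRing B := IsLocalRing.of_unique_max_ideal ⟨_, hmax, fun 𝔫 h𝔫 => by
      have h1 := under_under_of_isMaximal p 𝔫
      have h2 : 𝔫.under S = q := huniq _ _ (Ideal.comap_isPrime _ _) hq h1 hqp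
      apply eq_of_under_eq' p
      rw [h2, hun]⟩
    obtain ⟨hq', hloc⟩ := isLocalization_atPrime_of_isLocalRing p q hqp
    have e1 : Localization.AtPrime q ≃+* B :=
      (IsLocalization.algEquiv q.primeCompl (Localization.AtPrime q) B).toRingEquiv
    have hB : CAlg2.IsGeomUnibranch B := GU.isGeomUnibranch_of_ringEquiv' e1 hGU
    refine isGeomUnibranch_of_isBir hbirL e ?_ hB
    intro b
    obtain ⟨⟨s, ⟨_, m, hm, rfl⟩⟩, hb⟩ := IsLocalization.surj M' b
    have hb' : b * algebraMap S B (algebraMap R S m) = algebraMap S B s := hb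
    obtain ⟨n, a, r, hr, har⟩ := hpiS s
    have hu : r * m ^ e ^ n ∈ p.primeCompl :=
      p.primeCompl.mul_mem hr (p.primeCompl.pow_mem hm _)
    refine ⟨n, IsLocalization.mk' A a ⟨r * m ^ e ^ n, hu⟩, ?_⟩
    have hunit : IsUnit (algebraMap A B (algebraMap R A (r * m ^ e ^ n))) :=
      (IsLocalization.map_units A (⟨_, hu⟩ : p.primeCompl)).map _
    rw [← Ideal.unit_mul_mem_iff_mem _ hunit]
    have key : algebraMap A B (algebraMap R A (r * m ^ e ^ n)) *
        (b ^ e ^ n - algebraMap A B (IsLocalization.mk' A a ⟨r * m ^ e ^ n, hu⟩)) =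
        algebraMap S B (algebraMap R S r * s ^ e ^ n - algebraMap R S a) := by
      have hs : algebraMap R A (r * m ^ e ^ n) * IsLocalization.mk' A a ⟨r * m ^ e ^ n, hu⟩ =
          algebraMap R A a := IsLocalization.mk'_spec' A a ⟨r * m ^ e ^ n, hu⟩
      have h1 : algebraMap A B (algebraMap R A (r * m ^ e ^ n)) =
          algebraMap S B (algebraMap R S r) * algebraMap S B (algebraMap R S m) ^ e ^ n := by
        rw [← IsScalarTower.algebraMap_apply R A B, IsScalarTower.algebraMap_apply R S B,
          map_mul, map_mul, map_pow, map_pow]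
      have h2 : algebraMap A B (algebraMap R A a) = algebraMap S B (algebraMap R S a) := by
        rw [← IsScalarTower.algebraMap_apply R A B, IsScalarTower.algebraMap_apply R S B]
      rw [mul_sub, ← map_mul (algebraMap A B), hs, h1, h2, map_sub, map_mul, map_pow, ← hb',
        mul_pow]
      ring
    rw [key]
    have : algebraMap R S r * s ^ e ^ n - algebraMap R S a ∈ (maximalIdeal B).under S := by
      rw [hq']
      exact har
    exact this

end loc

end Groth.Agent.Lib.Helper61.RadBir
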