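import Mathlib
import Groth.Agent.Lib.Helper61.RadBir2
import Groth.Agent.Lib.Helper11.Generic
import Groth.Agent.Lib.Helper24.SmoothNormalStalk
import Groth.Prelude.Def_EGA4Misc

/-!
# Integral birational morphisms and geometric unibranchness: scheme level (helper61)
-/

set_option autoImplicit false
set_option linter.style.haveILetI false
universe u

open CategoryTheory AlgebraicGeometry TopologicalSpace IsLocalRing

namespace Groth.Agent.Lib.Helper61.RadBir

section affineOpen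

variable {X : Scheme.{u}} {U : X.Opens} (hU : IsAffineOpen U)

include hU in
theorem exists_primeIdealOf_eq (Q : PrimeSpectrum Γ(X, U)) :
    ∃ (x : X) (hx : x ∈ U), hU.primeIdealOf ⟨x, hx⟩ = Q := by
  let x : U := hU.isoSpec.inv Q
  refine ⟨x.1, x.2, ?_⟩
  show hU.isoSpec.hom (hU.isoSpec.inv Q) = Q
  exact Scheme.inv_hom_apply hU.isoSpec Q

theorem primeIdealOf_injective {x x' : X} {hx : x ∈ U} {hx' : x' ∈ U}
    (h : hU.primeIdealOf ⟨x, hx⟩ = hU.primeIdealOf ⟨x', hx'⟩) : x = x' := by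
  have := congrArg hU.fromSpec h
  rwa [hU.fromSpec_primeIdealOf, hU.fromSpec_primeIdealOf] at this

theorem primeIdealOf_specializes {z x : X} (hz : z ∈ U) (hx : x ∈ U) (h : z ⤳ x) :
    hU.primeIdealOf ⟨z, hz⟩ ⤳ hU.primeIdealOf ⟨x, hx⟩ := by
  have h1 : (⟨z, hz⟩ : U) ⤳ ⟨x, hx⟩ := (subtype_specializes_iff _ _).mpr h
  exact h1.map hU.isoSpec.hom.continuous

theorem primeIdealOf_mem_minimalPrimes_iff {x : X} (hx : x ∈ U) :
    (hU.primeIdealOf ⟨x, hx⟩).asIdeal ∈ minimalPrimes Γ(X, U) ↔ x ∈ genericPoints X := by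
  rw [Groth.Agent.Lib.Helper11.mem_minimalPrimes_iff_forall_specializes]
  show _ ↔ closure {x} ∈ irreducibleComponents X
  rw [Groth.Agent.Lib.Helper11.closure_singleton_mem_irreducibleComponents_iff]
  constructor
  · intro H z hz
    have hzU : z ∈ U := hz.mem_open U.isOpen hx
    exact primeIdealOf_injective hU (H _ (primeIdealOf_specializes hU hzU hx hz))
  · intro H z' hz'
    obtain ⟨w, hw, rfl⟩ := exists_primeIdealOf_eq hU z'
    have h1 := hz'.map hU.fromSpec.continuous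
    rw [hU.fromSpec_primeIdealOf, hU.fromSpec_primeIdealOf] at h1
    have : w = x := H w h1
    subst this
    rfl

theorem evaluation_eq_zero_iff {x : X} (hx : x ∈ U) (s : Γ(X, U)) :
    X.evaluation U x hx s = 0 ↔ s ∈ (hU.primeIdealOf ⟨x, hx⟩).asIdeal := by
  letI := X.presheaf.algebra_section_stalk (U := U) ⟨x, hx⟩
  haveI := hU.isLocalization_stalk ⟨x, hx⟩
  rw [← IsLocalization.AtPrime.to_map_mem_maximal_iff (X.presheaf.stalk x)
    (hU.primeIdealOf ⟨x, hx⟩).asIdeal s]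
  show IsLocalRing.residue _ (X.presheaf.germ U x hx s) = 0 ↔ _
  rw [IsLocalRing.residue_eq_zero_iff]
  rfl

theorem exists_evaluation_mul_eq {x : X} (hx : x ∈ U) (c : X.residueField x) :
    ∃ s t : Γ(X, U), t ∉ (hU.primeIdealOf ⟨x, hx⟩).asIdeal ∧
      c * X.evaluation U x hx t = X.evaluation U x hx s := by
  letI := X.presheaf.algebra_section_stalk (U := U) ⟨x, hx⟩
  haveI := hU.isLocalization_stalk ⟨x, hx⟩
  obtain ⟨c', rfl⟩ := X.residue_surjective x c
  obtain ⟨⟨s, t⟩, hst⟩ := IsLocalization.surj (hU.primeIdealOf ⟨x, hx⟩).asIdeal.primeCompl c'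
  refine ⟨s, t.1, t.2, ?_⟩
  have hst' : c' * X.presheaf.germ U x hx t.1 = X.presheaf.germ U x hx s := hst
  have := congrArg (X.residue x) hst'
  rw [map_mul] at this
  exact this

theorem primeIdealOf_congr {y y' : X} (h : y = y') (hy : y ∈ U) (hy' : y' ∈ U) :
    hU.primeIdealOf ⟨y, hy⟩ = hU.primeIdealOf ⟨y', hy'⟩ := by
  subst h
  rfl

theorem expChar_residueField {y : X} (hy : y ∈ U) (e : ℕ)
    [he : ExpChar (Γ(X, U) ⧸ (hU.primeIdealOf ⟨y, hy⟩).asIdeal) e] :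
    ExpChar (X.residueField y) e := by
  let g : Γ(X, U) ⧸ (hU.primeIdealOf ⟨y, hy⟩).asIdeal →+* X.residueField y :=
    Ideal.Quotient.lift _ (X.evaluation U y hy).hom
      (fun s hs => (evaluation_eq_zero_iff hU hy s).mpr hs)
  have hg : Function.Injective g := by
    rw [injective_iff_map_eq_zero]
    intro c hc
    obtain ⟨s, rfl⟩ := Ideal.Quotient.mk_surjective c
    rw [Ideal.Quotient.eq_zero_iff_mem]
    exact (evaluation_eq_zero_iff hU hy s).mp hc
  exact expChar_of_injective_ringHom hg e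

theorem expChar_residueField_of_eq {y : X} (hy : y ∈ U) (e : ℕ)
    [he : ExpChar (Γ(X, U) ⧸ (hU.primeIdealOf ⟨y, hy⟩).asIdeal) e] {y' : X} (h : y' = y) :
    ExpChar (X.residueField y') e := by
  subst h
  exact expChar_residueField hU hy e

end affineOpen

theorem pow_mem_range_of_mul_eq {F E : Type*} [Field F] [Field E] (φ : F →+* E) (e : ℕ)
    {c σ τ : E} (hτ : τ ≠ 0) (hc : c * τ = σ) {n₁ n₂ : ℕ} {u₁ u₂ : F}
    (h₁ : σ ^ e ^ n₁ = φ u₁) (h₂ : τ ^ e ^ n₂ = φ u₂) : c ^ e ^ (n₁ + n₂) ∈ φ.range := by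
  refine ⟨u₁ ^ e ^ n₂ / u₂ ^ e ^ n₁, ?_⟩
  have hτN : τ ^ e ^ (n₁ + n₂) = φ (u₂ ^ e ^ n₁) := by
    rw [map_pow, ← h₂, ← pow_mul, ← pow_add, add_comm]
  have hσN : σ ^ e ^ (n₁ + n₂) = φ (u₁ ^ e ^ n₂) := by
    rw [map_pow, ← h₁, ← pow_mul, ← pow_add]
  have hne : φ (u₂ ^ e ^ n₁) ≠ 0 := by
    rw [← hτN]
    exact pow_ne_zero _ hτ
  rw [map_div₀, div_eq_iff hne, ← hτN, ← hσN, ← mul_pow, hc]

section morphism

variable {X Y : Scheme.{u}} (f : X ⟶ Y) {V : Y.Opens} (hV : IsAffineOpen V)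
  (hU : IsAffineOpen (f ⁻¹ᵁ V))

theorem comap_primeIdealOf_app {x : X} (hx : x ∈ f ⁻¹ᵁ V) :
    (hU.primeIdealOf ⟨x, hx⟩).asIdeal.comap (f.app V).hom =
      (hV.primeIdealOf ⟨f x, hx⟩).asIdeal := by
  have := IsAffineOpen.comap_primeIdealOf_appLE V hV (f ⁻¹ᵁ V) hU le_rfl hx
  rw [Scheme.Hom.appLE_eq_app] at this
  exact congrArg PrimeSpectrum.asIdeal this

theorem isPurelyInseparable_residueFieldMap_iff {x : X} (hx : x ∈ f ⁻¹ᵁ V) (e : ℕ)
    (he : ExpChar (Y.residueField (f x)) e) :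
    (f.residueFieldMap x).hom.IsPurelyInseparable ↔
      ∀ s : Γ(X, f ⁻¹ᵁ V), ∃ (n : ℕ) (a r : Γ(Y, V)),
        r ∉ (hV.primeIdealOf ⟨f x, hx⟩).asIdeal ∧
        (f.app V).hom r * s ^ e ^ n - (f.app V).hom a ∈ (hU.primeIdealOf ⟨x, hx⟩).asIdeal := by
  letI : Algebra (Y.residueField (f x)) (X.residueField x) := (f.residueFieldMap x).hom.toAlgebra
  show IsPurelyInseparable (Y.residueField (f x)) (X.residueField x) ↔ _
  rw [isPurelyInseparable_iff_pow_mem (Y.residueField (f x)) e]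
  have hnat : ∀ r : Γ(Y, V), algebraMap (Y.residueField (f x)) (X.residueField x)
      (Y.evaluation V (f x) hx r) = X.evaluation (f ⁻¹ᵁ V) x hx ((f.app V).hom r) :=
    fun r => Scheme.evaluation_naturality_apply f x hx r
  constructor
  · intro H s
    obtain ⟨n, c, hc⟩ := H (X.evaluation _ x hx s)
    obtain ⟨a, r, hr, har⟩ := exists_evaluation_mul_eq hV hx c
    refine ⟨n, a, r, hr, ?_⟩
    rw [← evaluation_eq_zero_iff hU hx, map_sub, map_mul, map_pow, ← hnat, ← hnat, ← hc, ← har,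
      map_mul]
    ring
  · intro H c'
    obtain ⟨s, t, ht, hst⟩ := exists_evaluation_mul_eq hU hx c'
    obtain ⟨n₁, a₁, r₁, hr₁, h₁⟩ := H s
    obtain ⟨n₂, a₂, r₂, hr₂, h₂⟩ := H t
    have hτ : X.evaluation (f ⁻¹ᵁ V) x hx t ≠ 0 := fun h0 =>
      ht ((evaluation_eq_zero_iff hU hx t).mp h0)
    have key : ∀ (s' : Γ(X, f ⁻¹ᵁ V)) (n : ℕ) (a r : Γ(Y, V)),
        r ∉ (hV.primeIdealOf ⟨f x, hx⟩).asIdeal →
        (f.app V).hom r * s' ^ e ^ n - (f.app V).hom a ∈ (hU.primeIdealOf ⟨x, hx⟩).asIdeal →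
        (X.evaluation (f ⁻¹ᵁ V) x hx s') ^ e ^ n =
          algebraMap (Y.residueField (f x)) (X.residueField x)
            (Y.evaluation V (f x) hx a / Y.evaluation V (f x) hx r) := by
      intro s' n a r hr h
      have hr0 : Y.evaluation V (f x) hx r ≠ 0 := fun h0 =>
        hr ((evaluation_eq_zero_iff hV hx r).mp h0)
      have hr1 : algebraMap (Y.residueField (f x)) (X.residueField x)
          (Y.evaluation V (f x) hx r) ≠ 0 := by
        rwa [Ne, map_eq_zero]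
      rw [← evaluation_eq_zero_iff hU hx, map_sub, map_mul, map_pow, ← hnat, ← hnat,
        sub_eq_zero] at h
      rw [map_div₀, eq_div_iff hr1, mul_comm]
      exact h
    exact ⟨n₁ + n₂, pow_mem_range_of_mul_eq _ e hτ hst (key s n₁ a₁ r₁ hr₁ h₁)
      (key t n₂ a₂ r₂ hr₂ h₂)⟩

set_option backward.isDefEq.respectTransparency.types false in
include hV hU in
/-- A birational morphism is birational on affine charts, in the ring-level sense. -/
theorem isBir_of_isBirational (hf : RadPt.IsBirational f) :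
    letI := (f.app V).hom.toAlgebra
    IsBir Γ(Y, V) Γ(X, f ⁻¹ᵁ V) := by
  letI := (f.app V).hom.toAlgebra
  have halg : algebraMap Γ(Y, V) Γ(X, f ⁻¹ᵁ V) = (f.app V).hom := rfl
  refine ⟨?_, ?_, ?_, ?_⟩
  · intro Q hQ
    obtain ⟨x, hx, hxQ⟩ := exists_primeIdealOf_eq hU ⟨Q, hQ.1.1⟩
    have hxQ1 : (hU.primeIdealOf ⟨x, hx⟩).asIdeal = Q := congrArg PrimeSpectrum.asIdeal hxQ
    subst hxQ1
    rw [halg, comap_primeIdealOf_app f hV hU hx, primeIdealOf_mem_minimalPrimes_iff hV]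
    exact hf.1.mapsTo ((primeIdealOf_mem_minimalPrimes_iff hU hx).mp hQ)
  · intro P hP
    obtain ⟨y, hy, hyP⟩ := exists_primeIdealOf_eq hV ⟨P, hP.1.1⟩
    have hyP1 : (hV.primeIdealOf ⟨y, hy⟩).asIdeal = P := congrArg PrimeSpectrum.asIdeal hyP
    subst hyP1
    obtain ⟨x, -, rfl⟩ := hf.1.surjOn ((primeIdealOf_mem_minimalPrimes_iff hV hy).mp hP)
    exact ⟨_, (hU.primeIdealOf ⟨x, hy⟩).isPrime, comap_primeIdealOf_app f hV hU hy⟩
  · intro P hP Q Q' hQ hQ' h1 h2
    obtain ⟨x, hx, hxQ⟩ := exists_primeIdealOf_eq hU ⟨Q, hQ⟩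
    have hxQ1 : (hU.primeIdealOf ⟨x, hx⟩).asIdeal = Q := congrArg PrimeSpectrum.asIdeal hxQ
    obtain ⟨x', hx', hxQ2⟩ := exists_primeIdealOf_eq hU ⟨Q', hQ'⟩
    have hxQ3 : (hU.primeIdealOf ⟨x', hx'⟩).asIdeal = Q' := congrArg PrimeSpectrum.asIdeal hxQ2
    subst hxQ1 hxQ3
    rw [halg, comap_primeIdealOf_app f hV hU hx] at h1
    rw [halg, comap_primeIdealOf_app f hV hU hx'] at h2
    have hfx : f x ∈ genericPoints Y := by
      rw [← primeIdealOf_mem_minimalPrimes_iff hV hx, h1]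
      exact hP
    have hff : f x' = f x := by
      apply primeIdealOf_injective hV (hx := hx') (hx' := hx)
      exact PrimeSpectrum.ext (h2.trans h1.symm)
    have : x = x' := (hf.2 (f x) hfx).1 x x' rfl hff
    subst this
    rfl
  · intro P hP Q hQ hQP s
    obtain ⟨x, hx, hxQ⟩ := exists_primeIdealOf_eq hU ⟨Q, hQ⟩
    have hxQ1 : (hU.primeIdealOf ⟨x, hx⟩).asIdeal = Q := congrArg PrimeSpectrum.asIdeal hxQ
    subst hxQ1
    rw [halg, comap_primeIdealOf_app f hV hU hx] at hQP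
    subst hQP
    have hfx : f x ∈ genericPoints Y := (primeIdealOf_mem_minimalPrimes_iff hV hx).mp hP
    have hbij := (hf.2 (f x) hfx).2 x rfl
    obtain ⟨c, hc⟩ := hbij.2 (X.evaluation _ x hx s)
    obtain ⟨a, r, hr, har⟩ := exists_evaluation_mul_eq hV hx c
    refine ⟨a, r, hr, ?_⟩
    have hnat : ∀ r : Γ(Y, V), (f.residueFieldMap x).hom (Y.evaluation V (f x) hx r) =
        X.evaluation (f ⁻¹ᵁ V) x hx ((f.app V).hom r) :=
      fun r => Scheme.evaluation_naturality_apply f x hx r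
    rw [halg, ← evaluation_eq_zero_iff hU hx, map_sub, map_mul, ← hnat, ← hnat, ← hc, ← har,
      map_mul]
    ring

end morphism

set_option backward.isDefEq.respectTransparency.types false in
/-- **EGA IV 6.15.5-type statement.** For an integral birational morphism `f : X ⟶ Y` and `y : Y`:
`Y` is geometrically unibranch at `y` iff `f` is radicial at `y` and `X` is geometrically
unibranch at the points over `y`. -/
theorem isGeomUnibranch_iff_of_isBirational {X Y : Scheme.{u}} (f : X ⟶ Y) [IsIntegralHom f]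
    (hf : RadPt.IsBirational f) (y : Y) :
    CAlg2.IsGeomUnibranch (Y.presheaf.stalk y) ↔
      (RadPt.IsRadicialAt f y ∧
        ∀ x : X, f x = y → CAlg2.IsGeomUnibranch (X.presheaf.stalk x)) := by
  obtain ⟨_, ⟨V, hV, rfl⟩, hyV, -⟩ :=
    Y.isBasis_affineOpens.exists_subset_of_mem_open (Set.mem_univ y) isOpen_univ
  have hU : IsAffineOpen (f ⁻¹ᵁ V) := hV.preimage f
  letI : Algebra Γ(Y, V) Γ(X, f ⁻¹ᵁ V) := (f.app V).hom.toAlgebra
  haveI : Algebra.IsIntegral Γ(Y, V) Γ(X, f ⁻¹ᵁ V) :=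
    algebraMap_isIntegral_iff.mp (f.isIntegral_app V hV)
  have hbir : IsBir Γ(Y, V) Γ(X, f ⁻¹ᵁ V) := isBir_of_isBirational f hV hU hf
  set p := (hV.primeIdealOf ⟨y, hyV⟩).asIdeal with hp
  let e := ringExpChar (Γ(Y, V) ⧸ p)
  haveI he0 : ExpChar (Γ(Y, V) ⧸ p) e := ringExpChar.expChar _
  haveI he1 : ExpChar (IsLocalRing.ResidueField (Localization.AtPrime p)) e :=
    expChar_of_injective_ringHom p.injective_algebraMap_quotient_residueField e
  have key := isGeomUnibranch_atPrime_iff p hbir e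
  obtain ⟨e1⟩ := Groth.Agent.Lib.Helper24.stalk_ringEquiv_atPrime hV y hyV
  have hGUy : CAlg2.IsGeomUnibranch (Y.presheaf.stalk y) ↔
      CAlg2.IsGeomUnibranch (Localization.AtPrime p) :=
    ⟨GU.isGeomUnibranch_of_ringEquiv' e1, GU.isGeomUnibranch_of_ringEquiv' e1.symm⟩
  rw [hGUy, key]
  have hxU : ∀ x : X, f x = y → x ∈ f ⁻¹ᵁ V := fun x h => by
    show f x ∈ V
    rw [h]
    exact hyV
  have hpx : ∀ (x : X) (h : f x = y), (hV.primeIdealOf ⟨f x, hxU x h⟩).asIdeal = p :=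
    fun x h => congrArg PrimeSpectrum.asIdeal (primeIdealOf_congr hV h _ hyV)
  have hover : ∀ (x : X) (h : f x = y),
      (hU.primeIdealOf ⟨x, hxU x h⟩).asIdeal.under Γ(Y, V) = p :=
    fun x h => (comap_primeIdealOf_app f hV hU (hxU x h)).trans (hpx x h)
  have hconv : ∀ q : Ideal Γ(X, f ⁻¹ᵁ V), q.IsPrime → q.under Γ(Y, V) = p →
      ∃ (x : X) (h : f x = y), (hU.primeIdealOf ⟨x, hxU x h⟩).asIdeal = q := by
    intro q hq hqp
    obtain ⟨x, hx, hxq⟩ := exists_primeIdealOf_eq hU ⟨q, hq⟩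
    have hxq1 : (hU.primeIdealOf ⟨x, hx⟩).asIdeal = q := congrArg PrimeSpectrum.asIdeal hxq
    have hfx : f x = y := by
      apply primeIdealOf_injective hV (hx := hx) (hx' := hyV)
      apply PrimeSpectrum.ext
      rw [← comap_primeIdealOf_app f hV hU hx, hxq1]
      exact hqp
    exact ⟨x, hfx, hxq1⟩
  have hT2 : ∀ (x : X) (h : f x = y), (f.residueFieldMap x).hom.IsPurelyInseparable ↔
      ∀ s : Γ(X, f ⁻¹ᵁ V), ∃ (n : ℕ) (a r : Γ(Y, V)), r ∉ p ∧
        algebraMap Γ(Y, V) Γ(X, f ⁻¹ᵁ V) r * s ^ e ^ n - algebraMap Γ(Y, V) Γ(X, f ⁻¹ᵁ V) a ∈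
          (hU.primeIdealOf ⟨x, hxU x h⟩).asIdeal := by
    intro x h
    have := isPurelyInseparable_residueFieldMap_iff f hV hU (hxU x h) e
      (expChar_residueField_of_eq hV hyV e h)
    rw [hpx x h] at this
    exact this
  have hGUx : ∀ (x : X) (h : f x = y), CAlg2.IsGeomUnibranch (X.presheaf.stalk x) ↔
      CAlg2.IsGeomUnibranch (Localization.AtPrime (hU.primeIdealOf ⟨x, hxU x h⟩).asIdeal) := by
    intro x h
    obtain ⟨e2⟩ := Groth.Agent.Lib.Helper24.stalk_ringEquiv_atPrime hU x (hxU x h)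
    exact ⟨GU.isGeomUnibranch_of_ringEquiv' e2, GU.isGeomUnibranch_of_ringEquiv' e2.symm⟩
  constructor
  · rintro ⟨huniq, hall⟩
    refine ⟨⟨fun x x' h h' => ?_, fun x h => ?_⟩, fun x h => ?_⟩
    · apply primeIdealOf_injective hU (hx := hxU x h) (hx' := hxU x' h')
      apply PrimeSpectrum.ext
      exact huniq _ _ (hU.primeIdealOf _).isPrime (hU.primeIdealOf _).isPrime (hover x h)
        (hover x' h')
    · rw [hT2 x h]
      exact (hall _ (hover x h)).1
    · rw [hGUx x h]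
      exact (hall _ (hover x h)).2
  · rintro ⟨⟨huniq, hpi⟩, hgu⟩
    refine ⟨fun q q' hq hq' h1 h2 => ?_, fun q hq hqp => ?_⟩
    · obtain ⟨x, hx, rfl⟩ := hconv q hq h1
      obtain ⟨x', hx', rfl⟩ := hconv q' hq' h2
      have := huniq x x' hx hx'
      subst this
      rfl
    · obtain ⟨x, hx, rfl⟩ := hconv q hq hqp
      exact ⟨(hT2 x hx).mp (hpi x hx), (hGUx x hx).mp (hgu x hx)⟩

end Groth.Agent.Lib.Helper61.RadBir
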