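import Mathlib
import Groth.Prelude.Def_LinSer
import Groth.Prelude.Def_CohB1
import Groth.Agent.Lib.Helper11.AmpleFinite

/-! Rational points impose at most one condition each on a linear system (helper61). -/

set_option autoImplicit false
universe u

open AlgebraicGeometry CategoryTheory Limits TopologicalSpace Opposite

namespace Groth.Agent.Lib.Helper61.RatPts

open Groth.Agent.Lib.Helper11.GenLocus Groth.Agent.Lib.Helper45 Groth.Agent.Lib.Helper49

variable (k : Type u) [Field k] {X : Scheme.{u}}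

lemma top_le_preimage (p : Spec (CommRingCat.of k) ⟶ X) (V : X.Opens)
    (hV : p (IsLocalRing.closedPoint k) ∈ V) : (⊤ : (Spec (CommRingCat.of k)).Opens) ≤ p ⁻¹ᵁ V := by
  intro y _
  have : y = IsLocalRing.closedPoint k := Subsingleton.elim (α := PrimeSpectrum k) _ _
  rw [this]
  exact hV

/-- Evaluation at a `k`-point. -/
noncomputable def ev (p : Spec (CommRingCat.of k) ⟶ X) (V : X.Opens)
    (hV : p (IsLocalRing.closedPoint k) ∈ V) : Γ(X, V) →+* k :=
  (Scheme.ΓSpecIso (CommRingCat.of k)).hom.hom.comp (p.appLE V ⊤ (top_le_preimage k p V hV)).hom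

lemma ev_ne_zero (p : Spec (CommRingCat.of k) ⟶ X) (V : X.Opens)
    (hV : p (IsLocalRing.closedPoint k) ∈ V) (r : Γ(X, V))
    (hr : p (IsLocalRing.closedPoint k) ∈ X.basicOpen r) : ev k p V hV r ≠ 0 := by
  intro h0
  have h1 : (p.appLE V ⊤ (top_le_preimage k p V hV)).hom r = 0 := by
    have hinj : Function.Injective (Scheme.ΓSpecIso (CommRingCat.of k)).hom.hom :=
      (ConcreteCategory.bijective_of_isIso (Scheme.ΓSpecIso (CommRingCat.of k)).hom).1
    apply hinj
    rw [map_zero]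
    exact h0
  have h2 : IsLocalRing.closedPoint k ∈ p ⁻¹ᵁ X.basicOpen r := hr
  rw [Scheme.preimage_basicOpen] at h2
  have h3 : IsLocalRing.closedPoint k ∈
      (Spec (CommRingCat.of k)).basicOpen ((p.appLE V ⊤ (top_le_preimage k p V hV)).hom r) := by
    rw [Scheme.Hom.appLE]
    change _ ∈ (Spec (CommRingCat.of k)).basicOpen
      (((Spec (CommRingCat.of k)).presheaf.map (homOfLE _).op).hom ((p.app V).hom r))
    rw [Scheme.basicOpen_res]
    exact ⟨trivial, h2⟩
  rw [h1, Scheme.basicOpen_zero] at h3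
  exact h3

lemma ev_toGlobal [X.Over (Spec (CommRingCat.of k))] (p : Spec (CommRingCat.of k) ⟶ X)
    (hp : p ≫ (X ↘ Spec (CommRingCat.of k)) = 𝟙 _) (V : X.Opens)
    (hV : p (IsLocalRing.closedPoint k) ∈ V) (c : k) :
    ev k p V hV (fres (le_top : V ≤ ⊤) (Coh.toGlobal (X ↘ Spec (CommRingCat.of k)) c)) = c := by
  have h1 : (p.appLE V ⊤ (top_le_preimage k p V hV)).hom
      (fres (le_top : V ≤ ⊤) (Coh.toGlobal (X ↘ Spec (CommRingCat.of k)) c)) =
      (p.appTop).hom (Coh.toGlobal (X ↘ Spec (CommRingCat.of k)) c) := by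
    have := Scheme.Hom.map_appLE p (top_le_preimage k p V hV) (homOfLE (le_top : V ≤ ⊤)).op
    have h2 := ConcreteCategory.congr_hom this (Coh.toGlobal (X ↘ Spec (CommRingCat.of k)) c)
    refine Eq.trans ?_ (h2.trans ?_)
    · rfl
    · have h4 : Scheme.Hom.appLE p ⊤ ⊤ (top_le_preimage k p ⊤ trivial) = p.appTop :=
        Scheme.Hom.appLE_eq_app (f := p) (U := ⊤)
      exact ConcreteCategory.congr_hom h4 _
  have h3 : (p.appTop).hom (((X ↘ Spec (CommRingCat.of k)).appTop).hom
      ((Scheme.ΓSpecIso (CommRingCat.of k)).inv.hom c)) =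
      ((p ≫ (X ↘ Spec (CommRingCat.of k))).appTop).hom
        ((Scheme.ΓSpecIso (CommRingCat.of k)).inv.hom c) := by
    rw [Scheme.Hom.comp_appTop]; rfl
  change (Scheme.ΓSpecIso (CommRingCat.of k)).hom.hom
    ((p.appLE V ⊤ (top_le_preimage k p V hV)).hom
      (fres (le_top : V ≤ ⊤) (Coh.toGlobal (X ↘ Spec (CommRingCat.of k)) c))) = c
  rw [h1]
  change (Scheme.ΓSpecIso (CommRingCat.of k)).hom.hom
    ((p.appTop).hom (((X ↘ Spec (CommRingCat.of k)).appTop).hom
      ((Scheme.ΓSpecIso (CommRingCat.of k)).inv.hom c))) = c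
  rw [h3, hp]
  simp

lemma sec_zero {L : X.Modules} (U : X.Opens) : sec (0 : Coh.structureModule X ⟶ L) U = 0 := rfl

lemma mres_self (L : X.Modules) (U : X.Opens) (y : Γ(L, U)) : mres L (le_refl U) y = y := by
  rw [mres_apply]
  have : (homOfLE (le_refl U)).op = 𝟙 (op U) := rfl
  rw [this, L.presheaf.map_id]
  rfl

theorem main [X.Over (Spec (CommRingCat.of k))]
    (L : X.Modules) (hL : PicF.IsInvertible L)
    (n : ℕ) (p : Fin n → (Spec (CommRingCat.of k) ⟶ X))
    (hp : ∀ i, p i ≫ (X ↘ Spec (CommRingCat.of k)) = 𝟙 _)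
    (t : Fin (n + 1) → (Coh.structureModule X ⟶ L))
    (ht : LinSer.LinIndep k X L (fun j => (L.unitHomEquiv (t j)).val (op ⊤))) :
    ∃ s : Coh.structureModule X ⟶ L, s ≠ 0 ∧
      ∀ i, (p i) (IsLocalRing.closedPoint k) ∉ CohB1.genLocus L s := by
  classical
  have H : ∀ i, ∃ V : X.Opens, (p i) (IsLocalRing.closedPoint k) ∈ V ∧
      ∃ e : Γ(L, V), IsBasisOn L V e := fun i => exists_isBasisOn_of_isInvertible hL _
  choose V hV e he using H
  have H2 : ∀ i j, ∃ r : Γ(X, V i), r • e i = sec (t j) (V i) :=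
    fun i j => (he i).exists_eq_smul _
  choose r hr using H2
  let M : Matrix (Fin n) (Fin (n + 1)) k := Matrix.of fun i j => ev k (p i) (V i) (hV i) (r i j)
  have hker : LinearMap.ker M.mulVecLin ≠ ⊥ :=
    LinearMap.ker_ne_bot_of_finrank_lt (by simp)
  obtain ⟨c, hcM, hc0⟩ := Submodule.exists_mem_ne_zero_of_ne_bot hker
  have hcM' : ∀ i, ∑ j, ev k (p i) (V i) (hV i) (r i j) * c j = 0 := by
    intro i
    have := congrFun (LinearMap.mem_ker.mp hcM) i
    simpa [Matrix.mulVec, dotProduct, M] using this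
  let tg : k →+* Γ(X, ⊤) := Coh.toGlobal (X ↘ Spec (CommRingCat.of k))
  let y : Γ(L, ⊤) := ∑ j, tg (c j) • sec (t j) ⊤
  refine ⟨homOfSection L y, ?_, ?_⟩
  · intro h0
    apply hc0
    apply ht c
    have h1 : sec (homOfSection L y) ⊤ = 0 := by rw [h0]; exact sec_zero ⊤
    rw [sec_homOfSection, mres_self] at h1
    exact h1
  · intro i hx
    have hs : sec (homOfSection L y) (V i) =
        (∑ j, fres (le_top : V i ≤ ⊤) (tg (c j)) * r i j) • e i := by
      rw [sec_homOfSection, map_sum, Finset.sum_smul]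
      refine Finset.sum_congr rfl fun j _ => ?_
      rw [mres_smul, sec_mres, mul_smul, hr]
    have hmem := genLocus_inf_le_basicOpen (homOfSection L y) (e i) (he i) _ hs ⟨hx, hV i⟩
    refine ev_ne_zero k (p i) (V i) (hV i) _ hmem ?_
    rw [map_sum, ← hcM' i]
    refine Finset.sum_congr rfl fun j _ => ?_
    have h5 : ev k (p i) (V i) (hV i) (fres (le_top : V i ≤ ⊤) (tg (c j))) = c j :=
      ev_toGlobal k (p i) (hp i) (V i) (hV i) (c j)
    rw [map_mul, h5, mul_comm]

end Groth.Agent.Lib.Helper61.RatPts
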