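import Mathlib
import Groth.Agent.S9407

/-!
# Integral elements of geometrically reduced algebras are separable; derivations kill them

* `separable_minpoly_of_isReduced_tensor`: if `K ⊗_k B` is reduced for an algebraically closed `K`,
  the minimal polynomial of an integral element of `B` is separable.
* `d_eq_zero_of_separable`: an additive Leibniz map killing the constants kills roots of separable polynomials.
* `d_eq_zero_of_smooth_of_isIntegral`: on a smooth algebra over a field such a map kills integral elements.
-/

set_option autoImplicit false

open Polynomial TensorProduct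

namespace Groth.Agent.Lib.Helper61.SepIntegral

universe u

theorem separable_minpoly_of_isReduced_tensor {k B : Type*} [Field k] [CommRing B] [Algebra k B]
    (K : Type*) [Field K] [Algebra k K] [IsAlgClosed K] [IsReduced (K ⊗[k] B)]
    (b : B) (hb : IsIntegral k b) : (minpoly k b).Separable := by
  classical
  set m := minpoly k b with hm
  have hmon : m.Monic := minpoly.monic hb
  rw [← Polynomial.separable_map (algebraMap k K)]
  rw [PerfectField.separable_iff_squarefree]
  intro q hq
  by_contra hunit
  obtain ⟨h, hh⟩ := hq
  have hmK0 : m.map (algebraMap k K) ≠ 0 := (hmon.map _).ne_zero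
  have hq0 : q ≠ 0 := by
    rintro rfl
    rw [zero_mul, zero_mul] at hh
    exact hmK0 hh
  have hh0 : h ≠ 0 := by
    rintro rfl
    rw [mul_zero] at hh
    exact hmK0 hh
  have hqdeg : 0 < q.natDegree := by
    rw [Nat.pos_iff_ne_zero]
    intro h0
    apply hunit
    rw [Polynomial.eq_C_of_natDegree_eq_zero h0]
    refine Polynomial.isUnit_C.mpr (isUnit_iff_ne_zero.mpr ?_)
    intro hc
    apply hq0
    rw [Polynomial.eq_C_of_natDegree_eq_zero h0, hc, map_zero]
  set r := q * h with hr
  have hr0 : r ≠ 0 := mul_ne_zero hq0 hh0
  have hdegm : (m.map (algebraMap k K)).natDegree = m.natDegree := (hmon.natDegree_map _)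
  have hdegr : r.natDegree < m.natDegree := by
    rw [← hdegm, hh, Polynomial.natDegree_mul (mul_ne_zero hq0 hq0) hh0,
      Polynomial.natDegree_mul hq0 hq0, hr, Polynomial.natDegree_mul hq0 hh0]
    omega
  -- the element x = 1 ⊗ b
  set x : K ⊗[k] B := (1 : K) ⊗ₜ[k] b with hx
  have hxm : aeval x (m.map (algebraMap k K)) = 0 := by
    rw [Polynomial.aeval_map_algebraMap]
    have : x = (Algebra.TensorProduct.includeRight : B →ₐ[k] K ⊗[k] B) b := rfl
    rw [this, Polynomial.aeval_algHom_apply, hm, minpoly.aeval, map_zero]
  have hxr : aeval x r = 0 := by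
    apply IsNilpotent.eq_zero
    refine ⟨2, ?_⟩
    rw [← map_pow]
    have : r ^ 2 = m.map (algebraMap k K) * h := by
      rw [hh, hr]; ring
    rw [this, map_mul, hxm, zero_mul]
  -- linear independence of the powers of x
  have hli : LinearIndependent K (fun i : Fin m.natDegree => x ^ (i : ℕ)) := by
    have h1 := linearIndependent_pow (K := k) b
    have h2 := Module.Flat.linearIndependent_one_tmul (S := K) h1
    convert h2 using 2 with i
    rw [hx, Algebra.TensorProduct.tmul_pow, one_pow]
  rw [Polynomial.aeval_eq_sum_range' hdegr, Finset.sum_range] at hxr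
  have hcoeff := Fintype.linearIndependent_iff.mp hli (fun i => r.coeff i) hxr
  apply hr0
  ext j
  by_cases hj : j < m.natDegree
  · simpa using hcoeff ⟨j, hj⟩
  · rw [Polynomial.coeff_zero]
    exact Polynomial.coeff_eq_zero_of_natDegree_lt (by omega)

/-- An additive Leibniz map which kills the constants kills every root of a separable polynomial. -/
theorem d_eq_zero_of_separable {k B M : Type*} [Field k] [CommRing B] [Algebra k B]
    [AddCommGroup M] [Module B M]
    (d : B →+ M) (hmul : ∀ a b, d (a * b) = a • d b + b • d a)
    (hk : ∀ c : k, d (algebraMap k B c) = 0)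
    (b : B) (P : k[X]) (hP : aeval b P = 0) (hsep : P.Separable) : d b = 0 := by
  let _ : Module k M := Module.compHom M (algebraMap k B)
  have : IsScalarTower k B M := IsScalarTower.of_algebraMap_smul fun _ _ => rfl
  let dl : B →ₗ[k] M :=
    { toFun := d
      map_add' := d.map_add
      map_smul' := fun c a => by
        simp only [RingHom.id_apply]
        rw [Algebra.smul_def, hmul, hk, smul_zero, add_zero]
        rfl }
  let D : Derivation k B M := Derivation.mk' dl hmul
  have h1 : D (aeval b P) = aeval b (derivative P) • D b := D.map_aeval P b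
  rw [hP, map_zero] at h1
  obtain ⟨u, v, huv⟩ := hsep
  have h2 : aeval b v * aeval b (derivative P) = 1 := by
    have := congrArg (aeval b) huv
    rw [map_add, map_mul, map_mul, hP, mul_zero, zero_add, map_one] at this
    exact this
  have h3 : D b = (aeval b v * aeval b (derivative P)) • D b := by rw [h2, one_smul]
  rw [mul_smul, ← h1, smul_zero] at h3
  exact h3

/-- On a smooth algebra over a field, an additive Leibniz map killing the constants kills every
element which is integral over the field. -/
theorem d_eq_zero_of_smooth_of_isIntegral {k B : Type u} {M : Type*} [Field k] [CommRing B] [Algebra k B]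
    [Algebra.Smooth k B] [AddCommGroup M] [Module B M]
    (d : B →+ M) (hmul : ∀ a b, d (a * b) = a • d b + b • d a)
    (hk : ∀ c : k, d (algebraMap k B c) = 0)
    (b : B) (hb : IsIntegral k b) : d b = 0 := by
  have : IsReduced (AlgebraicClosure k ⊗[k] B) :=
    Groth.Agent.S9407.result (AlgebraicClosure k) (AlgebraicClosure k ⊗[k] B)
  exact d_eq_zero_of_separable d hmul hk b (minpoly k b) (minpoly.aeval k b)
    (separable_minpoly_of_isReduced_tensor (AlgebraicClosure k) b hb)

end Groth.Agent.Lib.Helper61.SepIntegral
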