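import Mathlib.Geometry.RingedSpace.SheafedSpace
import Mathlib.Geometry.RingedSpace.PresheafedSpace.HasColimits
import Mathlib.Algebra.Category.Ring.Limits
import Mathlib.CategoryTheory.Limits.Shapes.Pullback.IsPullback.Defs
import Mathlib.CategoryTheory.Limits.ConcreteCategory.Basic

/-!
# Sections of the structure sheaf of a pushout of ringed spaces (helper61)

If a commutative square of sheafed spaces (of commutative rings) is a pushout, then over every open
`U` of the pushout the ring of sections is the fibre product of the rings of sections over the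
preimages of `U`: `sections_ext` (joint injectivity) and `sections_glue` (gluing).
-/

set_option autoImplicit false
universe w w' u
open CategoryTheory CategoryTheory.Limits AlgebraicGeometry TopologicalSpace Opposite

namespace Groth.Agent.Lib.Helper61.SheafedPushout

section General

variable {J : Type w} [Category.{w'} J] [HasColimitsOfShape J TopCat.{u}]
  [∀ X : TopCat.{u}, HasLimitsOfShape Jᵒᵖ (X.Presheaf CommRingCat.{u})]
  [HasLimitsOfShape Jᵒᵖ CommRingCat.{u}] [PreservesLimitsOfShape Jᵒᵖ (forget CommRingCat.{u})]
  (F : J ⥤ PresheafedSpace.{_, _, u} CommRingCat.{u})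

/-- Sections of the colimit presheafed space are determined by their images in the members. -/
theorem colimit_sections_ext (U : Opens (colimit F : PresheafedSpace.{_, _, u} CommRingCat.{u})) (s t : (colimit F).presheaf.obj (op U))
    (h : ∀ j, (colimit.ι F j).c.app (op U) s = (colimit.ι F j).c.app (op U) t) : s = t := by
  let φ := PresheafedSpace.colimitPresheafObjIsoComponentwiseLimit F U
  have hinj : Function.Injective φ.hom := by
    intro a b hab
    have := congrArg φ.inv hab
    simpa using this
  apply hinj
  refine Concrete.limit_ext _ _ _ fun j => ?_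
  have hj := PresheafedSpace.colimitPresheafObjIsoComponentwiseLimit_hom_π F U j.unop
  have h1 : ∀ y, (limit.π (PresheafedSpace.componentwiseDiagram F U) j) (φ.hom y) =
      (colimit.ι F j.unop).c.app (op U) y := by
    intro y
    rw [← hj]
    rfl
  rw [h1, h1]
  exact h j.unop

/-- A compatible family of sections over the members glues to a section of the colimit. -/
theorem colimit_sections_glue (U : Opens (colimit F : PresheafedSpace.{_, _, u} CommRingCat.{u}))
    (x : (PresheafedSpace.componentwiseDiagram F U ⋙ forget CommRingCat).sections) :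
    ∃ s : (colimit F).presheaf.obj (op U),
      ∀ j, (colimit.ι F j).c.app (op U) s = x.1 (op j) := by
  let φ := PresheafedSpace.colimitPresheafObjIsoComponentwiseLimit F U
  let hlim := isLimitOfPreserves (forget CommRingCat)
    (limit.isLimit (PresheafedSpace.componentwiseDiagram F U))
  let y := (Types.isLimitEquivSections hlim).symm x
  refine ⟨φ.inv y, fun j => ?_⟩
  have hj := PresheafedSpace.colimitPresheafObjIsoComponentwiseLimit_inv_ι_app F U j
  have h1 : (colimit.ι F j).c.app (op U) (φ.inv y) =
      (limit.π (PresheafedSpace.componentwiseDiagram F U) (op j)) y := by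
    rw [← hj]
    rfl
  rw [h1]
  exact Types.isLimitEquivSections_symm_apply hlim x (op j)

end General

section Transfer

variable {J : Type w} [Category.{w'} J] [HasColimitsOfShape J TopCat.{u}]
  [∀ X : TopCat.{u}, HasLimitsOfShape Jᵒᵖ (X.Presheaf CommRingCat.{u})]
  [HasLimitsOfShape Jᵒᵖ CommRingCat.{u}] [PreservesLimitsOfShape Jᵒᵖ (forget CommRingCat.{u})]
  {F : J ⥤ PresheafedSpace.{_, _, u} CommRingCat.{u}}
  (c : Cocone F) (hc : IsColimit c)

omit [PreservesLimitsOfShape Jᵒᵖ (forget CommRingCat)] in
/-- comparison of the legs of `c` with the legs of the chosen colimit, on sections -/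
theorem key_eq (U : Opens c.pt) (j : J) (y : c.pt.presheaf.obj (op U)) :
    (colimit.ι F j).c.app (op ((Opens.map (colimit.isoColimitCocone ⟨c, hc⟩).hom.base).obj U))
        ((colimit.isoColimitCocone ⟨c, hc⟩).hom.c.app (op U) y) =
      (F.obj j).presheaf.map (eqToHom (by
        rw [← colimit.isoColimitCocone_ι_hom ⟨c, hc⟩ j]; rfl))
        ((c.ι.app j).c.app (op U) y) := by
  have h1 := PresheafedSpace.congr_app (colimit.isoColimitCocone_ι_hom ⟨c, hc⟩ j) (op U)
  rw [PresheafedSpace.comp_c_app] at h1
  exact congrArg (fun g => g.hom y) h1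

include hc in
/-- Sections of a colimit of presheafed spaces are determined by their images in the members. -/
theorem sections_ext_of_isColimit (U : Opens c.pt) (s t : c.pt.presheaf.obj (op U))
    (h : ∀ j, (c.ι.app j).c.app (op U) s = (c.ι.app j).c.app (op U) t) : s = t := by
  let e := colimit.isoColimitCocone ⟨c, hc⟩
  have : IsIso e.hom.c := PresheafedSpace.c_isIso_of_iso e.hom
  have : IsIso (e.hom.c.app (op U)) := inferInstance
  have hinj : Function.Injective (e.hom.c.app (op U)) := by
    intro a b hab
    have := congrArg (inv (e.hom.c.app (op U))) hab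
    simpa using this
  apply hinj
  apply colimit_sections_ext F
  intro j
  rw [key_eq c hc U j s, key_eq c hc U j t, h j]

include hc in
/-- A compatible family of sections over the members of a colimit of presheafed spaces glues. -/
theorem sections_glue_of_isColimit (U : Opens c.pt)
    (x : ∀ j, (F.obj j).presheaf.obj (op ((Opens.map (c.ι.app j).base).obj U)))
    (hx : ∀ {j j' : J} (f : j ⟶ j'),
      (F.map f).c.app _ (x j') =
        (F.obj j).presheaf.map (eqToHom (by rw [← c.w f]; rfl)) (x j)) :
    ∃ s : c.pt.presheaf.obj (op U), ∀ j, (c.ι.app j).c.app (op U) s = x j := by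
  let e := colimit.isoColimitCocone ⟨c, hc⟩
  have he : ∀ j, colimit.ι F j ≫ e.hom = c.ι.app j := colimit.isoColimitCocone_ι_hom ⟨c, hc⟩
  have : IsIso e.hom.c := PresheafedSpace.c_isIso_of_iso e.hom
  have : IsIso (e.hom.c.app (op U)) := inferInstance
  let U₀ := (Opens.map e.hom.base).obj U
  have hop : ∀ j, op ((Opens.map (c.ι.app j).base).obj U) =
      op ((Opens.map (colimit.ι F j).base).obj U₀) := by
    intro j
    rw [← he j]; rfl
  let x₀ : ∀ j : Jᵒᵖ, (PresheafedSpace.componentwiseDiagram F U₀ ⋙ forget CommRingCat).obj j :=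
    fun j => (F.obj j.unop).presheaf.map (eqToHom (hop j.unop)) (x j.unop)
  have hx₀ : x₀ ∈ (PresheafedSpace.componentwiseDiagram F U₀ ⋙ forget CommRingCat).sections := by
    intro j k f
    change ((F.map f.unop).c.app _ ≫ (F.obj k.unop).presheaf.map (eqToHom _))
      ((F.obj j.unop).presheaf.map (eqToHom (hop j.unop)) (x j.unop)) =
      (F.obj k.unop).presheaf.map (eqToHom (hop k.unop)) (x k.unop)
    have hnat := (F.map f.unop).c.naturality (eqToHom (hop j.unop))
    have h3 : (F.map f.unop).c.app _
        ((F.obj j.unop).presheaf.map (eqToHom (hop j.unop)) (x j.unop)) =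
        ((F.map f.unop).base _* (F.obj k.unop).presheaf).map (eqToHom (hop j.unop))
          ((F.map f.unop).c.app _ (x j.unop)) := by
      have := congrArg (fun g => g.hom (x j.unop)) hnat
      exact this
    rw [CommRingCat.comp_apply, h3, hx f.unop]
    change (F.obj k.unop).presheaf.map _ ((F.obj k.unop).presheaf.map _
      ((F.obj k.unop).presheaf.map _ (x k.unop))) = _
    rw [← CommRingCat.comp_apply, ← CommRingCat.comp_apply, ← Functor.map_comp,
      ← Functor.map_comp]
    congr 2
  obtain ⟨s₀, hs₀⟩ := colimit_sections_glue F U₀ ⟨x₀, hx₀⟩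
  refine ⟨inv (e.hom.c.app (op U)) s₀, fun j => ?_⟩
  have h1 := key_eq c hc U j (inv (e.hom.c.app (op U)) s₀)
  have h2 : e.hom.c.app (op U) (inv (e.hom.c.app (op U)) s₀) = s₀ := by
    rw [← CommRingCat.comp_apply, IsIso.inv_hom_id]; rfl
  rw [h2, hs₀ j] at h1
  have hinj : Function.Injective ((F.obj j).presheaf.map (eqToHom (hop j))) := by
    intro a b hab
    have := congrArg (inv ((F.obj j).presheaf.map (eqToHom (hop j)))) hab
    simpa using this
  exact (hinj h1).symm

end Transfer

theorem map_eqToHom_self {T : PresheafedSpace.{_, _, u} CommRingCat.{u}} {V : (Opens T)ᵒᵖ}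
    (h : V = V) (z : T.presheaf.obj V) : T.presheaf.map (eqToHom h) z = z := by
  rw [eqToHom_refl, T.presheaf.map_id]; rfl

theorem map_eqToHom_eqToHom {T : PresheafedSpace.{_, _, u} CommRingCat.{u}} {V W V' : (Opens T)ᵒᵖ}
    (h : V = W) (h' : W = V') (z : T.presheaf.obj V) :
    T.presheaf.map (eqToHom h') (T.presheaf.map (eqToHom h) z) =
      T.presheaf.map (eqToHom (h.trans h')) z := by
  subst h h'
  simp only [map_eqToHom_self]

theorem c_app_of_eq_id {T : PresheafedSpace.{_, _, u} CommRingCat.{u}} (g : T ⟶ T) (hg : g = 𝟙 T)
    (V : (Opens T)ᵒᵖ) (h : V = op ((Opens.map g.base).obj V.unop)) (z : T.presheaf.obj V) :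
    g.c.app V z = T.presheaf.map (eqToHom h) z := by
  subst hg
  rw [PresheafedSpace.id_c_app]
  exact congrArg (fun m => (T.presheaf.map m).hom z) (Subsingleton.elim _ _)

section Pushout

variable {Z X Z' X' : SheafedSpace.{_, _, u} CommRingCat.{u}} {ι : Z ⟶ X} {q : Z ⟶ Z'}
  {π : X ⟶ X'} {ι' : Z' ⟶ X'}

/-- Over an open of a pushout of ringed spaces, sections are determined by their pullbacks to the
two members. -/
theorem sections_ext (hpo : IsPushout ι q π ι') (U : Opens X') (s t : X'.presheaf.obj (op U))
    (h1 : π.hom.c.app (op U) s = π.hom.c.app (op U) t)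
    (h2 : ι'.hom.c.app (op U) s = ι'.hom.c.app (op U) t) : s = t := by
  have hpo' := hpo.map (SheafedSpace.forgetToPresheafedSpace (C := CommRingCat.{u}))
  refine sections_ext_of_isColimit hpo'.cocone hpo'.isColimit (U : Opens hpo'.cocone.pt) s t fun j => ?_
  rcases j with _ | _ | _
  · change ((SheafedSpace.forgetToPresheafedSpace.map ι ≫
        SheafedSpace.forgetToPresheafedSpace.map π).c.app (op U)) s =
      ((SheafedSpace.forgetToPresheafedSpace.map ι ≫
        SheafedSpace.forgetToPresheafedSpace.map π).c.app (op U)) t
    rw [PresheafedSpace.comp_c_app]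
    exact congrArg (ConcreteCategory.hom ((SheafedSpace.forgetToPresheafedSpace.map ι).c.app
      (op ((Opens.map (SheafedSpace.forgetToPresheafedSpace.map π).base).obj U)))) h1
  · exact h1
  · exact h2

theorem opens_eq (hpo : IsPushout ι q π ι') (U : Opens X') :
    (Opens.map q.hom.base).obj ((Opens.map ι'.hom.base).obj U) =
      (Opens.map ι.hom.base).obj ((Opens.map π.hom.base).obj U) := by
  have h := congrArg (fun f => f.hom.base) hpo.w
  change ι.hom.base ≫ π.hom.base = q.hom.base ≫ ι'.hom.base at h
  rw [← Opens.map_comp_obj, ← Opens.map_comp_obj, h]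

/-- Over an open of a pushout of ringed spaces, compatible sections over the two members glue. -/
theorem sections_glue (hpo : IsPushout ι q π ι') (U : Opens X')
    (a : X.presheaf.obj (op ((Opens.map π.hom.base).obj U)))
    (b : Z'.presheaf.obj (op ((Opens.map ι'.hom.base).obj U)))
    (hab : ι.hom.c.app _ a =
      Z.presheaf.map (eqToHom (congrArg op (opens_eq hpo U))) (q.hom.c.app _ b)) :
    ∃ s : X'.presheaf.obj (op U), π.hom.c.app (op U) s = a ∧ ι'.hom.c.app (op U) s = b := by
  have hpo' := hpo.map (SheafedSpace.forgetToPresheafedSpace (C := CommRingCat.{u}))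
  let x : ∀ j : WalkingSpan, ((span (SheafedSpace.forgetToPresheafedSpace.map ι)
      (SheafedSpace.forgetToPresheafedSpace.map q)).obj j).presheaf.obj
      (op ((Opens.map (hpo'.cocone.ι.app j).base).obj (U : Opens hpo'.cocone.pt))) :=
    fun j => match j with
    | none => ι.hom.c.app _ a
    | some WalkingPair.left => a
    | some WalkingPair.right => b
  obtain ⟨s, hs⟩ := sections_glue_of_isColimit hpo'.cocone hpo'.isColimit
    (U : Opens hpo'.cocone.pt) x (by
      intro j j' f
      cases f with
      | id j =>
        exact c_app_of_eq_id _ ((span (SheafedSpace.forgetToPresheafedSpace.map ι)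
          (SheafedSpace.forgetToPresheafedSpace.map q)).map_id j) _ _ _
      | init i =>
        cases i with
        | left =>
          exact (map_eqToHom_self (T := Z.toPresheafedSpace) _ _).symm
        | right =>
          change q.hom.c.app _ b = Z.presheaf.map (eqToHom _) (ι.hom.c.app _ a)
          rw [hab]
          exact ((map_eqToHom_eqToHom (T := Z.toPresheafedSpace) _ _ _).trans
            (map_eqToHom_self (T := Z.toPresheafedSpace) _ _)).symm)
  exact ⟨s, hs (some WalkingPair.left), hs (some WalkingPair.right)⟩

end Pushout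

end Groth.Agent.Lib.Helper61.SheafedPushout
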