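import Mathlib.Topology.Sheaves.SheafCondition.UniqueGluing
import Mathlib.Topology.Sheaves.Abelian
import Mathlib.CategoryTheory.Sites.Abelian
import Mathlib.CategoryTheory.Sites.LocallySurjective
import Mathlib.Algebra.Category.Grp.Abelian
import Mathlib.Algebra.Category.Grp.Limits
import Mathlib.Algebra.Category.Grp.FilteredColimits
import Mathlib.Topology.Sheaves.Sheafify
import Mathlib.Topology.Sheaves.Stalks
import Mathlib.Algebra.Category.Grp.Zero

/-!
# The stalk of the sheafification of a presheaf vanishing on small basic opens is zero (helper61)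
-/

set_option autoImplicit false
universe u
open CategoryTheory Limits Opposite TopologicalSpace

namespace Groth.Agent.Lib.Helper61.StalkSheafifyZero

variable {Y : TopCat.{u}}

/-- If a presheaf of abelian groups `P` vanishes on all members of a basis contained in a fixed
open neighbourhood `V₀` of `y`, then the stalk at `y` of its sheafification is zero. -/
theorem isZero_stalk_presheafToSheaf_of_basis (P : (Opens Y)ᵒᵖ ⥤ AddCommGrpCat.{u}) (y : Y)
    (V₀ : Opens Y) (hy : y ∈ V₀) (B : Set (Opens Y)) (hB : Opens.IsBasis B)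
    (hP : ∀ V ∈ B, V ≤ V₀ → Subsingleton (P.obj (op V))) :
    IsZero (TopCat.Presheaf.stalk
      ((presheafToSheaf (Opens.grothendieckTopology Y) AddCommGrpCat.{u}).obj P).obj y) := by
  set Q : TopCat.Presheaf AddCommGrpCat.{u} Y :=
    ((presheafToSheaf (Opens.grothendieckTopology Y) AddCommGrpCat.{u}).obj P).obj with hQ
  have hsub : Subsingleton ↑(TopCat.Presheaf.stalk Q y) := by
    refine ⟨fun a b => ?_⟩
    suffices H : ∀ z : ↑(TopCat.Presheaf.stalk Q y), z = 0 by rw [H a, H b]
    intro z
    obtain ⟨W, hyW, t, rfl⟩ := TopCat.Presheaf.exists_germ_eq Q z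
    have hls : Presheaf.IsLocallySurjective (Opens.grothendieckTopology Y)
        (toSheafify (Opens.grothendieckTopology Y) P) := inferInstance
    have hmem := hls.imageSieve_mem t
    obtain ⟨U, f, ⟨s, hs⟩, hyU⟩ := hmem y hyW
    obtain ⟨_, ⟨V, hVB, rfl⟩, hyV, hVU⟩ :=
      hB.exists_subset_of_mem_open (show y ∈ ((U ⊓ V₀ : Opens Y) : Set Y) from ⟨hyU, hy⟩)
        (U ⊓ V₀).isOpen
    have hVU' : V ≤ U := fun x hx => (hVU hx).1
    have hVV₀ : V ≤ V₀ := fun x hx => (hVU hx).2
    haveI := hP V hVB hVV₀
    have h0 : P.map (homOfLE hVU').op s = 0 := Subsingleton.elim _ _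
    have hnat := ConcreteCategory.congr_hom
      ((toSheafify (Opens.grothendieckTopology Y) P).naturality (homOfLE hVU').op) s
    simp only [ConcreteCategory.comp_apply] at hnat
    rw [h0, map_zero, hs] at hnat
    -- `t` restricted to `V` is zero
    have ht : Q.map (homOfLE (hVU'.trans f.le)).op t = 0 := by
      have : (homOfLE (hVU'.trans f.le)).op = f.op ≫ (homOfLE hVU').op := rfl
      rw [this, Functor.map_comp, ConcreteCategory.comp_apply]
      exact hnat.symm
    rw [← TopCat.Presheaf.germ_res_apply Q (homOfLE (hVU'.trans f.le)) y hyV t, ht, map_zero]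
  exact AddCommGrpCat.isZero_of_subsingleton _

end Groth.Agent.Lib.Helper61.StalkSheafifyZero
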