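import Mathlib

set_option autoImplicit false
universe u

namespace Groth.Agent.Lib.Helper61.StdEtaleOpen

open AlgebraicGeometry CategoryTheory Polynomial

/-- A standard étale algebra is an open subscheme of `Spec (R[t]/p)[1/p']`. -/
theorem exists_openImmersion_of_isStandardEtale (R S : Type u) [CommRing R] [CommRing S]
    [Algebra R S] [Algebra.IsStandardEtale R S] :
    ∃ (p : R[X]) (_ : p.Monic)
      (θ : Localization.Away (AdjoinRoot.mk p (derivative p)) →ₐ[R] S),
      IsOpenImmersion (Spec.map (CommRingCat.ofHom θ.toRingHom)) := by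
  classical
  let pres : StandardEtalePresentation R S :=
    Algebra.IsStandardEtale.nonempty_standardEtalePresentation.some
  let P : StandardEtalePair R := pres.P
  let Ad := AdjoinRoot P.f
  let x : Ad := AdjoinRoot.mk P.f (derivative P.f)
  let y : Ad := AdjoinRoot.mk P.f P.g
  let T := Localization.Away x
  let L := Localization.Away y
  have hx : IsUnit (algebraMap Ad L x) := by
    obtain ⟨p₁, p₂, n, e⟩ := P.cond
    have e' : x * AdjoinRoot.mk P.f p₁ = y ^ n := by
      have := congrArg (AdjoinRoot.mk P.f) e
      simpa [x, y] using this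
    have hy : IsUnit (algebraMap Ad L (y ^ n)) := by
      rw [map_pow]
      exact (IsLocalization.Away.algebraMap_isUnit (S := L) y).pow n
    rw [← e', map_mul] at hy
    exact isUnit_of_mul_isUnit_left hy
  let lam : T →ₐ[R] L :=
    IsLocalization.Away.liftAlgHom x (f := IsScalarTower.toAlgHom R Ad L) hx
  algebraize [lam.toRingHom]
  have t1 : IsScalarTower Ad T L := by
    refine .of_algebraMap_eq' ?_
    ext a
    · simp only [RingHom.algebraMap_toAlgebra, lam, T, RingHom.comp_apply]
      erw [IsLocalization.Away.liftAlgHom_apply, IsLocalization.Away.lift_eq]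
      rfl
    · simp only [RingHom.algebraMap_toAlgebra, lam, T, RingHom.comp_apply]
      erw [IsLocalization.Away.liftAlgHom_apply, IsLocalization.Away.lift_eq]
      rfl
  have l0 : IsLocalization.Away (algebraMap Ad L x) L :=
    IsLocalization.away_of_isUnit_of_bijective _ hx Function.bijective_id
  have l1 : IsLocalization.Away (algebraMap Ad T y) L :=
    IsLocalization.Away.commutes (S₁ := T) (S₂ := L) (T := L) x y
  have o1 : IsOpenImmersion (Spec.map (CommRingCat.ofHom (algebraMap T L))) :=
    IsOpenImmersion.of_isLocalization (algebraMap Ad T y)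
  let ε : L ≃ₐ[R] S := (pres.equivRing.trans P.equivAwayAdjoinRoot).symm
  refine ⟨P.f, P.monic_f, ε.toAlgHom.comp lam, ?_⟩
  have h1 : CommRingCat.ofHom (ε.toAlgHom.comp lam).toRingHom =
      CommRingCat.ofHom (algebraMap T L) ≫ CommRingCat.ofHom ε.toRingEquiv.toRingHom := rfl
  rw [h1, Spec.map_comp]
  have H : IsIso (CommRingCat.ofHom ε.toRingEquiv.toRingHom) :=
    inferInstanceAs (IsIso ε.toRingEquiv.toCommRingCatIso.hom)
  infer_instance

end Groth.Agent.Lib.Helper61.StdEtaleOpen
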