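import Groth.Prelude.Def_CohTop
import Groth.Agent.Lib.Lead.FreeSheaf
import Mathlib.CategoryTheory.Sites.SheafCohomology.MayerVietoris
import Mathlib.Topology.Sheaves.MayerVietoris

/-!
# `H¹` of a union of two opens via Mayer–Vietoris (helper61)

For an abelian sheaf `F` on a space and opens `V`, `W` with `H¹(V, F) = H¹(W, F) = 0`:
if every section of `F` over `V ⊓ W` is a sum of (restrictions of) a section over `V` and a
section over `W`, then `H¹(V ⊔ W, F) = 0` (`subsingleton_HU_one_sup`).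

Also `ev0 : H⁰(V, F) ≃+ F(V)`, compatible with restrictions (`ev0_res`).
-/

set_option autoImplicit false
universe u
open CategoryTheory Limits Opposite TopologicalSpace

namespace Groth.Agent.Lib.Helper61.TwoCoverH1

open Groth.Agent.Lib.Lead

variable {X : TopCat.{u}} (F : CohTop.Ab X)

/-- maps out of `ℤ_V` are sections over `V`, additively. -/
noncomputable def evAdd (V : Opens X) : (ZU V ⟶ F) ≃+ F.obj.obj (op V) :=
  AddEquiv.ofBijective
    ({ toFun := ZUev V F
       map_zero' := by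
         unfold ZUev
         rfl
       map_add' := fun φ ψ => by
         unfold ZUev
         rfl } : (ZU V ⟶ F) →+ F.obj.obj (op V)) (ZUev_bijective V F)

/-- `H^0(V, F) = F(V)`. -/
noncomputable def ev0 (V : Opens X) : CohTop.HU F 0 V ≃+ F.obj.obj (op V) :=
  (Abelian.Ext.addEquiv₀ (X := ZU V) (Y := F)).trans (evAdd F V)

lemma ev0_res {V W : Opens X} (h : W ≤ V) (x : CohTop.HU F 0 V) :
    ev0 F W (CohTop.res F 0 h x) = F.obj.map (homOfLE h).op (ev0 F V x) := by
  obtain ⟨φ, rfl⟩ := (Abelian.Ext.addEquiv₀ (X := ZU V) (Y := F)).symm.surjective x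
  change evAdd F W (Abelian.Ext.addEquiv₀ ((Abelian.Ext.mk₀ (ZUmap h)).comp
    (Abelian.Ext.mk₀ φ) (zero_add 0))) = F.obj.map (homOfLE h).op
      (evAdd F V (Abelian.Ext.addEquiv₀ (Abelian.Ext.mk₀ φ)))
  have hm : ∀ {A B : CohTop.Ab X} (ψ : A ⟶ B),
      Abelian.Ext.addEquiv₀ (Abelian.Ext.mk₀ ψ) = ψ := fun ψ => by
    rw [← Abelian.Ext.addEquiv₀_symm_apply, AddEquiv.apply_symm_apply]
  rw [Abelian.Ext.mk₀_comp_mk₀, hm, hm]
  exact ZUev_map h F φ

lemma ev0_sub_res {V W Z : Opens X} (hV : Z ≤ V) (hW : Z ≤ W) (y₁ : CohTop.HU F 0 V)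
    (y₂ : CohTop.HU F 0 W) :
    ev0 F Z (CohTop.res F 0 hV y₁ - CohTop.res F 0 hW y₂) =
      F.obj.map (homOfLE hV).op (ev0 F V y₁) - F.obj.map (homOfLE hW).op (ev0 F W y₂) := by
  rw [map_sub, ev0_res, ev0_res]

/-- **Two-open criterion for `H¹ = 0`.** -/
theorem subsingleton_HU_one_sup (V W : Opens X)
    (hV : Subsingleton (CohTop.HU F 1 V)) (hW : Subsingleton (CohTop.HU F 1 W))
    (hdec : ∀ s : F.obj.obj (op (V ⊓ W)), ∃ (a : F.obj.obj (op V)) (b : F.obj.obj (op W)),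
      s = F.obj.map (homOfLE (inf_le_left : V ⊓ W ≤ V)).op a +
        F.obj.map (homOfLE (inf_le_right : V ⊓ W ≤ W)).op b) :
    Subsingleton (CohTop.HU F 1 (V ⊔ W)) := by
  let S := Opens.mayerVietorisSquare V W
  have hex := (S.sequence_exact F 0 1 rfl).exact 2
  rw [ShortComplex.ab_exact_iff] at hex
  have hzero := S.fromBiprod_δ F 0 1 rfl
  refine ⟨fun x y => ?_⟩
  have h0 : ∀ z : CohTop.HU F 1 (V ⊔ W), z = 0 := by
    intro z
    have hz : (S.toBiprod F 1) z = 0 := by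
      have : Subsingleton ((F.H' 1 S.X₂ ⊞ F.H' 1 S.X₃ : AddCommGrpCat)) := by
        apply AddCommGrpCat.subsingleton_of_isZero
        have h2 : IsZero (F.H' 1 S.X₂) :=
          @AddCommGrpCat.isZero_of_subsingleton (F.H' 1 S.X₂) hV
        have h3 : IsZero (F.H' 1 S.X₃) :=
          @AddCommGrpCat.isZero_of_subsingleton (F.H' 1 S.X₃) hW
        exact (biprod_isZero_iff _ _).mpr ⟨h2, h3⟩
      exact Subsingleton.elim _ _
    obtain ⟨w, hw⟩ := hex z hz
    -- decompose `w`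
    let w' : CohTop.HU F 0 (V ⊓ W) := w
    obtain ⟨a, b, hab⟩ := hdec (ev0 F (V ⊓ W) w')
    let y₁ : CohTop.HU F 0 V := (ev0 F V).symm a
    let y₂ : CohTop.HU F 0 W := (ev0 F W).symm (-b)
    have hw' : S.fromBiprod F 0 ((AddCommGrpCat.biprodIsoProd _ _).inv
        ⟨(y₁ : F.H' 0 S.X₂), (y₂ : F.H' 0 S.X₃)⟩) = w := by
      refine (GrothendieckTopology.MayerVietorisSquare.fromBiprod_biprodIsoProd_inv_apply
        S F _ _).trans ?_
      apply (ev0 F (V ⊓ W)).injective
      refine (ev0_sub_res F inf_le_left inf_le_right y₁ y₂).trans ?_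
      change _ = ev0 F (V ⊓ W) w'
      rw [hab, AddEquiv.apply_symm_apply, AddEquiv.apply_symm_apply, map_neg, sub_neg_eq_add]
    rw [← hw, ← hw']
    exact ConcreteCategory.congr_hom hzero _
  rw [h0 x, h0 y]

end Groth.Agent.Lib.Helper61.TwoCoverH1
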