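import Groth.Agent.Lib.Helper18.CoprodFinite
import Groth.Agent.Lib.Helper49.FreeMod
import Groth.Agent.Lib.Helper61.TwoCoverH1
import Groth.Agent.Lib.Helper1.AffineVanishing
import Groth.Agent.Lib.Helper1.ShCohTop
import Groth.Prelude.Def_Curv2

/-!
# `H¹ = 0` for globally generated quasi-coherent modules on a scheme covered by two affines
(helper61)

`X = U ∪ V` with `U`, `V`, `U ⊓ V` affine.  `Decomp U V M`: every section of `M` over `U ⊓ V` is a sum
of restrictions of a section over `U` and a section over `V`.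

* `decomp_sigma_const`: `Decomp` passes to finite coproducts of copies of a module;
* `decomp_of_isGloballyGenerated`: if `Decomp U V O_X`, then `Decomp U V F` for every globally
  generated quasi-coherent `F`;
* `subsingleton_HH_one_of_decomp`: `Decomp U V F`, `F` quasi-coherent ⇒ `H¹(X, F) = 0`;
* `subsingleton_HH_one_of_isGloballyGenerated`: the combination.
-/

set_option autoImplicit false
set_option linter.style.haveILetI false
universe u
open AlgebraicGeometry CategoryTheory Limits TopologicalSpace Opposite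

namespace Groth.Agent.Lib.Helper61.TwoCoverGG

open Groth.Agent.Lib.Helper18 Groth.Agent.Lib.Helper18.LSubM Groth.Agent.Lib.Helper18.CoprodLocal
  Groth.Agent.Lib.Helper49 Groth.Agent.Lib.Helper45

variable {X : Scheme.{u}} (U V : X.Opens)

/-- every section over `U ⊓ V` is a sum of restrictions of sections over `U` and over `V`. -/
def Decomp (M : X.Modules) : Prop :=
  ∀ t : Γ(M, U ⊓ V), ∃ (α : Γ(M, U)) (β : Γ(M, V)),
    t = mres M (inf_le_left : U ⊓ V ≤ U) α + mres M (inf_le_right : U ⊓ V ≤ V) β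

variable {U V}

theorem decomp_app {A F : X.Modules} (g : A ⟶ F) (hA : Decomp U V A) (m : Γ(A, U ⊓ V)) :
    ∃ (α : Γ(F, U)) (β : Γ(F, V)),
      g.app (U ⊓ V) m = mres F (inf_le_left : U ⊓ V ≤ U) α +
        mres F (inf_le_right : U ⊓ V ≤ V) β := by
  obtain ⟨a, b, rfl⟩ := hA m
  exact ⟨g.app U a, g.app V b, by rw [map_add, app_mres, app_mres]⟩

theorem decomp_sigma_const {κ : Type u} [Fintype κ] [DecidableEq κ] (M : X.Modules)
    (hM : Decomp U V M) : Decomp U V (∐ fun _ : κ => M) := by
  intro t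
  let f : κ → X.Modules := fun _ => M
  let π : ∀ j : κ, ∐ f ⟶ M := fun j => Sigma.desc (fun j' : κ => if j' = j then 𝟙 M else 0)
  have hid : ∑ j : κ, π j ≫ Sigma.ι f j = 𝟙 (∐ f) := by
    apply Sigma.hom_ext
    intro j'
    rw [Preadditive.comp_sum, Category.comp_id]
    rw [Finset.sum_eq_single j']
    · rw [← Category.assoc, Sigma.ι_desc, if_pos rfl, Category.id_comp]
    · intro j _ hj
      rw [← Category.assoc, Sigma.ι_desc, if_neg (Ne.symm hj), zero_comp]
    · intro h
      exact absurd (Finset.mem_univ j') h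
  have ht : t = ∑ j : κ, (Sigma.ι f j).app (U ⊓ V) ((π j).app (U ⊓ V) t) := by
    have h1 := congrArg (fun φ : ∐ f ⟶ ∐ f => φ.app (U ⊓ V) t) hid
    simp only [sum_app_apply] at h1
    exact h1.symm
  choose a b hab using fun j => hM ((π j).app (U ⊓ V) t)
  refine ⟨∑ j, (Sigma.ι f j).app U (a j), ∑ j, (Sigma.ι f j).app V (b j), ?_⟩
  refine ht.trans ?_
  rw [map_sum, map_sum, ← Finset.sum_add_distrib]
  refine Finset.sum_congr rfl fun j _ => ?_
  rw [← app_mres, ← app_mres, ← map_add, ← hab j]

/-- **Globally generated quasi-coherent modules inherit the decomposition property of `O_X`.** -/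
theorem decomp_of_isGloballyGenerated (F : X.Modules) [F.IsQuasicoherent]
    (hgg : Curv2.IsGloballyGenerated F) (hW : IsAffineOpen (U ⊓ V))
    (hO : Decomp U V (Coh.structureModule X)) : Decomp U V F := by
  classical
  obtain ⟨ι, p, hp⟩ := hgg
  let P : ι → X.Modules := fun _ => Coh.structureModule X
  let π : ∐ P ⟶ F := p
  haveI : Epi π := hp
  haveI : ∀ k, (P k).IsQuasicoherent := fun k => isQuasicoherent_structureModule X
  haveI : (∐ P).IsQuasicoherent := isQuasicoherent_sigma P
  intro t
  obtain ⟨m, rfl⟩ := EpiAffine.app_surjective_of_epi π hW t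
  obtain ⟨T, hT⟩ := exists_finset_mem_ofImage P π hW.isCompact m
  have h1 := hT T (Finset.Subset.refl T)
  let g := piT P π T
  let S := LSub.ofImage g
  haveI : ∀ k : T, (P k.1).IsQuasicoherent := fun k => isQuasicoherent_structureModule X
  haveI : (∐ fun k : T => P k.1).IsQuasicoherent := isQuasicoherent_sigma (fun k : T => P k.1)
  haveI : S.toModules.IsQuasicoherent := LSub.ofImage_isQuasicoherent g
  obtain ⟨e, he⟩ := LSub.exists_iso_image g
  let g' : (∐ fun k : T => P k.1) ⟶ S.toModules := Abelian.factorThruImage g ≫ e.inv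
  have hg' : g' ≫ S.ι = g := by
    rw [Category.assoc, ← he, Iso.inv_hom_id_assoc, Abelian.image.fac]
  haveI : Epi g' := epi_comp _ _
  obtain ⟨m', hm'⟩ := EpiAffine.app_surjective_of_epi g' hW (S.sec (U ⊓ V) _ h1)
  have h2 : g.app (U ⊓ V) m' = π.app (U ⊓ V) m := by
    have h3 : (g' ≫ S.ι).app (U ⊓ V) m' = S.ι.app (U ⊓ V) (g'.app (U ⊓ V) m') := rfl
    rw [← hg', h3, hm', LSub.ι_app_sec]
  rw [← h2]
  exact decomp_app g (decomp_sigma_const (κ := T) _ hO) m'

/-- **`Decomp` gives `H¹ = 0`** on a scheme covered by two affine opens. -/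
theorem subsingleton_HH_one_of_decomp (F : X.Modules) [F.IsQuasicoherent]
    (hU : IsAffineOpen U) (hV : IsAffineOpen V) (hcov : U ⊔ V = ⊤) (hF : Decomp U V F) :
    Subsingleton (Coh.HH X F 1) := by
  have h := TwoCoverH1.subsingleton_HU_one_sup (X := X.toTopCat) (Coh.toAb F) U V
    (Groth.Agent.Lib.Helper1.subsingleton_HU_of_isAffineOpen F U hU 0)
    (Groth.Agent.Lib.Helper1.subsingleton_HU_of_isAffineOpen F V hV 0)
    (fun s => by
      obtain ⟨α, β, h⟩ := hF s
      exact ⟨α, β, h⟩)
  rw [hcov] at h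
  exact @Equiv.subsingleton _ _
    (Groth.Agent.Lib.Helper1.HUTopEquivH (Coh.toAb F) 1).symm.toEquiv h

theorem subsingleton_HH_one_of_isGloballyGenerated (F : X.Modules) [F.IsQuasicoherent]
    (hgg : Curv2.IsGloballyGenerated F) (hU : IsAffineOpen U) (hV : IsAffineOpen V)
    (hW : IsAffineOpen (U ⊓ V)) (hcov : U ⊔ V = ⊤)
    (hO : Decomp U V (Coh.structureModule X)) : Subsingleton (Coh.HH X F 1) :=
  subsingleton_HH_one_of_decomp F hU hV hcov (decomp_of_isGloballyGenerated F hgg hW hO)

end Groth.Agent.Lib.Helper61.TwoCoverGG
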